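import Cfsg.Agent.Lib.Transfer.SubThree.SDCore
import Cfsg.Agent.Lib.Invol.GW.Consumers.CentStruct
import Cfsg.Agent.Lib.Invol.GW.Dihedral.ThreeDoneFinal
import Cfsg.Agent.Lib.Invol.SD16Core.Main
import Cfsg.Agent.Lib.Block.Zas.FieldCongr
import Cfsg.Agent.S2916

/-!
# Simple groups with semidihedral Sylow subgroups and a self-centralising four-group
-/

set_option autoImplicit false
set_option linter.unusedSectionVars false
set_option linter.style.haveILetI false

namespace Cfsg.Agent.Transfer.SubThree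

open Subgroup

universe u

theorem qd_congr {P Q : Type*} [Group P] [Group Q] (e : P ≃* Q) (h : Cfsg.IsQuasiDihedral P) :
    Cfsg.IsQuasiDihedral Q := by
  obtain ⟨n, hn, hc, x, y, hx, hy, hxy⟩ := h
  exact ⟨n, hn, by rw [← Nat.card_congr e.toEquiv, hc], e x, e y, by rw [MulEquiv.orderOf_eq, hx],
    by rw [MulEquiv.orderOf_eq, hy], by rw [← map_inv, ← map_mul, ← map_mul, ← map_pow, hxy]⟩

/-- Conjugation of an involution into its coset modulo an odd normal subgroup. -/
theorem conj_in_coset {C : Type*} [Group C] [Finite C] {O : Subgroup C} (hO : (Nat.card O).Coprime 2)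
    {v v' : C} (hv : v * v = 1) (hv' : v' * v' = 1) (ho : v * v' ∈ O) :
    ∃ d ∈ O, d⁻¹ * v * d = v' := by
  set o := v * v' with hodef
  have hodd : Odd (orderOf o) := Nat.coprime_two_right.1 (hO.coprime_dvd_left (Subgroup.orderOf_dvd_natCard _ ho))
  obtain ⟨m, hm⟩ := hodd
  refine ⟨o ^ (m + 1), pow_mem ho _, ?_⟩
  have hinv : v * o * v⁻¹ = o⁻¹ := by
    rw [hodef, mul_inv_rev, inv_eq_of_mul_eq_one_right hv, inv_eq_of_mul_eq_one_right hv',
      ← mul_assoc v v v', hv, one_mul]
  have hpow : v * o ^ (m + 1) = (o ^ (m + 1))⁻¹ * v := by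
    rw [← inv_pow, ← hinv, conj_pow, inv_mul_cancel_right]
  have ho' : (o ^ (m + 1))⁻¹ * (o ^ (m + 1))⁻¹ = o⁻¹ := by
    rw [← mul_inv_rev, ← pow_add, show m + 1 + (m + 1) = (2 * m + 1) + 1 by omega, pow_succ, ← hm,
      pow_orderOf_eq_one, one_mul]
  rw [mul_assoc, hpow, ← mul_assoc, ho', hodef, mul_inv_rev, inv_eq_of_mul_eq_one_right hv,
    inv_eq_of_mul_eq_one_right hv', mul_assoc, hv, mul_one]

/-- A simple group with semidihedral Sylow subgroups and a self-centralising four-group. -/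
theorem sd_simple {G : Type u} [Group G] [Finite G] [IsSimpleGroup G] (hna : ¬ IsMulCommutative G)
    (S : Sylow 2 G) (hS : Cfsg.IsQuasiDihedral (S : Subgroup G)) (h16 : 16 ≤ Nat.card (S : Subgroup G))
    {V : Subgroup G} (hV : Nat.card V = 4) (hVS : V ≤ (S : Subgroup G)) (hV2 : ∀ v ∈ V, v * v = 1)
    (hCV : ∀ g : G, (∀ w ∈ V, g * w = w * g) → g ∈ V)
    {z : G} (hzV : z ∈ V) (hz1 : z ≠ 1) (hzS : ∀ s ∈ (S : Subgroup G), s * z = z * s) :
    Nonempty (G ≃* Matrix.ProjectiveSpecialLinearGroup (Fin 3) (ZMod 3)) ∨ Cfsg.Spor.IsoM11 G := by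
  classical
  haveI : Fact (Nat.Prime 2) := ⟨Nat.prime_two⟩
  have hz : orderOf z = 2 := orderOf_eq_prime (by rw [pow_two, hV2 z hzV]) hz1
  obtain ⟨v, hvV, hv1, hvz⟩ : ∃ v ∈ V, v ≠ 1 ∧ v ≠ z := by
    by_contra hno
    push Not at hno
    have hle : (V : Set G) ⊆ {1, z} := fun w hw => (em (w = 1)).imp id fun h1 => hno w hw h1
    have := Set.ncard_le_ncard hle (Set.toFinite _)
    rw [← Nat.card_coe_set_eq, Set.ncard_pair hz1.symm] at this
    change Nat.card V ≤ 2 at this
    omega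
  have hgen := four_gen hV hvV hzV hv1 hz1 hvz
  have hcV : ∀ g : G, g * v = v * g → g * z = z * g → g ∈ V := by
    intro g h1 h2
    refine hCV g fun w hw => ?_
    rw [← hgen] at hw
    have : w ∈ centralizer ({g} : Set G) := by
      refine (closure_le _).2 ?_ hw
      rintro x (rfl | rfl)
      exacts [cent_iff.2 h1.symm, cent_iff.2 h2.symm]
    exact (cent_iff.1 this).symm
  -- a mover
  obtain ⟨y, hyS, hyV⟩ : ∃ y ∈ (S : Subgroup G), y * v * y⁻¹ = v * z := by
    haveI : Group.IsNilpotent (S : Subgroup G) := S.2.isNilpotent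
    have hlt : V.subgroupOf (S : Subgroup G) < ⊤ := lt_top_iff_ne_top.2 fun e => by
      have := Nat.card_congr (subgroupOfEquivOfLe hVS).toEquiv
      rw [e, card_top, hV] at this
      omega
    obtain ⟨y, hy, hynV⟩ := SetLike.exists_of_lt (Group.normalizerCondition_of_isNilpotent _ hlt)
    refine ⟨y, y.2, ?_⟩
    have hm : (y : G) * v * (y : G)⁻¹ ∈ V :=
      mem_subgroupOf.1 ((mem_normalizer_iff.1 hy ⟨v, hVS hvV⟩).1 (mem_subgroupOf.2 hvV))
    have h1 : (y : G) * v * (y : G)⁻¹ ≠ v := fun e =>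
      hynV (mem_subgroupOf.2 (hcV y (mul_inv_eq_iff_eq_mul.1 e) (hzS y y.2)))
    have h2 : (y : G) * v * (y : G)⁻¹ ≠ z := fun e => hvz (by
      have e' : v = (y : G)⁻¹ * z * y := by rw [← e]; group
      rw [e', mul_assoc, ← hzS y y.2, inv_mul_cancel_left])
    have h3 : (y : G) * v * (y : G)⁻¹ ≠ 1 := fun e => hv1 (conj_eq_one_iff.1 e)
    have h4 : (y : G) * v * (y : G)⁻¹ * v⁻¹ ∈ V := mul_mem hm (inv_mem hvV)
    have hlist : ∀ w ∈ V, w = 1 ∨ w = z ∨ w = v ∨ w = v * z := by
      intro w hw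
      by_contra hno
      push Not at hno
      have hs : ({1, z, v, v * z, w} : Finset G).card = 5 := by
        have hvzne : v * z ≠ 1 := fun e => hvz (by
          rw [mul_eq_one_iff_eq_inv, inv_eq_of_mul_eq_one_right (hV2 z hzV)] at e; exact e)
        rw [Finset.card_insert_of_notMem, Finset.card_insert_of_notMem, Finset.card_insert_of_notMem,
          Finset.card_insert_of_notMem, Finset.card_singleton] <;>
          simp [hz1, hz1.symm, hv1, hv1.symm, hvz, hvz.symm, hvzne.symm, hno.1.symm, hno.2.1.symm,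
            hno.2.2.1.symm, hno.2.2.2.symm]
      letI := Fintype.ofFinite V
      have hsub : ({1, z, v, v * z, w} : Finset G) ⊆ (V : Set G).toFinset := by
        intro a ha
        simp only [Finset.mem_insert, Finset.mem_singleton] at ha
        rw [Set.mem_toFinset]
        rcases ha with rfl | rfl | rfl | rfl | rfl
        exacts [one_mem _, hzV, hvV, mul_mem hvV hzV, hw]
      have := Finset.card_le_card hsub
      rw [hs, Set.toFinset_card, ← Nat.card_eq_fintype_card] at this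
      change 5 ≤ Nat.card V at this
      omega
    rcases hlist _ hm with e | e | e | e
    exacts [absurd e h3, absurd e h2, absurd e h1, e]
  set Cz := centralizer ({z} : Set G) with hCz
  have hSC : (S : Subgroup G) ≤ Cz := fun s hs => cent_iff.2 (hzS s hs)
  let O : Subgroup Cz := Cfsg.oddCore Cz
  haveI hOn : (Cfsg.oddCore Cz).Normal := Grp.pPrimeCore_isNormal
  have hcop : (Nat.card (Cfsg.oddCore Cz)).Coprime 2 := Grp.pPrimeCore_coprime
  set π := QuotientGroup.mk' (Cfsg.oddCore Cz) with hπ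
  have hπs : Function.Surjective π := QuotientGroup.mk'_surjective _
  have hOinv : ∀ w : Cz, w ∈ Cfsg.oddCore Cz → w * w = 1 → w = 1 := by
    intro w hw h2
    by_contra h1
    have := Subgroup.orderOf_dvd_natCard _ hw
    rw [orderOf_eq_prime (by rw [pow_two, h2]) h1] at this
    exact (Nat.prime_two.coprime_iff_not_dvd.1 hcop.symm) this
  let z' : Cz := ⟨z, cent_iff.2 rfl⟩
  let v' : Cz := ⟨v, hSC (hVS hvV)⟩
  let y' : Cz := ⟨y, hSC hyS⟩
  have hz' : z' * z' = 1 := Subtype.ext (hV2 z hzV)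
  have hv' : v' * v' = 1 := Subtype.ext (hV2 v hvV)
  have hne : ∀ w : Cz, w * w = 1 → (w : G) ≠ 1 → orderOf (π w) = 2 := fun w h2 h1 =>
    orderOf_eq_prime (by rw [← map_pow, pow_two, h2, map_one]) fun e => h1 (by
      rw [hOinv w ((QuotientGroup.eq_one_iff w).1 e) h2]; rfl)
  -- the centraliser of the image of `v`
  have hVC : V ≤ Cz := hVS.trans hSC
  have hCv : centralizer ({π v'} : Set (Cz ⧸ Cfsg.oddCore Cz)) = (V.subgroupOf Cz).map π := by
    refine le_antisymm (fun w hw => ?_) ?_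
    · obtain ⟨x, rfl⟩ := hπs w
      rw [cent_iff, ← map_mul, ← map_mul] at hw
      set w' := x * v' * x⁻¹ with hw'def
      have hw2 : w' * w' = 1 := by
        rw [hw'def, show x * v' * x⁻¹ * (x * v' * x⁻¹) = x * (v' * v') * x⁻¹ by group, hv', mul_one, mul_inv_cancel]
      have ho : v' * w' ∈ Cfsg.oddCore Cz := by
        rw [← QuotientGroup.eq_one_iff]
        show π (v' * w') = 1
        rw [hw'def, map_mul, map_mul π (x * v'), hw, map_mul π v' x, map_inv, mul_inv_cancel_right, ← map_mul, hv',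
          map_one]
      obtain ⟨d, hd, hdv⟩ := conj_in_coset hcop hv' hw2 ho
      have hdx : (d * x : Cz) * v' = v' * (d * x) := by
        calc d * x * v' = d * (x * v' * x⁻¹) * x := by group
          _ = d * (d⁻¹ * v' * d) * x := by rw [hdv]
          _ = v' * (d * x) := by group
      refine ⟨d * x, mem_subgroupOf.2 (hcV _ (congrArg Subtype.val hdx) (cent_iff.1 (d * x).2)), ?_⟩
      rw [map_mul, show π d = 1 from (QuotientGroup.eq_one_iff d).2 hd, one_mul]
    · rintro _ ⟨a, ha, rfl⟩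
      rw [cent_iff, ← map_mul, ← map_mul]
      exact congrArg π (Subtype.ext (mul_comm_of_sq hV2 (mem_subgroupOf.1 ha) hvV))
  obtain ⟨R, hR⟩ : ∃ R : Sylow 2 Cz, (R : Subgroup Cz) = (S : Subgroup G).subgroupOf Cz :=
    ⟨S.subtype hSC, rfl⟩
  obtain ⟨e'⟩ := Invol.GW.sylow_mapSurjective_equiv R (Cfsg.oddCore Cz) hcop
  let e : (S : Subgroup G) ≃* ↥((R.mapSurjective hπs : Sylow 2 _) : Subgroup (Cz ⧸ Cfsg.oddCore Cz)) :=
    ((subgroupOfEquivOfLe hSC).symm.trans (MulEquiv.subgroupCongr hR.symm)).trans e'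
  have hsdh : SDH (R.mapSurjective hπs) (π z') (π v') (π y') := by
    refine ⟨?_, qd_congr e hS, by rw [← Nat.card_congr e.toEquiv]; exact h16, hne z' hz' hz1, fun w => ?_,
      hne v' hv' hv1, ?_, ?_, ?_⟩
    · exact Grp.pPrimeCore_quotient_eq_bot
    · obtain ⟨x, rfl⟩ := hπs w
      rw [← map_mul, ← map_mul]
      exact congrArg π (Subtype.ext (cent_iff.1 x.2))
    · rw [hCv]
      have hinj : Function.Injective (π.comp (V.subgroupOf Cz).subtype) := by
        rw [injective_iff_map_eq_one]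
        intro a ha
        exact Subtype.ext (hOinv a ((QuotientGroup.eq_one_iff _).1 ha)
          (Subtype.ext (hV2 _ (mem_subgroupOf.1 a.2))))
      have hr : (V.subgroupOf Cz).map π = (π.comp (V.subgroupOf Cz).subtype).range := by
        rw [MonoidHom.range_comp, Subgroup.range_subtype]
      rw [hr, ← Nat.card_congr (MonoidHom.ofInjective hinj).toEquiv,
        Nat.card_congr (subgroupOfEquivOfLe hVC).toEquiv, hV]
    · rw [hCv]
      rintro _ ⟨a, ha, rfl⟩
      rw [← map_mul, show a * a = 1 from Subtype.ext (hV2 _ (mem_subgroupOf.1 ha)), map_one]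
    · rw [← map_inv, ← map_mul, ← map_mul, ← map_mul]
      exact congrArg π (Subtype.ext hyV)
  have hidx : ∀ K : Subgroup G, K.index ≠ 2 := by
    intro K hK
    haveI := Subgroup.normal_of_index_eq_two hK
    rcases IsSimpleGroup.eq_bot_or_eq_top_of_normal K inferInstance with e | e
    · rw [e, index_bot] at hK
      exact hna ⟨⟨fun a b => (isCyclic_of_prime_card (p := 2) hK).commGroup.mul_comm a b⟩⟩
    · rw [e, index_top] at hK; omega
  obtain ⟨F, hF, hFf, hodd, ⟨eL⟩⟩ := Invol.GW.qd_wreathed_centralizer_mod_core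
    Invol.GW.Dihedral.gwStatement_holds S (Or.inl hS) hidx z hz
  obtain ⟨eH⟩ := hsdh.recognise hodd eL
  obtain ⟨eC⟩ := Invol.SD16Core.ker_eq_bot hna hz (eH.toMonoidHom.comp π)
    (eH.surjective.comp hπs) (by
      have hk : (eH.toMonoidHom.comp π).ker = Cfsg.oddCore Cz := by
        ext w
        rw [MonoidHom.mem_ker, MonoidHom.comp_apply, MulEquiv.coe_toMonoidHom, MulEquiv.map_eq_one_iff]
        exact QuotientGroup.eq_one_iff w
      rw [hk]
      exact Nat.prime_two.coprime_iff_not_dvd.1 hcop.symm)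
  have hres : Cfsg.pResidual 2 G = ⊤ := Invol.SmallCent.pResidual_eq_top fun hc => hna
    ⟨⟨fun a b => (IsCyclic.commGroup (α := G)).mul_comm a b⟩⟩
  rcases Cfsg.Agent.S2916.result hres z hz ⟨eC⟩ with ⟨F', hF', hFf', h3, ⟨f⟩⟩ | hM
  · haveI : Fact (Nat.Prime 3) := ⟨Nat.prime_three⟩
    haveI : CharP F' 3 := charP_of_card_eq_prime h3
    obtain ⟨g⟩ := Block.Zas.psl_congr (n := 3) (ZMod.ringEquiv F' h3).symm
    exact Or.inl ⟨f.trans g⟩
  · exact Or.inr hM

end Cfsg.Agent.Transfer.SubThree
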