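import Mathlib
import Cfsg.Prelude.Def_Transfer
import Cfsg.Agent.Lib.Invol.QuasiDihedral
import Cfsg.Agent.Lib.Transfer.TwoByCyclic
import Cfsg.Agent.Lib.Transfer.SelfCentNoncyclic.Linear
import Cfsg.Agent.S3224

/-!
# An involution outside a subgroup of index two of a 2-group, with a centraliser of order four
-/

set_option autoImplicit false
set_option linter.unusedSectionVars false

namespace Cfsg.Agent.Transfer.SubThree

open Subgroup

universe u

theorem index_two_facts {P : Type u} [Group P] [Finite P] (hP : IsPGroup 2 P) (M : Subgroup P)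
    (hM : M.index = 2) {z : P} (hz : orderOf z = 2) (hzM : z ∉ M)
    (hC : Nat.card ↥(centralizer ({z} : Set P)) = 4) (hlt : 4 < Nat.card P)
    {a b : P} (haM : a ∈ M) (hbM : b ∈ M) (ha : orderOf a = 2) (hb : orderOf b = 2) (hab : a ≠ b) :
    (∀ w : P, orderOf w = 2 → w ∉ M → IsConj z w) ∧
      ∃ n : ℕ, 2 ≤ n ∧ Nonempty (M ≃* DihedralGroup n) := by
  haveI : Fact (Nat.Prime 2) := ⟨Nat.prime_two⟩
  have hsq : ∀ x : P, x * x ∈ M := fun x => Subgroup.mul_self_mem_of_index_two hM x
  rcases Cfsg.Agent.S3224.result hP z hz hC with ⟨n, ⟨e⟩⟩ | hq | h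
  swap
  · exfalso
    obtain ⟨m, x, y, h⟩ := Invol.exists_qd hq
    have hx2 : ∀ i : ℤ, 2 ∣ i → x ^ i ∈ M := by
      rintro i ⟨k, rfl⟩
      rw [show 2 * k = k + k by ring, zpow_add]
      exact hsq _
    have key : ∀ c : P, orderOf c = 2 → c ∈ M → c = x ^ (2 * Invol.qq m) := by
      intro c hc hcM
      rcases h.involution_cases hc with e | ⟨i, hi, rfl⟩
      · exact e
      rcases h.involution_cases hz with rfl | ⟨j, hj, rfl⟩
      · exact absurd (hx2 _ (dvd_mul_right _ _)) hzM
      · refine absurd ?_ hzM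
        rw [show x ^ j * y = x ^ (j - i) * (x ^ i * y) by rw [← mul_assoc, ← zpow_add, sub_add_cancel]]
        exact mul_mem (hx2 _ (dvd_sub hj hi)) hcM
    exact hab ((key a ha haM).trans (key b hb hbM).symm)
  swap
  · omega
  obtain ⟨k, hk⟩ : ∃ k, Nat.card P = 2 ^ k := IsPGroup.iff_card.1 hP
  have hcard := Nat.card_congr e.toEquiv
  rw [DihedralGroup.nat_card, hk] at hcard
  obtain ⟨k, rfl⟩ : ∃ j, k = j + 1 := ⟨k - 1, by
    rcases k with _ | k
    · rw [hk] at hlt; norm_num at hlt
    · omega⟩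
  obtain rfl : n = 2 ^ k := by rw [pow_succ] at hcard; omega
  have hk2 : 2 ≤ k := by
    by_contra hh
    have : 2 ^ (k + 1) ≤ 2 ^ 2 := Nat.pow_le_pow_right two_pos (by omega)
    omega
  haveI : NeZero (2 ^ k) := ⟨by positivity⟩
  have hconj : ∀ (i j : ZMod (2 ^ k)), e.symm (DihedralGroup.r i) * e.symm (DihedralGroup.sr j) *
      (e.symm (DihedralGroup.r i))⁻¹ = e.symm (DihedralGroup.sr (j - 2 * i)) := fun i j => by
    rw [← map_inv, ← map_mul, ← map_mul, DihedralGroup.r_mul_sr, DihedralGroup.inv_r, DihedralGroup.sr_mul_r]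
    congr 2
    ring
  have hr2 : ∀ i : ZMod (2 ^ k), e.symm (DihedralGroup.r (2 * i)) ∈ M := fun i => by
    rw [two_mul, ← DihedralGroup.r_mul_r, map_mul]; exact hsq _
  have heven : ∀ i : ZMod (2 ^ k), e.symm (DihedralGroup.r i) * e.symm (DihedralGroup.r i) = 1 →
      e.symm (DihedralGroup.r i) ∈ M := by
    intro i hi
    rw [← map_mul, DihedralGroup.r_mul_r, e.symm.map_eq_one_iff, DihedralGroup.one_def,
      DihedralGroup.r.injEq] at hi
    have h2 : ((2 * i.val : ℕ) : ZMod (2 ^ k)) = 0 := by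
      push_cast [ZMod.natCast_zmod_val]; rw [two_mul]; exact hi
    rw [ZMod.natCast_eq_zero_iff] at h2
    obtain ⟨k', rfl⟩ : ∃ k', k = k' + 2 := ⟨k - 2, by omega⟩
    obtain ⟨d, hd⟩ := h2
    have hev : i.val = 2 * (2 ^ k' * d) := by
      have hp : 2 ^ (k' + 2) * d = 4 * (2 ^ k' * d) := by rw [pow_add]; ring
      omega
    rw [← ZMod.natCast_zmod_val i, hev, Nat.cast_mul, Nat.cast_two]
    exact hr2 _
  have hrefl : ∀ c : P, orderOf c = 2 → c ∉ M → ∃ i, c = e.symm (DihedralGroup.sr i) := by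
    intro c hc hcM
    rcases h : e c with i | i
    · refine absurd ?_ hcM
      have hc' : c = e.symm (DihedralGroup.r i) := by rw [← h, e.symm_apply_apply]
      rw [hc']
      refine heven i ?_
      rw [← hc', ← pow_two, ← hc, pow_orderOf_eq_one]
    · exact ⟨i, by rw [← h, e.symm_apply_apply]⟩
  obtain ⟨i, hi⟩ := hrefl z hz hzM
  -- a reflection in the subgroup
  obtain ⟨j, hj⟩ : ∃ j, e.symm (DihedralGroup.sr j) ∈ M := by
    by_contra hno
    push Not at hno
    have key : ∀ c : P, orderOf c = 2 → c ∈ M → c = e.symm (DihedralGroup.r ((2 ^ (k - 1) : ℕ) : ZMod (2 ^ k))) := by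
      intro c hc hcM
      rcases h : e c with l | l
      · have hcc : c * c = 1 := by
          have := pow_orderOf_eq_one c
          rwa [hc, pow_two] at this
        have hc' : e c * e c = 1 := by rw [← map_mul, hcc, map_one]
        rw [h, DihedralGroup.r_mul_r, DihedralGroup.one_def, DihedralGroup.r.injEq] at hc'
        rw [← e.symm_apply_apply c, h]
        congr 2
        have h2 : ((2 * l.val : ℕ) : ZMod (2 ^ k)) = 0 := by
          push_cast [ZMod.natCast_zmod_val]; rw [two_mul]; exact hc'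
        rw [ZMod.natCast_eq_zero_iff] at h2
        have hl := ZMod.val_lt l
        have hl0 : l.val ≠ 0 := fun e0 => by
          rw [ZMod.val_eq_zero] at e0
          rw [e0] at h
          have : c = 1 := e.injective (by rw [h, map_one]; rfl)
          rw [this, orderOf_one] at hc
          omega
        obtain ⟨d, hd⟩ := h2
        have : d = 1 := by
          rcases d with _ | _ | d
          · omega
          · rfl
          · have : 2 ^ k * (d + 1 + 1) ≥ 2 ^ k * 2 := Nat.mul_le_mul_left _ (by omega)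
            omega
        subst this
        rw [← ZMod.natCast_zmod_val l]
        congr 1
        have : 2 ^ k = 2 * 2 ^ (k - 1) := by rw [← pow_succ', Nat.sub_add_cancel (by omega : 1 ≤ k)]
        omega
      · exact absurd (by rwa [← h, e.symm_apply_apply]) (hno l)
    exact hab ((key a ha haM).trans (key b hb hbM).symm)
  have hdiff : ∀ l, e.symm (DihedralGroup.sr l) ∉ M → ¬ ∃ d, l - j = 2 * d := by
    rintro l hl ⟨d, hd⟩
    refine hl ?_
    have : e.symm (DihedralGroup.sr l) = e.symm (DihedralGroup.sr j) * e.symm (DihedralGroup.r (2 * d)) := by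
      rw [← map_mul, DihedralGroup.sr_mul_r, ← hd, add_sub_cancel]
    rw [this]
    exact mul_mem hj (hr2 d)
  refine ⟨fun w hw hwM => ?_, ?_⟩
  · obtain ⟨l, rfl⟩ := hrefl w hw hwM
    have par : ∀ v : ZMod (2 ^ k), (∃ d, v = 2 * d) ∨ ∃ d, v = 2 * d + 1 := fun v => by
      rcases Nat.even_or_odd v.val with ⟨d, hd⟩ | ⟨d, hd⟩
      · exact Or.inl ⟨(d : ZMod (2 ^ k)), by rw [← ZMod.natCast_zmod_val v, hd]; push_cast; ring⟩
      · exact Or.inr ⟨(d : ZMod (2 ^ k)), by rw [← ZMod.natCast_zmod_val v, hd]; push_cast; ring⟩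
    obtain ⟨d₁, h₁⟩ := (par (i - j)).resolve_left (hdiff i (hi ▸ hzM))
    obtain ⟨d₂, h₂⟩ := (par (l - j)).resolve_left (hdiff l hwM)
    refine isConj_iff.2 ⟨e.symm (DihedralGroup.r (d₁ - d₂)), ?_⟩
    rw [hi, hconj]
    congr 2
    linear_combination h₁ - h₂
  · rcases Transfer.TwoByCyclic.dihedral_subgroup e M with hc | ⟨t, ⟨f⟩⟩
    · exfalso
      refine hab ?_
      haveI := hc
      have := Block.BSWRec.involution_eq (R := M) hc haM hbM ha hb
      exact this
    · refine ⟨2 ^ t, ?_, ⟨f⟩⟩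
      have h1 := Nat.card_congr f.toEquiv
      rw [DihedralGroup.nat_card] at h1
      have h2 := M.card_mul_index
      rw [hM, hk] at h2
      have : 2 ^ 3 ≤ 2 ^ (k + 1) := Nat.pow_le_pow_right two_pos (by omega)
      omega

end Cfsg.Agent.Transfer.SubThree
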