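import Cfsg.Agent.Lib.Transfer.SubThree.TwoClass
import Cfsg.Agent.Lib.Transfer.SubThree.IndexTwo
import Cfsg.Agent.Lib.Classical.PSLBinary
import Cfsg.Agent.Lib.Classical.SLTwoFixed.Group
import Cfsg.Agent.Lib.Invol.GW.Consumers.CommutingOuter
import Cfsg.Agent.S0813

/-!
# A maximal dihedral stabiliser of order twelve
-/

set_option autoImplicit false
set_option linter.unusedSectionVars false
set_option linter.style.haveILetI false
set_option maxRecDepth 8000

namespace Cfsg.Agent.Transfer.SubThree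

open Subgroup

universe u

theorem dih_six_facts :
    (∀ x : DihedralGroup 6, x * DihedralGroup.r 3 = DihedralGroup.r 3 * x) ∧
    (DihedralGroup.r 3 * DihedralGroup.r 3 = (1 : DihedralGroup 6)) ∧
    (DihedralGroup.r 3 : DihedralGroup 6) ≠ 1 ∧
    (∀ x : DihedralGroup 6, x * x * (x * x) = 1 → x * x = 1) ∧
    (∀ x : DihedralGroup 6, ∃ a b : DihedralGroup 6, a * a = 1 ∧ b * b = 1 ∧ x = a * b) ∧
    (∀ c : DihedralGroup 6, c * c = 1 → c ≠ 1 → (∀ x, x * c = c * x) → c = DihedralGroup.r 3) ∧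
    (Finset.univ.filter fun x : DihedralGroup 6 => x * x = 1 ∧ x ≠ 1).card = 7 := by
  decide +kernel

theorem sym_five_trivial :
    ∀ σ : Equiv.Perm (Fin 5), σ * (Equiv.swap 0 1 * Equiv.swap 1 2) = (Equiv.swap 0 1 * Equiv.swap 1 2) * σ →
      σ * finRotate 5 = finRotate 5 * σ → σ = 1 := by
  decide +kernel

variable {G : Type u} [Group G] [Finite G] {A : Subgroup G}

theorem commutes_of_order_two {K : Subgroup G} {a k : G} (hK2 : Nat.card K = 2) (hk : k ∈ K) (hk1 : k ≠ 1)
    (h : a * k * a⁻¹ ∈ K) : a * k = k * a := by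
  have hh : a * k * a⁻¹ = k := by
    haveI := Fintype.ofFinite K
    classical
    have hsub : ({1, ⟨k, hk⟩} : Finset K) = Finset.univ := by
      refine Finset.eq_univ_of_card _ ?_
      rw [Finset.card_pair (fun e => hk1 (congrArg Subtype.val e).symm), ← Nat.card_eq_fintype_card, hK2]
    have hm := hsub ▸ Finset.mem_univ (⟨a * k * a⁻¹, h⟩ : K)
    rcases Finset.mem_insert.1 hm with e | e
    · exact absurd (conj_eq_one_iff.1 (congrArg Subtype.val e)) hk1
    · exact congrArg Subtype.val (Finset.mem_singleton.1 e)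
  calc a * k = a * k * a⁻¹ * a := by group
    _ = k * a := by rw [hh]

theorem card_factor {N : Subgroup G} (d : Ctx A) (hN : N.Normal) (h : N ≠ ⊥) :
    Nat.card G * Nat.card ↥(A ⊓ N) = Nat.card A * Nat.card N := by
  haveI := hN
  have h1 := Grp.card_sup_mul_card_inf_normal (H := A) (N := N)
  rwa [sup_comm, d.sup_eq_top hN h, card_top] at h1

theorem Ctx.centralizer_eq_bot (d : Ctx A) {N : Subgroup G} (hN : N.Normal) (h : N ≠ ⊥)
    (hN2 : N.index = 2) (hcen : center N = ⊥) : centralizer (N : Set G) = ⊥ := by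
  by_contra hne
  haveI := hN
  have hC : (centralizer (N : Set G)).Normal := inferInstance
  refine d.not_solvable hC hne ?_
  have hinj : Function.Injective ((QuotientGroup.mk' N).comp (centralizer (N : Set G)).subtype) := by
    rw [injective_iff_map_eq_one]
    intro x hx
    have hxN : (x : G) ∈ N := (QuotientGroup.eq_one_iff _).1 hx
    have : (⟨x, hxN⟩ : N) ∈ center N := mem_center_iff.2 fun g => Subtype.ext (mem_centralizer_iff.1 x.2 g g.2)
    rw [hcen, mem_bot] at this
    exact Subtype.ext (congrArg Subtype.val this :)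
  haveI : Fact (Nat.Prime 2) := ⟨Nat.prime_two⟩
  haveI : IsCyclic (G ⧸ N) := isCyclic_of_prime_card (p := 2) (by rw [← N.index_eq_card, hN2])
  haveI : Group.IsSolvable (G ⧸ N) :=
    Group.isSolvable_of_comm fun a b => (IsCyclic.commGroup (α := G ⧸ N)).mul_comm a b
  exact Group.isSolvable_of_isSolvable_injective hinj

/-- An extension of index two with trivial centraliser and the order of the automorphism group is it. -/
theorem iso_mulAut {N : Subgroup G} (hN : N.Normal) (hC : centralizer (N : Set G) = ⊥) {M : Type*} [Group M]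
    [Finite M] (e : N ≃* M) (hcard : Nat.card G = Nat.card (MulAut M)) : Nonempty (G ≃* MulAut M) := by
  haveI := hN
  let f : G →* MulAut M := (MulAut.congr e).toMonoidHom.comp (MulAut.conjNormal (H := N))
  have hinj : Function.Injective f := by
    rw [injective_iff_map_eq_one]
    intro g hg
    have h1 : MulAut.conjNormal (H := N) g = 1 := (MulAut.congr e).injective (by rw [map_one]; exact hg)
    have : g ∈ centralizer (N : Set G) := by
      rw [mem_centralizer_iff]
      intro n hn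
      have h2 := congrArg Subtype.val (congrArg (fun φ : MulAut N => φ ⟨n, hn⟩) h1)
      simp only [MulAut.conjNormal_apply, MulAut.one_apply] at h2
      calc n * g = g * n * g⁻¹ * g := by rw [h2]
        _ = g * n := by group
    rwa [hC, mem_bot] at this
  exact ⟨MulEquiv.ofBijective f ((Nat.bijective_iff_injective_and_card f).2 ⟨hinj, hcard⟩)⟩

theorem perm_five_mulAut : Nonempty (Equiv.Perm (Fin 5) ≃* MulAut (alternatingGroup (Fin 5))) := by
  let f : Equiv.Perm (Fin 5) →* MulAut (alternatingGroup (Fin 5)) := MulAut.conjNormal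
  have hinj : Function.Injective f := by
    rw [injective_iff_map_eq_one]
    intro σ hσ
    have key : ∀ a : Equiv.Perm (Fin 5), Equiv.Perm.sign a = 1 → σ * a = a * σ := by
      intro a ha
      have h2 := congrArg Subtype.val
        (congrArg (fun φ : MulAut (alternatingGroup (Fin 5)) => φ ⟨a, Equiv.Perm.mem_alternatingGroup.2 ha⟩) hσ)
      simp only [f, MulAut.conjNormal_apply, MulAut.one_apply] at h2
      calc σ * a = σ * a * σ⁻¹ * σ := by group
        _ = a * σ := by rw [h2]
    exact sym_five_trivial σ (key _ (by decide +kernel)) (key _ (by decide +kernel))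
  refine ⟨MulEquiv.ofBijective f ((Nat.bijective_iff_injective_and_card f).2 ⟨hinj, le_antisymm ?_ ?_⟩)⟩
  · exact Nat.card_le_card_of_injective _ hinj
  · rw [Nat.card_perm, Nat.card_fin]
    exact Classical.SLTwoFixed.card_aut_alt_five

theorem pgl_mulAut {p : ℕ} [Fact p.Prime] (h5 : 5 ≤ p) :
    Nonempty (GL (Fin 2) (ZMod p) ⧸ center (GL (Fin 2) (ZMod p)) ≃*
      MulAut (Matrix.ProjectiveSpecialLinearGroup (Fin 2) (ZMod p))) := by
  have hc : Nat.card (MulAut (Matrix.ProjectiveSpecialLinearGroup (Fin 2) (ZMod p))) =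
      Nat.card (Matrix.ProjGenLinGroup (Fin 2) (ZMod p)) := by
    rw [Cfsg.Agent.S0813.result p 1 le_rfl (by rw [ZMod.card, pow_one]) 2 le_rfl (fun _ => by rw [pow_one]; omega),
      if_pos rfl, one_mul, one_mul]
  exact ⟨MulEquiv.ofBijective (Invol.GW.pglAut (ZMod p))
    ((Nat.bijective_iff_injective_and_card _).2 ⟨Invol.GW.pglAut_injective, hc.symm⟩)⟩

/-- Stabilisers isomorphic to the dihedral group of order twelve. -/
theorem Ctx.twelve (d : Ctx A) (e : A ≃* DihedralGroup 6) :
    Nonempty (G ≃* Equiv.Perm (Fin 5)) ∨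
      Nonempty (G ≃* GL (Fin 2) (ZMod 7) ⧸ center (GL (Fin 2) (ZMod 7))) ∨
      Nonempty (G ≃* Matrix.ProjectiveSpecialLinearGroup (Fin 2) (ZMod 11)) ∨
      Nonempty (G ≃* Matrix.ProjectiveSpecialLinearGroup (Fin 2) (ZMod 13)) := by
  classical
  haveI : Fact (Nat.Prime 2) := ⟨Nat.prime_two⟩
  obtain ⟨fc, f2, f1, f4, fg, fu, f7⟩ := dih_six_facts
  let g : DihedralGroup 6 →* G := A.subtype.comp e.symm.toMonoidHom
  have hginj : Function.Injective g := A.subtype_injective.comp e.symm.injective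
  have hgA : ∀ x, g x ∈ A := fun x => (e.symm x).2
  have hge : ∀ a : A, g (e a) = a := fun a => by simp [g]
  let z : G := g (DihedralGroup.r 3)
  have hzA : z ∈ A := hgA _
  have hz1 : z ≠ 1 := fun h => f1 (hginj (h.trans (map_one g).symm))
  have hz : orderOf z = 2 := orderOf_eq_prime (by rw [pow_two, ← map_mul, f2, map_one]) hz1
  have hzc : ∀ a ∈ A, a * z = z * a := fun a ha => by
    rw [← show g (e ⟨a, ha⟩) = a from hge ⟨a, ha⟩]; exact (map_mul g _ _).symm.trans ((congrArg g (fc _)).trans (map_mul g _ _))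
  have hA12 : Nat.card A = 12 := by rw [Nat.card_congr e.toEquiv, DihedralGroup.nat_card]
  have hC : centralizer ({z} : Set G) = A := d.centralizer_invol hzA hz1 hzc
  obtain ⟨N, hN, hN1, hmin⟩ := d.exists_minimal
  haveI := hN
  have hNA : 2 ∣ Nat.card ↥(A ⊓ N) := by
    have h := even_fixed (z := z) hz (by rw [normalizer_eq_top]; exact mem_top z) (d.two_dvd hN hN1)
    rwa [hC, inf_comm] at h
  obtain ⟨P, hP⟩ : ∃ P : Sylow 2 A, (⟨z, hzA⟩ : A) ∈ (P : Subgroup A) := by
    obtain ⟨P, hP⟩ := (IsPGroup.of_card (n := 1)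
      (by rw [Nat.card_zpowers, Subgroup.orderOf_mk, hz, pow_one] : Nat.card (zpowers (⟨z, hzA⟩ : A)) = 2 ^ 1)).exists_le_sylow
    exact ⟨P, hP (mem_zpowers _)⟩
  let V : Subgroup G := (P : Subgroup A).map A.subtype
  have hVA : V ≤ A := map_subtype_le _
  have hV4 : Nat.card V = 4 := by
    rw [card_map_of_injective A.subtype_injective, P.card_eq_multiplicity, hA12,
      show (12 : ℕ) = 2 ^ 2 * 3 by norm_num, Nat.factorization_mul (by norm_num) (by norm_num), Finsupp.add_apply,
      Nat.Prime.factorization_pow Nat.prime_two, Nat.factorization_eq_zero_of_not_dvd (by norm_num : ¬ 2 ∣ 3)]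
    simp
  have hVp : IsPGroup 2 V := P.2.map A.subtype
  have hzV : z ∈ V := ⟨⟨z, hzA⟩, hP, rfl⟩
  obtain ⟨S, hVS⟩ := hVp.exists_le_sylow
  have hCS : (S : Subgroup G) ⊓ centralizer ({z} : Set G) = V := by
    refine (eq_of_le_of_card_ge (le_inf hVS (hC.symm ▸ hVA)) ?_).symm
    have hp : IsPGroup 2 ↥((S : Subgroup G) ⊓ centralizer ({z} : Set G)) := S.2.to_le inf_le_left
    obtain ⟨k, hk⟩ := IsPGroup.iff_card.1 hp
    have hdvd : 2 ^ k ∣ 12 := hk ▸ hA12 ▸ card_dvd_of_le (inf_le_right.trans hC.le)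
    have : k ≤ 2 := by
      by_contra hh
      exact absurd ((pow_dvd_pow 2 (by omega : 3 ≤ k)).trans hdvd) (by norm_num)
    rw [hk, hV4]
    exact le_trans (Nat.pow_le_pow_right two_pos this) (by norm_num)
  obtain ⟨PN, hPN⟩ := exists_sylow_inf S hN
  by_cases hzN : z ∈ N
  · -- the group is simple
    have hVN : V ≤ N := by
      by_contra hVN
      refine d.not_cyclic hN hN1 PN ?_
      have h2 : Nat.card ↥(V ⊓ N) = 2 := by
        have hlt : Nat.card ↥(V ⊓ N) < 4 := hV4 ▸ lt_of_le_of_ne (card_le_of_le inf_le_left)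
          fun h => hVN ((eq_of_le_of_card_ge inf_le_left h.ge).symm.le.trans inf_le_right)
        have hd : Nat.card ↥(V ⊓ N) ∣ 4 := hV4 ▸ card_dvd_of_le inf_le_left
        have hne : Nat.card ↥(V ⊓ N) ≠ 1 := fun h => hz1 (by
          have hbot : V ⊓ N = ⊥ := Subgroup.card_eq_one.1 h
          exact mem_bot.1 (hbot ▸ (⟨hzV, hzN⟩ : z ∈ V ⊓ N)))
        interval_cases hh : Nat.card ↥(V ⊓ N) <;> omega
      have hzz : ∀ w ∈ (S : Subgroup G) ⊓ N, w * z = z * w → w = 1 ∨ w = z := by
        intro w hw hwz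
        have hwV : w ∈ V ⊓ N := ⟨hCS ▸ ⟨hw.1, cent_iff.2 hwz⟩, hw.2⟩
        haveI := Fintype.ofFinite ↥(V ⊓ N)
        have hsub : ({1, ⟨z, hzV, hzN⟩} : Finset ↥(V ⊓ N)) = Finset.univ := by
          refine Finset.eq_univ_of_card _ ?_
          rw [Finset.card_pair (fun e => hz1 (congrArg Subtype.val e).symm), ← Nat.card_eq_fintype_card, h2]
        rcases Finset.mem_insert.1 (hsub ▸ Finset.mem_univ (⟨w, hwV⟩ : ↥(V ⊓ N))) with e | e
        · exact Or.inl (congrArg Subtype.val e)
        · exact Or.inr (congrArg Subtype.val (Finset.mem_singleton.1 e))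
      -- the Sylow subgroup of `N` is generated by `z`
      have hall : ∀ w ∈ (S : Subgroup G) ⊓ N, w = 1 ∨ w = z := by
        have hp : IsPGroup 2 ↥((S : Subgroup G) ⊓ N) := S.2.to_le inf_le_left
        haveI : Nontrivial ↥((S : Subgroup G) ⊓ N) :=
          ⟨⟨⟨z, hVS hzV, hzN⟩, 1, fun e => hz1 (congrArg Subtype.val e)⟩⟩
        have := hp.center_nontrivial
        obtain ⟨⟨⟨c, hc⟩, hcc⟩, hc1⟩ := exists_ne (1 : center ↥((S : Subgroup G) ⊓ N))
        have hcz : c * z = z * c := (congrArg Subtype.val (mem_center_iff.1 hcc ⟨z, hVS hzV, hzN⟩)).symm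
        rcases hzz c hc hcz with rfl | rfl
        · exact absurd (Subtype.ext (Subtype.ext rfl)) hc1
        · intro w hw
          exact hzz w hw (congrArg Subtype.val (mem_center_iff.1 hcc ⟨w, hw⟩))
      have hmem : (⟨z, hzN⟩ : N) ∈ (PN : Subgroup N) := by
        rw [hPN, mem_subgroupOf]; exact hVS hzV
      refine ⟨⟨⟨z, hzN⟩, hmem⟩, fun w => ?_⟩
      have hw : ((w : N) : G) ∈ (S : Subgroup G) ⊓ N := ⟨(hPN ▸ w.2 : (w : N) ∈ (S : Subgroup G).subgroupOf N), (w : N).2⟩
      rcases hall _ hw with e | e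
      · exact ⟨0, by simpa using (Subtype.ext (Subtype.ext e.symm) : (1 : ↥(PN : Subgroup N)) = w)⟩
      · exact ⟨1, (zpow_one _).trans (Subtype.ext (Subtype.ext e.symm))⟩
    have hAN : A ≤ N := by
      have hcop : ∀ a ∈ A, a * a = 1 → a ∈ N := by
        intro a ha haa
        haveI : (N.subgroupOf A).Normal := inferInstance
        have hPle : (P : Subgroup A) ≤ N.subgroupOf A := fun x hx => hVN ⟨x, hx, rfl⟩
        obtain ⟨k, hk⟩ : ∃ k : A, k * ⟨a, ha⟩ * k⁻¹ ∈ (P : Subgroup A) := by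
          by_cases ha1 : a = 1
          · subst ha1
            exact ⟨1, by simp [show (⟨1, ha⟩ : A) = 1 from rfl]⟩
          · exact Invol.exists_conj_mem_sylow (p := 2) (n := 1) (by
              rw [Subgroup.orderOf_mk, pow_one]; exact orderOf_eq_prime (by rw [pow_two, haa]) ha1) P
        have h5 := (inferInstance : (N.subgroupOf A).Normal).conj_mem _ (hPle hk) k⁻¹
        simpa [mul_assoc, mem_subgroupOf] using h5
      intro a ha
      obtain ⟨x, y, hx, hy, hxy⟩ := fg (e ⟨a, ha⟩)
      have : a = g x * g y := by rw [← map_mul, ← hxy, hge]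
      rw [this]
      exact mul_mem (hcop _ (hgA _) (by rw [← map_mul, hx, map_one]))
        (hcop _ (hgA _) (by rw [← map_mul, hy, map_one]))
    have hNtop : N = ⊤ := by rw [← d.sup_eq_top hN hN1, sup_eq_left.2 hAN]
    subst hNtop
    have hmin' : ∀ K : Subgroup G, K.Normal → K = ⊥ ∨ K = ⊤ := fun K hK => hmin K hK le_top
    obtain ⟨hsimp, hna⟩ := d.simple_of_top hmin'
    haveI := hsimp
    have hdih : ∃ n : ℕ, 2 ≤ n ∧ Nonempty ((S : Subgroup G) ≃* DihedralGroup n) := by
      rcases le_or_gt (Nat.card (S : Subgroup G)) 4 with h4 | h4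
      · have hSV : V = (S : Subgroup G) := eq_of_le_of_card_ge hVS (h4.trans hV4.ge)
        haveI : IsKleinFour (S : Subgroup G) := by
          refine ⟨by rw [← hSV, hV4], ?_⟩
          have hsq : ∀ x : (S : Subgroup G), x ^ 2 = 1 := by
            intro x
            have hxV : (x : G) ∈ V := hSV.symm ▸ x.2
            obtain ⟨a, haP, ha⟩ := hxV
            refine Subtype.ext ?_
            show (x : G) ^ 2 = 1
            rw [← ha, pow_two]
            show (a : G) * a = 1
            have h4' : a ^ 4 = 1 := by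
              have hc4 : Nat.card (P : Subgroup A) = 4 := (card_map_of_injective A.subtype_injective).symm.trans hV4
              have := pow_card_eq_one' (G := (P : Subgroup A)) (x := ⟨a, haP⟩)
              rw [hc4] at this
              exact congrArg Subtype.val this
            rw [← hge a, ← map_mul]
            rw [f4 (e a) (by rw [← map_mul, ← map_mul, ← pow_two, ← pow_two, ← pow_mul, h4', map_one]), map_one]
          haveI : Nontrivial (S : Subgroup G) := Finite.one_lt_card_iff_nontrivial.1 (by rw [← hSV, hV4]; norm_num)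
          exact (Nat.prime_two.eq_one_or_self_of_dvd _ (Monoid.exponent_dvd_of_forall_pow_eq_one hsq)).resolve_left
            fun e => by
              have := Monoid.exp_eq_one_iff.1 e
              exact not_subsingleton (S : Subgroup G) this
        exact ⟨2, le_rfl, IsKleinFour.nonempty_mulEquiv⟩
      · rcases dihedral_or_qd S.2 hz (hVS hzV) (by rw [hCS, hV4]) h4 with h | h
        · exact h
        · exfalso
          haveI : Nontrivial (S : Subgroup G) := Finite.one_lt_card_iff_nontrivial.1 (by omega)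
          have := S.2.center_nontrivial
          obtain ⟨⟨w, hwc⟩, hw1⟩ := exists_ne (1 : center (S : Subgroup G))
          obtain ⟨j, hj⟩ := IsPGroup.iff_orderOf.1 S.2 w
          have hj0 : j ≠ 0 := fun h0 => hw1 (Subtype.ext (orderOf_eq_one_iff.1 (by rw [hj, h0, pow_zero])))
          let w' : G := ((w ^ 2 ^ (j - 1) : (S : Subgroup G)) : G)
          have hw' : orderOf w' = 2 := by
            rw [Subgroup.orderOf_coe, orderOf_pow' _ (by positivity), hj,
              Nat.gcd_eq_right (pow_dvd_pow 2 (Nat.sub_le j 1)), Nat.pow_div (Nat.sub_le j 1) two_pos,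
              show j - (j - 1) = 1 by omega, pow_one]
          have hconj := one_class_qd S h (fun K hK => d.no_index_two hmin' K hK) hz hw'
          obtain ⟨k, hk⟩ := isConj_iff.1 hconj
          have hle : (S : Subgroup G).map (MulAut.conj k⁻¹).toMonoidHom ≤ centralizer ({z} : Set G) := by
            rintro _ ⟨s, hs, rfl⟩
            rw [cent_iff]
            have hsw : s * w' = w' * s := congrArg Subtype.val
              (((show Commute (⟨s, hs⟩ : (S : Subgroup G)) w from mem_center_iff.1 hwc _).pow_right (2 ^ (j - 1))).eq)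
            show k⁻¹ * s * k⁻¹⁻¹ * z = z * (k⁻¹ * s * k⁻¹⁻¹)
            rw [← hk] at hsw
            have := congrArg (fun t => k⁻¹ * t * k) hsw
            simpa [mul_assoc] using this
          rw [hC] at hle
          have hd := card_dvd_of_le hle
          rw [card_map_of_injective (MulAut.conj k⁻¹).injective, hA12] at hd
          obtain ⟨i, hi⟩ := IsPGroup.iff_card.1 S.2
          rw [hi] at hd h4
          have : i ≤ 2 := by
            by_contra hh
            exact absurd ((pow_dvd_pow 2 (by omega : 3 ≤ i)).trans hd) (by norm_num)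
          have := Nat.pow_le_pow_right two_pos this
          omega
    obtain ⟨n, hn, hne⟩ := hdih
    rcases model_cases (Invol.GW.CentralFour.simple_model Invol.GW.Dihedral.gwStatement_holds hna S hn hne) with
      ⟨F, hF, hFf, c, hodd, -, ⟨f⟩, hc, -, hd, -⟩ | ⟨-, hd, -⟩
    · have hc12 : c = 12 := by rw [← (hd z hz).1, hC, hA12]
      rcases hc with ⟨-, hq⟩ | ⟨-, hq⟩
      · obtain ⟨e'⟩ := psl_prime (F := F) (p := 13) (by norm_num) (by omega)
        exact Or.inr (Or.inr (Or.inr ⟨f.trans e'⟩))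
      · obtain ⟨e'⟩ := psl_prime (F := F) (p := 11) (by norm_num) (by omega)
        exact Or.inr (Or.inr (Or.inl ⟨f.trans e'⟩))
    · exfalso
      have h := (hd z hz).1
      rw [hC, hA12] at h
      omega
  -- index two
  have hKN : ∀ x, x ∈ A ⊓ N → ∀ a ∈ A, a * x * a⁻¹ ∈ A ⊓ N :=
    fun x hx a ha => ⟨A.mul_mem (A.mul_mem ha hx.1) (A.inv_mem ha), hN.conj_mem x hx.2 a⟩
  have hK6 : Nat.card ↥(A ⊓ N) = 6 := by
    have hzn : zpowers z ≤ normalizer ((A ⊓ N : Subgroup G) : Set G) :=
      zpowers_le.2 (le_normalizer_of_conj (fun a ha x hx => hKN x hx a ha) hzA)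
    have hd : Nat.card ↥(zpowers z ⊔ (A ⊓ N)) * Nat.card ↥(zpowers z ⊓ (A ⊓ N)) =
        Nat.card (zpowers z) * Nat.card ↥(A ⊓ N) := Grp.card_sup_mul_card_inf hzn
    have hbot : zpowers z ⊓ (A ⊓ N) = ⊥ := by
      rw [eq_bot_iff]
      rintro x ⟨hx, -, hxN⟩
      obtain ⟨i, rfl⟩ := mem_zpowers_iff.1 hx
      rw [← zpow_mod_orderOf, hz] at hxN ⊢
      rcases Int.emod_two_eq_zero_or_one i with h | h
      · simp [h]
      · rw [show ((2 : ℕ) : ℤ) = 2 from rfl, h, zpow_one] at hxN; exact absurd hxN hzN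
    rw [hbot, card_bot, mul_one, Nat.card_zpowers, hz] at hd
    have h12 : 2 * Nat.card ↥(A ⊓ N) ∣ 12 := hd ▸ hA12 ▸ card_dvd_of_le (sup_le (zpowers_le.2 hzA) inf_le_left)
    have hne2 : Nat.card ↥(A ⊓ N) ≠ 2 := by
      intro h2
      obtain ⟨x, hx, hxo⟩ := Invol.exists_orderOf_two_mem (H := A ⊓ N) (by rw [h2]; decide)
      have hx1 : x ≠ 1 := fun e => by rw [e, orderOf_one] at hxo; omega
      have hxz : x = z := by
        rw [← show g (e ⟨x, hx.1⟩) = x from hge ⟨x, hx.1⟩, fu (e ⟨x, hx.1⟩)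
          (by rw [← map_mul, e.map_eq_one_iff]; exact Subtype.ext (sq_one_of_orderOf_two hxo))
          (by rw [Ne, e.map_eq_one_iff]; exact fun h => hx1 (congrArg Subtype.val h))
          (fun y => by
            obtain ⟨a, rfl⟩ := e.surjective y
            rw [← map_mul, ← map_mul]
            exact congrArg e (Subtype.ext (commutes_of_order_two h2 hx hx1 (hKN x hx a a.2))))]
      exact hzN (hxz ▸ hx.2)
    have hle := Nat.le_of_dvd (by norm_num) h12
    generalize Nat.card ↥(A ⊓ N) = m at h12 hNA hne2 hle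
    obtain ⟨w, rfl⟩ := hNA
    have : w ≤ 3 := by omega
    interval_cases w <;> omega
  have hN2 : N.index = 2 := by
    have h := card_factor d hN hN1
    rw [hA12, hK6, ← N.card_mul_index] at h
    have hpos : 0 < Nat.card N := Nat.card_pos
    nlinarith
  obtain ⟨t, htK, ht⟩ := Invol.exists_orderOf_two_mem (H := A ⊓ N) (by rw [hK6]; decide)
  -- the Sylow subgroup
  have hVK : ∃ t' ∈ V, t' ∈ N ∧ t' ≠ 1 := by
    obtain ⟨k, hk⟩ := Invol.exists_conj_mem_sylow (p := 2) (n := 1)
      (x := (⟨t, htK.1⟩ : A)) (by rw [Subgroup.orderOf_mk, ht, pow_one]) P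
    refine ⟨_, ⟨_, hk, rfl⟩, hN.conj_mem t htK.2 k, fun h => ?_⟩
    have : t = 1 := conj_eq_one_iff.1 h
    rw [this, orderOf_one] at ht
    omega
  obtain ⟨t', ht'V, ht'N, ht'1⟩ := hVK
  have hSlt : 4 < Nat.card (S : Subgroup G) := by
    by_contra hle
    have hSV : V = (S : Subgroup G) := eq_of_le_of_card_ge hVS ((not_lt.1 hle).trans hV4.ge)
    refine d.not_cyclic hN hN1 PN ?_
    have h1 : Nat.card ↥((S : Subgroup G) ⊓ N) < 4 := by
      rw [← hV4, hSV]
      exact lt_of_le_of_ne (card_le_of_le inf_le_left)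
        fun h => hzN (((eq_of_le_of_card_ge inf_le_left h.ge).symm.le (hVS hzV)).2)
    have h2 : Nat.card ↥((S : Subgroup G) ⊓ N) ∣ 4 := by
      rw [← hV4, hSV]; exact card_dvd_of_le inf_le_left
    have h3 : Nat.card ↥(PN : Subgroup N) = Nat.card ↥((S : Subgroup G) ⊓ N) := by
      rw [hPN, ← subgroupOf_map_subtype, card_map_of_injective N.subtype_injective]
    haveI : Fact (Nat.Prime 2) := ⟨Nat.prime_two⟩
    have : Nat.card ↥(PN : Subgroup N) = 1 ∨ Nat.card ↥(PN : Subgroup N) = 2 := by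
      rw [h3]
      generalize Nat.card ↥((S : Subgroup G) ⊓ N) = m at h1 h2
      interval_cases m <;> omega
    rcases this with h | h
    · haveI := (Nat.card_eq_one_iff_unique.1 h).1
      infer_instance
    · exact isCyclic_of_prime_card h
  let M : Subgroup (S : Subgroup G) := N.subgroupOf (S : Subgroup G)
  have hM : M.index = 2 := by
    haveI : M.Normal := inferInstance
    have hd : M.index ∣ N.index := Subgroup.relIndex_dvd_index_of_normal N (S : Subgroup G)
    rw [hN2] at hd
    refine ((Nat.dvd_prime Nat.prime_two).1 hd).resolve_left fun h => hzN ?_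
    rw [Subgroup.index_eq_one, subgroupOf_eq_top] at h
    exact h (hVS hzV)
  obtain ⟨u, hu, v, hv, hu2, hv2, huv⟩ := d.not_rank_one hN hN1 PN
  have hSC : Nat.card ↥(centralizer ({(⟨z, hVS hzV⟩ : (S : Subgroup G))} : Set (S : Subgroup G))) = 4 := by
    rw [← hV4, ← hCS]
    exact Nat.card_congr
      { toFun := fun s => ⟨(s.1 : G), s.1.2, cent_iff.2 (congrArg Subtype.val (cent_iff.1 s.2))⟩
        invFun := fun g => ⟨⟨g, g.2.1⟩, cent_iff.2 (Subtype.ext (cent_iff.1 g.2.2))⟩
        left_inv := fun s => rfl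
        right_inv := fun g => rfl }
  have huS : ((u : N) : G) ∈ (S : Subgroup G) := (hPN ▸ hu : u ∈ (S : Subgroup G).subgroupOf N)
  have hvS : ((v : N) : G) ∈ (S : Subgroup G) := (hPN ▸ hv : v ∈ (S : Subgroup G).subgroupOf N)
  obtain ⟨hout, n, hn, ⟨f⟩⟩ := index_two_facts S.2 M hM (z := ⟨z, hVS hzV⟩)
    (by rw [Subgroup.orderOf_mk, hz]) hzN hSC hSlt (a := ⟨u, huS⟩) (b := ⟨v, hvS⟩) u.2 v.2
    (by rw [Subgroup.orderOf_mk, Subgroup.orderOf_coe, hu2]) (by rw [Subgroup.orderOf_mk, Subgroup.orderOf_coe, hv2])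
    (fun h => huv (Subtype.ext (congrArg Subtype.val h :)))
  have eP : (PN : Subgroup N) ≃* M :=
    (MulEquiv.subgroupCongr hPN).trans
      { toFun := fun x => ⟨⟨(x : N), x.2⟩, (x : N).2⟩
        invFun := fun x => ⟨⟨(x : (S : Subgroup G)), x.2⟩, (x : (S : Subgroup G)).2⟩
        left_inv := fun x => rfl
        right_inv := fun x => rfl
        map_mul' := fun x y => rfl }
  have hmodel := model_cases (d.dihedral_model hN hN1 hmin PN hn ⟨eP.trans f⟩)
  have houtG : ∀ w : G, orderOf w = 2 → w ∉ N → IsConj z w := by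
    intro w hw hwN
    obtain ⟨k, hk⟩ := Invol.exists_conj_mem_sylow (p := 2) (n := 1) (x := w) (by rw [hw, pow_one]) S
    obtain ⟨s, hs⟩ := isConj_iff.1 (hout ⟨k * w * k⁻¹, hk⟩
      (by rw [Subgroup.orderOf_mk, ← MulAut.conj_apply, MulEquiv.orderOf_eq, hw])
      (fun h => hwN ((isConj_mem_iff hN (isConj_iff.2 ⟨k, rfl⟩)).2 h)))
    refine IsConj.trans (isConj_iff.2 ⟨(s : G), congrArg Subtype.val hs⟩) (isConj_iff.2 ⟨k⁻¹, ?_⟩)
    simp [mul_assoc]
  have hzt : z * t = t * z := (hzc t htK.1).symm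
  have h12 : Nat.card {p : G × G // orderOf p.1 = 2 ∧ p.1 ∉ N ∧ orderOf p.2 = 2 ∧ p.2 ∈ N ∧
      z ∈ zpowers (p.1 * p.2)} ≤ 12 := by
    have hall : Nat.card {x : A // orderOf x = 2} = 7 := by
      rw [← f7, ← Fintype.card_subtype, ← Nat.card_eq_fintype_card]
      refine Nat.card_congr (e.toEquiv.subtypeEquiv fun x => ?_)
      show orderOf x = 2 ↔ e x * e x = 1 ∧ e x ≠ 1
      rw [← map_mul, e.map_eq_one_iff, Ne, e.map_eq_one_iff]
      constructor
      · intro h
        exact ⟨by have := pow_orderOf_eq_one x; rwa [h, pow_two] at this, fun e1 => by rw [e1, orderOf_one] at h; omega⟩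
      · rintro ⟨h1, h2⟩
        exact orderOf_eq_prime (by rw [pow_two, h1]) h2
    have hsplit : Nat.card {x : A // orderOf x = 2 ∧ (x : G) ∉ N} + Nat.card {x : A // orderOf x = 2 ∧ (x : G) ∈ N} = 7 := by
      rw [← hall, ← Nat.card_sum]
      refine Nat.card_congr
        { toFun := fun s => s.elim (fun x => ⟨x.1, x.2.1⟩) (fun x => ⟨x.1, x.2.1⟩)
          invFun := fun x => if hx : ((x.1 : A) : G) ∈ N then Sum.inr ⟨x.1, x.2, hx⟩ else Sum.inl ⟨x.1, x.2, hx⟩
          left_inv := fun s => by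
            rcases s with x | x
            · simp [x.2.2]
            · simp [x.2.2]
          right_inv := fun x => by dsimp only; split_ifs <;> rfl }
    refine le_trans ?_ (show Nat.card {x : A // orderOf x = 2 ∧ (x : G) ∉ N} *
      Nat.card {x : A // orderOf x = 2 ∧ (x : G) ∈ N} ≤ 12 from by
        generalize Nat.card {x : A // orderOf x = 2 ∧ (x : G) ∉ N} = a at hsplit
        generalize Nat.card {x : A // orderOf x = 2 ∧ (x : G) ∈ N} = b at hsplit
        have : a ≤ 7 := by omega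
        interval_cases a <;> omega)
    rw [← Nat.card_prod]
    have key : ∀ p : {p : G × G // orderOf p.1 = 2 ∧ p.1 ∉ N ∧ orderOf p.2 = 2 ∧ p.2 ∈ N ∧
        z ∈ zpowers (p.1 * p.2)}, p.1.1 ∈ A ∧ p.1.2 ∈ A := by
      rintro ⟨⟨a, b⟩, ha, -, hb, -, hp⟩
      obtain ⟨h1, h2⟩ := pair_mem_centralizer (sq_one_of_orderOf_two ha) (sq_one_of_orderOf_two hb)
        (sq_one_of_orderOf_two hz) hp
      exact ⟨hC ▸ cent_iff.2 h1, hC ▸ cent_iff.2 h2⟩
    refine Nat.card_le_card_of_injective (fun p => (⟨⟨p.1.1, (key p).1⟩, by rw [Subgroup.orderOf_mk]; exact p.2.1, p.2.2.1⟩,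
      ⟨⟨p.1.2, (key p).2⟩, by rw [Subgroup.orderOf_mk]; exact p.2.2.2.1, p.2.2.2.2.1⟩)) ?_
    intro a b h
    simp only [Prod.mk.injEq, Subtype.mk.injEq] at h
    exact Subtype.ext (Prod.ext h.1 h.2)
  have hcardG : Nat.card G = 2 * Nat.card N := by rw [← N.card_mul_index, hN2, mul_comm]
  have hsimple : ∀ h : Invol.GW.IsPSLTwoOrSeven N, IsSimpleGroup N := Invol.GW.isSimple_of_model
  haveI := hsimple (d.dihedral_model hN hN1 hmin PN hn ⟨eP.trans f⟩)
  have hcen : center N = ⊥ := by
    refine ((inferInstance : (center N).Normal).eq_bot_or_eq_top).resolve_right fun h => ?_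
    refine d.not_solvable hN hN1 (Group.isSolvable_of_comm fun a b => ?_)
    exact ((mem_center_iff.1 (h ▸ mem_top a : a ∈ center N)) b).symm
  have hCN := d.centralizer_eq_bot hN hN1 hN2 hcen
  rcases hmodel with ⟨F, hF, hFf, c, hodd, h3, ⟨fN⟩, hc, hcard, hd, hcl⟩ | ⟨hcard, hd, hcl⟩
  · have hin : ∀ w : G, orderOf w = 2 → w ∈ N → IsConj t w := fun w hw hwN => by
      obtain ⟨k, hk⟩ := isConj_iff.1 (hcl ⟨t, htK.2⟩ ⟨w, hwN⟩ (by rw [Subgroup.orderOf_mk, ht])
        (by rw [Subgroup.orderOf_mk, hw]))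
      exact isConj_iff.2 ⟨(k : G), congrArg Subtype.val hk⟩
    have hb := order_bound hN hN2 hz ht hzN htK.2 hzt houtG hin hd h12
    rw [hC, hA12, hcardG, hcard] at hb
    have hq9 : Fintype.card F ≤ 10 := by
      obtain ⟨m, hm⟩ := hodd
      generalize Fintype.card F = q at *
      subst hm
      have hck : c * (c / 2) * 2 ≤ c * c := by
        rw [mul_assoc]; exact Nat.mul_le_mul_left _ (Nat.div_mul_le_self c 2)
      have hcq : c ≤ 2 * m + 2 := by omega
      have hcc := Nat.mul_le_mul hcq hcq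
      rw [show 2 * m + 1 - 1 = 2 * m by omega] at hb
      nlinarith
    obtain ⟨m, hm⟩ := hodd
    rcases (show Fintype.card F = 5 ∨ Fintype.card F = 7 ∨ Fintype.card F = 9 by omega) with hq | hq | hq
    · left
      obtain ⟨e5⟩ := PSLBin.psl_five_iso (E := F) hq
      obtain ⟨k⟩ := perm_five_mulAut
      obtain ⟨g'⟩ := iso_mulAut hN hCN (fN.trans e5) (by
        rw [← Nat.card_congr k.toEquiv, Nat.card_perm, Nat.card_fin, hcardG, hcard, hq]; rfl)
      exact ⟨g'.trans k.symm⟩
    · right; left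
      haveI : Fact (Nat.Prime 7) := ⟨by norm_num⟩
      obtain ⟨e7⟩ := psl_prime (F := F) (p := 7) (by norm_num) hq
      obtain ⟨k⟩ := pgl_mulAut (p := 7) (by norm_num)
      obtain ⟨g'⟩ := iso_mulAut hN hCN (fN.trans e7) (by
        rw [Cfsg.Agent.S0813.result 7 1 le_rfl (by rw [ZMod.card, pow_one]) 2 le_rfl (fun _ => by norm_num),
          Classical.natCard_PGL_eq_SL, Fus.PSLTwo.natCard_SL_two, ZMod.card, hcardG, hcard, hq]
        rfl)
      exact ⟨g'.trans k.symm⟩
    · exfalso
      rcases hc with ⟨-, hc'⟩ | ⟨h4, -⟩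
      · rw [hq] at hb hc'
        obtain rfl : c = 8 := by omega
        norm_num at hb
      · omega
  · exfalso
    have hin : ∀ w : G, orderOf w = 2 → w ∈ N → IsConj t w := fun w hw hwN => by
      obtain ⟨k, hk⟩ := isConj_iff.1 (hcl ⟨t, htK.2⟩ ⟨w, hwN⟩ (by rw [Subgroup.orderOf_mk, ht])
        (by rw [Subgroup.orderOf_mk, hw]))
      exact isConj_iff.2 ⟨(k : G), congrArg Subtype.val hk⟩
    have hb := order_bound hN hN2 hz ht hzN htK.2 hzt houtG hin hd h12
    rw [hC, hA12, hcardG, hcard] at hb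
    omega

end Cfsg.Agent.Transfer.SubThree
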