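import Mathlib
import Cfsg.Prelude.Def_Transfer
import Cfsg.Agent.Lib.Grp.Basic
import Cfsg.Agent.Lib.Invol.BrauerSuzuki
import Cfsg.Agent.Lib.Invol.CyclicZ.Basic
import Cfsg.Agent.S0205

/-!
# Insoluble groups with a soluble maximal subgroup of trivial core: common tools

For S3686 (primitive groups with a suborbit of length three).
-/

set_option autoImplicit false
set_option linter.unusedSectionVars false
set_option linter.style.haveILetI false

namespace Cfsg.Agent.Transfer.SubThree

open Subgroup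

variable {G : Type*} [Group G] [Finite G] {A : Subgroup G}

/-- The standing hypotheses. -/
structure Ctx (A : Subgroup G) : Prop where
  coatom : IsCoatom A
  core : ∀ N : Subgroup G, N.Normal → N ≤ A → N = ⊥
  ns : ¬ Group.IsSolvable G
  sol : Group.IsSolvable A

omit [Finite G] in
theorem cent_iff {a b : G} : b ∈ centralizer ({a} : Set G) ↔ b * a = a * b :=
  mem_centralizer_singleton_iff

omit [Finite G] in
theorem le_normalizer_of_conj {H K : Subgroup G} (h : ∀ g ∈ H, ∀ x ∈ K, g * x * g⁻¹ ∈ K) :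
    H ≤ normalizer (K : Set G) := by
  intro g hg
  rw [mem_normalizer_iff]
  refine fun x => ⟨h g hg x, fun hx => ?_⟩
  have := h g⁻¹ (inv_mem hg) _ hx
  simpa [mul_assoc] using this

omit [Finite G] in
theorem conj_mem {H : Subgroup G} {g x : G} (hg : g ∈ normalizer (H : Set G)) (hx : x ∈ H) :
    g * x * g⁻¹ ∈ H :=
  (mem_normalizer_iff.1 hg x).1 hx

/-- A two-group normalising a subgroup of even order fixes a non-identity element of it. -/
theorem exists_fixed {R N : Subgroup G} (hR : IsPGroup 2 R) (hRN : R ≤ normalizer (N : Set G))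
    (hN : 2 ∣ Nat.card N) : ∃ n ∈ N, n ≠ 1 ∧ ∀ r ∈ R, r * n = n * r := by
  haveI : Fact (Nat.Prime 2) := ⟨Nat.prime_two⟩
  letI : MulAction R N :=
    { smul := fun r n => ⟨(r : G) * n * (r : G)⁻¹, conj_mem (hRN r.2) n.2⟩
      one_smul := fun n => Subtype.ext (by
        show ((1 : R) : G) * n * ((1 : R) : G)⁻¹ = n
        simp)
      mul_smul := fun r s n => Subtype.ext (by
        show ((r * s : R) : G) * n * ((r * s : R) : G)⁻¹ =
          (r : G) * ((s : G) * n * (s : G)⁻¹) * (r : G)⁻¹
        simp [mul_assoc]) }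
  have h1 : (1 : N) ∈ MulAction.fixedPoints R N := fun r => Subtype.ext (by
    show (r : G) * ((1 : N) : G) * (r : G)⁻¹ = ((1 : N) : G)
    simp)
  obtain ⟨n, hn, hn1⟩ := hR.exists_fixed_point_of_prime_dvd_card_of_fixed_point N hN h1
  refine ⟨n, n.2, fun e => hn1 (Subtype.ext e).symm, fun r hr => ?_⟩
  have h2 : (r : G) * n * r⁻¹ = n := congrArg Subtype.val (hn ⟨r, hr⟩)
  calc r * n = r * n * r⁻¹ * r := by group
    _ = n * r := by rw [h2]

/-- The fixed points of an involution in a subgroup of even order have even order. -/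
theorem even_fixed {N : Subgroup G} {z : G} (hz : orderOf z = 2) (hzN : z ∈ normalizer (N : Set G))
    (hN : 2 ∣ Nat.card N) : 2 ∣ Nat.card ↥(N ⊓ centralizer ({z} : Set G)) := by
  haveI : Fact (Nat.Prime 2) := ⟨Nat.prime_two⟩
  have hR : IsPGroup 2 (zpowers z) :=
    IsPGroup.of_card (n := 1) (by rw [Nat.card_zpowers, hz, pow_one])
  have hRN : zpowers z ≤ normalizer (N : Set G) := zpowers_le.2 hzN
  letI : MulAction (zpowers z) N :=
    { smul := fun r n => ⟨(r : G) * n * (r : G)⁻¹, conj_mem (hRN r.2) n.2⟩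
      one_smul := fun n => Subtype.ext (by
        show ((1 : zpowers z) : G) * n * ((1 : zpowers z) : G)⁻¹ = n
        simp)
      mul_smul := fun r s n => Subtype.ext (by
        show ((r * s : zpowers z) : G) * n * ((r * s : zpowers z) : G)⁻¹ =
          (r : G) * ((s : G) * n * (s : G)⁻¹) * (r : G)⁻¹
        simp [mul_assoc]) }
  have hfix : ∀ n : N, n ∈ MulAction.fixedPoints (zpowers z) N ↔ (n : G) ∈ centralizer ({z} : Set G) := by
    intro n
    constructor
    · intro h
      have h2 : z * n * z⁻¹ = n := congrArg Subtype.val (h ⟨z, mem_zpowers z⟩)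
      rw [cent_iff]
      calc (n : G) * z = z * n * z⁻¹ * z := by rw [h2]
        _ = z * n := by group
    · rintro h ⟨r, hr⟩
      refine Subtype.ext ?_
      show r * n * r⁻¹ = n
      obtain ⟨i, rfl⟩ := mem_zpowers_iff.1 hr
      have : Commute (z ^ i) (n : G) := (show Commute z (n : G) from (cent_iff.1 h).symm).zpow_left i
      rw [this.eq, mul_inv_cancel_right]
  have h := hR.card_modEq_card_fixedPoints N
  have hc : Nat.card (MulAction.fixedPoints (zpowers z) N) = Nat.card ↥(N ⊓ centralizer ({z} : Set G)) :=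
    Nat.card_congr
      { toFun := fun n => ⟨n.1, n.1.2, (hfix n.1).1 n.2⟩
        invFun := fun g => ⟨⟨g, g.2.1⟩, (hfix _).2 g.2.2⟩
        left_inv := fun n => rfl
        right_inv := fun g => rfl }
  rw [hc] at h
  exact (Nat.modEq_zero_iff_dvd.1 (h.symm.trans (Nat.modEq_zero_iff_dvd.2 hN)))

namespace Ctx

theorem ne_top (d : Ctx A) : A ≠ ⊤ := d.coatom.1

theorem sup_eq_top (d : Ctx A) {N : Subgroup G} (hN : N.Normal) (h : N ≠ ⊥) : N ⊔ A = ⊤ :=
  d.coatom.2 _ (lt_of_le_of_ne le_sup_right fun e => h (d.core N hN (e.symm ▸ le_sup_left)))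

theorem not_solvable (d : Ctx A) {N : Subgroup G} (hN : N.Normal) (h : N ≠ ⊥) :
    ¬ Group.IsSolvable N := by
  intro hs
  haveI := hN
  haveI := d.sol
  have hsurj : Function.Surjective ((QuotientGroup.mk' N).comp A.subtype) := by
    rw [← MonoidHom.range_eq_top, MonoidHom.range_comp, Subgroup.range_subtype,
      ← Subgroup.map_top_of_surjective (QuotientGroup.mk' N) (QuotientGroup.mk'_surjective N),
      ← d.sup_eq_top hN h, Subgroup.map_sup, (map_eq_bot_iff N).2 (QuotientGroup.ker_mk' N).ge, bot_sup_eq]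
  haveI : Group.IsSolvable (G ⧸ N) := Group.isSolvable_of_surjective hsurj
  haveI := hs
  exact d.ns (Group.isSolvable_of_ker_le_range N.subtype (QuotientGroup.mk' N) (by simp))

theorem two_dvd (d : Ctx A) {N : Subgroup G} (hN : N.Normal) (h : N ≠ ⊥) : 2 ∣ Nat.card N := by
  by_contra h2
  exact d.not_solvable hN h (Cfsg.Agent.S0205.result (Nat.odd_iff.2 (Nat.two_dvd_ne_zero.1 h2)))

theorem normalizer_eq (d : Ctx A) {W : Subgroup G} (hAW : A ≤ normalizer (W : Set G)) (hW : W ≤ A)
    (h1 : W ≠ ⊥) : normalizer (W : Set G) = A := by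
  refine (d.coatom.le_iff.1 hAW).resolve_left fun e => h1 (d.core W ?_ hW)
  exact normalizer_eq_top_iff.1 e

theorem centralizer_le (d : Ctx A) {W : Subgroup G} (hAW : A ≤ normalizer (W : Set G)) (hW : W ≤ A)
    (h1 : W ≠ ⊥) : centralizer (W : Set G) ≤ A := by
  rw [← d.normalizer_eq hAW hW h1]
  intro g hg
  rw [mem_centralizer_iff] at hg
  rw [mem_normalizer_iff]
  intro x
  constructor
  · intro hx
    rw [← hg x hx, mul_inv_cancel_right]
    exact hx
  · intro hx
    have h2 : (g * x * g⁻¹) * g = g * (g * x * g⁻¹) := hg _ hx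
    have h3 : g * x * g⁻¹ = x := by
      calc g * x * g⁻¹ = g⁻¹ * (g * (g * x * g⁻¹)) := by group
        _ = g⁻¹ * ((g * x * g⁻¹) * g) := by rw [h2]
        _ = x := by group
    rwa [h3] at hx

theorem centralizer_invol (d : Ctx A) {z : G} (hzA : z ∈ A) (hz1 : z ≠ 1)
    (hc : ∀ a ∈ A, a * z = z * a) : centralizer ({z} : Set G) = A := by
  refine le_antisymm (fun g hg => ?_) fun a ha => cent_iff.2 (hc a ha)
  have hAW : A ≤ normalizer (zpowers z : Set G) := le_normalizer_of_conj fun a ha x hx => by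
    obtain ⟨i, rfl⟩ := mem_zpowers_iff.1 hx
    rw [((show Commute a z from hc a ha).zpow_right i).eq, mul_inv_cancel_right]
    exact zpow_mem (mem_zpowers z) i
  refine d.centralizer_le hAW (zpowers_le.2 hzA) (fun e => hz1 (zpowers_eq_bot.1 e)) ?_
  rw [← centralizer_closure, ← zpowers_eq_closure] at hg
  exact hg

/-- A minimal normal subgroup. -/
theorem exists_minimal (d : Ctx A) : ∃ N : Subgroup G, N.Normal ∧ N ≠ ⊥ ∧
    ∀ K : Subgroup G, K.Normal → K ≤ N → K = ⊥ ∨ K = N := by
  have hne : (⊤ : Subgroup G) ≠ ⊥ := fun e => d.ne_top (le_antisymm le_top (e ▸ bot_le))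
  obtain ⟨M, h1, h2, -, h3⟩ := Grp.exists_minimal_normal_le (N := (⊤ : Subgroup G)) hne
  exact ⟨M, h1, h2, h3⟩

theorem perfect (d : Ctx A) {N : Subgroup G} (hN : N.Normal) (h : N ≠ ⊥)
    (hmin : ∀ K : Subgroup G, K.Normal → K ≤ N → K = ⊥ ∨ K = N) : Group.IsPerfect N := by
  haveI := hN
  refine ⟨?_⟩
  rcases hmin ((commutator N).map N.subtype) inferInstance (map_subtype_le _) with e | e
  · exfalso
    rw [map_eq_bot_iff_of_injective _ N.subtype_injective] at e
    refine d.not_solvable hN h ?_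
    rw [Group.isSolvable_def]
    exact ⟨1, by rw [derivedSeries_one]; exact e⟩
  · refine map_injective N.subtype_injective ?_
    rw [e, ← MonoidHom.range_eq_map, Subgroup.range_subtype]

/-- The image in `G` of a characteristic subgroup of a minimal normal subgroup. -/
theorem char_eq_bot (d : Ctx A) {N : Subgroup G} (hN : N.Normal) (h : N ≠ ⊥) (K : Subgroup N)
    [K.Characteristic] (hK : Group.IsSolvable K) : K = ⊥ := by
  haveI := hN
  by_contra hne
  refine d.not_solvable (N := K.map N.subtype) inferInstance ?_ ?_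
  · rwa [Ne, map_eq_bot_iff_of_injective _ N.subtype_injective]
  · haveI := hK
    exact Group.isSolvable_of_surjective
      (f := (K.equivMapOfInjective N.subtype N.subtype_injective).toMonoidHom) (MulEquiv.surjective _)

theorem oddCore_eq_bot (d : Ctx A) {N : Subgroup G} (hN : N.Normal) (h : N ≠ ⊥) :
    Cfsg.oddCore N = ⊥ := by
  haveI : (Cfsg.oddCore N).Characteristic := by unfold Cfsg.oddCore; infer_instance
  refine d.char_eq_bot hN h _ (Cfsg.Agent.S0205.result ?_)
  exact Nat.coprime_two_right.1 Grp.pPrimeCore_coprime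

/-- A Sylow subgroup of a minimal normal subgroup has more than one involution. -/
theorem not_rank_one (d : Ctx A) {N : Subgroup G} (hN : N.Normal) (h : N ≠ ⊥)
    (S : Sylow 2 N) : ∃ u ∈ (S : Subgroup N), ∃ v ∈ (S : Subgroup N),
      orderOf u = 2 ∧ orderOf v = 2 ∧ u ≠ v := by
  by_contra hno
  push Not at hno
  haveI : Fact (Nat.Prime 2) := ⟨Nat.prime_two⟩
  have hr : BS.TwoRankOne N := BS.twoRankOne_of_sylow S fun u hu v hv => hno u hu v hv
  obtain ⟨z, hz⟩ := exists_prime_orderOf_dvd_card' (G := N) 2 (d.two_dvd hN h)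
  obtain ⟨K, hKn, hK2, hzK⟩ := BS.exists_odd_normal hr hz
  have hK : K = ⊥ := le_antisymm
    ((Grp.le_pPrimeCore hKn (Nat.coprime_two_right.2 hK2)).trans (d.oddCore_eq_bot hN h).le) bot_le
  have hzc : z ∈ center N := mem_center_iff.2 fun g => by
    have h1 := hzK g
    rw [hK, mem_bot] at h1
    exact (mul_inv_eq_iff_eq_mul.1 (mul_inv_eq_one.1 h1)).symm
  have hb := d.char_eq_bot hN h (center N)
    (Group.isSolvable_of_comm fun a b => Subtype.ext ((mem_center_iff.1 b.2 a)))
  rw [hb, mem_bot] at hzc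
  rw [hzc, orderOf_one] at hz
  omega

theorem not_cyclic (d : Ctx A) {N : Subgroup G} (hN : N.Normal) (h : N ≠ ⊥) (S : Sylow 2 N) :
    ¬ IsCyclic (S : Subgroup N) := fun hc => d.not_solvable hN h (Invol.CyclicZ.solvable_of_cyclic_two S hc)

end Ctx

end Cfsg.Agent.Transfer.SubThree
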