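import Cfsg.Agent.Lib.Fus.MathieuTwoGroups
import Cfsg.Agent.Lib.Spor.Golay.M24Frames
import Cfsg.Agent.Lib.Spor.Golay.CensusClasses

/-!
# No small maximal subgroup of `M₁₁` normalises a four-group
-/

set_option autoImplicit false
set_option linter.unusedSectionVars false
set_option linter.style.haveILetI false

namespace Cfsg.Agent.Transfer.SubThree

open Subgroup
open scoped Pointwise

/-- A sharply four-transitive action of degree eleven has no small maximal normaliser of a two-group. -/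
theorem no_small_normaliser {G : Type*} [Group G] [Finite G] {P : Type*} [Fintype P] [DecidableEq P]
    [MulAction G P] (hP : Fintype.card P = 11) (hG : Nat.card G = 7920)
    (h4 : ∀ g : G, ∀ s : Finset P, 4 ≤ s.card → (∀ x ∈ s, g • x = x) → g = 1)
    {A V : Subgroup G} (hA : IsCoatom A) (hA24 : Nat.card A ≤ 24) (hV2 : IsPGroup 2 V) (hV1 : V ≠ ⊥)
    (hAV : ∀ a ∈ A, ∀ v ∈ V, a * v * a⁻¹ ∈ V) : False := by
  classical
  haveI : Fact (Nat.Prime 2) := ⟨Nat.prime_two⟩
  let F : Finset P := Finset.univ.filter fun x => ∀ v ∈ V, v • x = x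
  have hmem : ∀ x, x ∈ F ↔ ∀ v ∈ V, v • x = x := fun x => by simp [F]
  have hne : F.Nonempty := by
    have h := hV2.card_modEq_card_fixedPoints P
    rw [Nat.card_eq_fintype_card, hP] at h
    have hpos : Nat.card (MulAction.fixedPoints V P) ≠ 0 := fun e => by rw [e] at h; exact absurd h (by decide)
    obtain ⟨⟨x, hx⟩⟩ := (Nat.card_ne_zero.1 hpos).1
    exact ⟨x, (hmem x).2 fun v hv => hx ⟨v, hv⟩⟩
  have hF3 : F.card ≤ 3 := by
    by_contra hh
    obtain ⟨v, hv, hv1⟩ := (Subgroup.ne_bot_iff_exists_ne_one.1 hV1 |> fun ⟨v, hv⟩ =>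
      (⟨v, v.2, fun e => hv (Subtype.ext e)⟩ : ∃ v : G, v ∈ V ∧ v ≠ 1))
    exact hv1 (h4 v F (by omega) fun x hx => (hmem x).1 hx v hv)
  set H := MulAction.stabilizer G F with hH
  have hAH : A ≤ H := by
    have hsub : ∀ a ∈ A, a • F ⊆ F := by
      intro a ha x hx
      obtain ⟨y, hy, rfl⟩ := Finset.mem_smul_finset.1 hx
      refine (hmem _).2 fun v hv => ?_
      have h := (hmem y).1 hy _ (hAV a⁻¹ (inv_mem ha) v hv)
      rw [inv_inv] at h
      calc v • a • y = a • (a⁻¹ * v * a) • y := by rw [smul_smul, smul_smul]; group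
        _ = a • y := by rw [h]
    intro a ha
    exact Finset.eq_of_subset_of_card_le (hsub a ha) (by rw [Finset.card_smul_finset])
  have horb : Nat.card (MulAction.orbit G F) ≤ 165 := by
    have hsub : MulAction.orbit G F ⊆ ((Finset.univ.powersetCard F.card : Finset (Finset P)) : Set (Finset P)) := by
      rintro _ ⟨g, rfl⟩
      simp [Finset.mem_powersetCard, Finset.card_smul_finset]
    refine le_trans (Nat.card_mono (Finset.finite_toSet _) hsub) ?_
    rw [Nat.card_coe_set_eq, Set.ncard_coe_finset, Finset.card_powersetCard, Finset.card_univ, hP]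
    have : 1 ≤ F.card := hne.card_pos
    interval_cases h : F.card <;> decide
  have hprod : Nat.card (MulAction.orbit G F) * Nat.card H = 7920 := by
    rw [← hG, Nat.card_congr (MulAction.orbitEquivQuotientStabilizer G F), mul_comm, ← Subgroup.index_eq_card]
    exact H.card_mul_index
  have hlt : A ≠ H := fun e => by
    rw [← e] at hprod
    have := Nat.mul_le_mul horb hA24
    omega
  have htop : H = ⊤ := hA.2 H (lt_of_le_of_ne hAH hlt)
  obtain ⟨x, hx⟩ := hne
  obtain ⟨t, hts, ht3⟩ := Finset.exists_subset_card_eq (show 3 ≤ (Finset.univ.erase x).card by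
    rw [Finset.card_erase_of_mem (Finset.mem_univ x), Finset.card_univ, hP]; norm_num)
  obtain ⟨y₁, y₂, y₃, h12, h13, h23, rfl⟩ := Finset.card_eq_three.1 ht3
  have hxy : ∀ y ∈ ({y₁, y₂, y₃} : Finset P), y ≠ x := fun y hy => Finset.ne_of_mem_erase (hts hy)
  let f : G → F × P × P × P := fun g => (⟨g • x, by
    have h : g • F = F := (htop ▸ mem_top g : g ∈ H)
    rw [← h]; exact Finset.smul_mem_smul_finset hx⟩, g • y₁, g • y₂, g • y₃)
  have hf : Function.Injective f := by
    intro g g' e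
    simp only [f, Prod.mk.injEq, Subtype.mk.injEq] at e
    obtain ⟨e0, e1, e2, e3⟩ := e
    have h1 : g⁻¹ * g' = 1 := h4 _ {x, y₁, y₂, y₃} (by
      rw [Finset.card_insert_of_notMem, Finset.card_eq_three.2 ⟨y₁, y₂, y₃, h12, h13, h23, rfl⟩]
      exact fun hm => hxy x hm rfl) (by
      intro w hw
      simp only [Finset.mem_insert, Finset.mem_singleton] at hw
      rcases hw with rfl | rfl | rfl | rfl <;> rw [mul_smul, inv_smul_eq_iff] <;>
        first | exact e0.symm | exact e1.symm | exact e2.symm | exact e3.symm)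
    exact inv_mul_eq_one.1 h1
  have := Nat.card_le_card_of_injective f hf
  rw [hG, Nat.card_eq_fintype_card] at this
  simp only [Fintype.card_prod, Fintype.card_coe, hP] at this
  have h3 := Nat.mul_le_mul_right (11 * (11 * 11)) hF3
  omega

/-- `M₁₁` has no maximal subgroup of order at most 24 normalising a non-trivial two-group. -/
theorem eleven_no_small {G : Type*} [Group G] [Finite G] (h : Cfsg.Spor.IsoM11 G) {A V : Subgroup G}
    (hA : IsCoatom A) (hA24 : Nat.card A ≤ 24) (hV2 : IsPGroup 2 V) (hV1 : V ≠ ⊥)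
    (hAV : ∀ a ∈ A, ∀ v ∈ V, a * v * a⁻¹ ∈ V) : False := by
  classical
  obtain ⟨e⟩ := h
  set d := Cfsg.Spor.squareDodecad with hd
  have hmem : d ∈ Cfsg.dodecads := Fus.Mathieu.square_mem
  have h0 : some (0 : ZMod 23) ∈ d := by rw [hd]; decide +kernel
  let φ : G →* Equiv.Perm Cfsg.GolayPt := Cfsg.Spor.M11.subtype.comp e.toMonoidHom
  have hφinj : Function.Injective φ := Cfsg.Spor.M11.subtype_injective.comp e.injective
  have hφ : ∀ g, φ g ∈ Cfsg.M24 ∧ φ g • d = d ∧ φ g (some 0) = some 0 := fun g => by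
    obtain ⟨h12, hs⟩ := Subgroup.mem_inf.1 (e g).2
    obtain ⟨h24, hd'⟩ := Subgroup.mem_inf.1 h12
    exact ⟨h24, hd', hs⟩
  let P := {x : Cfsg.GolayPt // x ∈ d ∧ x ≠ some 0}
  have hst : ∀ g x, x ∈ d ∧ x ≠ some 0 → φ g x ∈ d ∧ φ g x ≠ some 0 := by
    intro g x hx
    refine ⟨?_, fun hh => hx.2 ?_⟩
    · rw [← (hφ g).2.1]
      exact Finset.smul_mem_smul_finset hx.1
    · exact (φ g).injective (hh.trans (hφ g).2.2.symm)
  letI : MulAction G P :=
    { smul := fun g x => ⟨φ g x.1, hst g x.1 x.2⟩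
      one_smul := fun x => Subtype.ext (by show φ 1 x.1 = x.1; rw [map_one]; rfl)
      mul_smul := fun g g' x => Subtype.ext (by show φ (g * g') x.1 = φ g (φ g' x.1); rw [map_mul]; rfl) }
  refine no_small_normaliser (P := P) ?_ ?_ ?_ hA hA24 hV2 hV1 hAV
  · rw [Fintype.card_subtype]
    have : (Finset.univ.filter fun x => x ∈ d ∧ x ≠ some 0) = d.erase (some 0) := by
      ext x; simp [and_comm]
    rw [this, Finset.card_erase_of_mem h0, hmem.2]
  · rw [Nat.card_congr e.toEquiv, Fus.Mathieu.card11]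
  · intro g s hs hfix
    refine hφinj ((map_one φ).symm ▸ ?_)
    set t : Finset Cfsg.GolayPt := insert (some 0) (s.map (Function.Embedding.subtype _))
    have ht : 5 ≤ t.card := by
      rw [Finset.card_insert_of_notMem, Finset.card_map]
      · omega
      · rw [Finset.mem_map]; rintro ⟨⟨x, hx⟩, -, hh⟩; exact hx.2 hh
    have htd : ∀ x ∈ t, x ∈ d ∧ φ g x = x := by
      intro x hx
      rcases Finset.mem_insert.1 hx with rfl | hx
      · exact ⟨h0, (hφ g).2.2⟩
      · obtain ⟨⟨x, hx'⟩, hxs, rfl⟩ := Finset.mem_map.1 hx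
        exact ⟨hx'.1, congrArg Subtype.val (hfix _ hxs)⟩
    obtain ⟨u, hu, hu5⟩ := Finset.exists_subset_card_eq ht
    exact Spor.Golay.eq_one_of_fix_dodecad hmem
      ((u.equivFinOfCardEq hu5).symm.toEmbedding.trans (Function.Embedding.subtype _))
      (fun i => (htd _ (hu ((u.equivFinOfCardEq hu5).symm i).2)).1) (hφ g).1 (hφ g).2.1
      fun i => (htd _ (hu ((u.equivFinOfCardEq hu5).symm i).2)).2

end Cfsg.Agent.Transfer.SubThree
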