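import Mathlib

/-!
# Small counts in `Alt(4).2` and in the dihedral group of order sixteen
-/

set_option autoImplicit false
set_option maxRecDepth 100000

namespace Cfsg.Agent.Transfer.SubThree

/-- Pairs of involutions (the first possibly trivial) of `Perm (Fin 4)` with product of odd order. -/
theorem count_odd_pairs : Fintype.card {p : Equiv.Perm (Fin 4) × Equiv.Perm (Fin 4) //
    p.1 * p.1 = 1 ∧ (p.2 * p.2 = 1 ∧ p.2 ≠ 1) ∧ p.1 * p.2 * (p.1 * p.2) * (p.1 * p.2) = 1} ≤ 33 := by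
  decide +kernel

theorem order_cases : ∀ p : Equiv.Perm (Fin 4), p * p * p = 1 ∨ (p * p = 1 ∧ p ≠ 1) ∨
    (p * p * (p * p) = 1 ∧ p * p ≠ 1) := by decide +kernel

theorem perm_four_odd {p : Equiv.Perm (Fin 4)} {i : ℤ} (hi : Odd i) (h : p ^ i = 1) : p * p * p = 1 := by
  have hd : (orderOf p : ℤ) ∣ i := orderOf_dvd_iff_zpow_eq_one.2 h
  rcases order_cases p with e | ⟨e1, e2⟩ | ⟨e1, e2⟩
  · exact e
  · exfalso
    have ho : orderOf p = 2 := orderOf_eq_prime (by rw [pow_two]; exact e1) e2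
    rw [ho] at hd
    obtain ⟨j, rfl⟩ := hi
    omega
  · exfalso
    have ho : orderOf p = 2 ^ (1 + 1) :=
      orderOf_eq_prime_pow (by simpa [pow_two] using e2) (by rw [show 2 ^ (1 + 1) = 2 * 2 from rfl, pow_mul, pow_two, pow_two]; exact e1)
    rw [ho] at hd
    obtain ⟨j, rfl⟩ := hi
    norm_num at hd
    omega

theorem dihedral_roots : ∀ a b : DihedralGroup 8, a * a = b * b → a * a ≠ 1 → a * a * (a * a) = 1 →
    a = b ∨ a = b⁻¹ := by decide +kernel

end Cfsg.Agent.Transfer.SubThree
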