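import Mathlib

/-!
# Counting facts on seven points
-/

set_option autoImplicit false
set_option maxRecDepth 100000

namespace Cfsg.Agent.Transfer.SubThree

/-- The seven-point facts. -/
theorem seven_count :
    (Finset.univ.filter fun x : Equiv.Perm (Fin 7) => Equiv.Perm.sign x = 1 ∧
      x * (Equiv.swap 0 1 * Equiv.swap 2 3) = (Equiv.swap 0 1 * Equiv.swap 2 3) * x).card = 24 ∧
    (Finset.univ.filter fun x : Equiv.Perm (Fin 7) => Equiv.Perm.sign x = 1 ∧
      x * (Equiv.swap 0 1 * Equiv.swap 2 3) = (Equiv.swap 0 1 * Equiv.swap 2 3) * x ∧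
      x * x = 1 ∧ x ≠ 1 ∧ x ≠ Equiv.swap 0 1 * Equiv.swap 2 3).card ≤ 14 := by
  decide +kernel

end Cfsg.Agent.Transfer.SubThree
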