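import Cfsg.Agent.Lib.Transfer.SubThree.Basic
import Cfsg.Agent.Lib.Transfer.SubThree.Seven
import Cfsg.Agent.Lib.Invol.GW.Endgame
import Cfsg.Agent.Lib.Invol.GW.Consumers.Dihedral
import Cfsg.Agent.Lib.Transfer.SelfCentNoncyclic.Linear
import Cfsg.Agent.Lib.Block.Zas.FieldCongr

/-!
# Involution centralisers in the models `PSL₂(q)` and `Alt(7)`
-/

set_option autoImplicit false
set_option linter.unusedSectionVars false
set_option linter.style.haveILetI false
set_option maxRecDepth 100000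

namespace Cfsg.Agent.Transfer.SubThree

open Subgroup Cfsg.Agent.Dickson

/-- The numerical data of an involution centraliser. -/
def CentData (X : Type*) [Group X] (c k : ℕ) : Prop :=
  ∀ t : X, orderOf t = 2 → Nat.card ↥(centralizer ({t} : Set X)) = c ∧
    Nat.card {x : X // x * t = t * x ∧ orderOf x = 2 ∧ x ≠ t} ≤ k

theorem CentData.congr {X Y : Type*} [Group X] [Group Y] (e : X ≃* Y) {c k : ℕ} (h : CentData Y c k) :
    CentData X c k := by
  intro t ht
  obtain ⟨h1, h2⟩ := h (e t) (by rw [MulEquiv.orderOf_eq, ht])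
  constructor
  · rw [← h1]
    refine Nat.card_congr (e.toEquiv.subtypeEquiv fun x => ?_)
    show x ∈ centralizer ({t} : Set X) ↔ e x ∈ centralizer ({e t} : Set Y)
    rw [cent_iff, cent_iff, ← map_mul, ← map_mul, e.injective.eq_iff]
  · refine le_of_eq_of_le ?_ h2
    refine Nat.card_congr (e.toEquiv.subtypeEquiv fun x => ?_)
    show _ ↔ e x * e t = e t * e x ∧ orderOf (e x) = 2 ∧ e x ≠ e t
    rw [← map_mul, ← map_mul, e.injective.eq_iff, MulEquiv.orderOf_eq, ne_eq, ne_eq, e.injective.eq_iff]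

section PSL

variable {F : Type} [Field F] [Fintype F]

local notation "PSL₂" => Matrix.ProjectiveSpecialLinearGroup (Fin 2) F

theorem psl_centData (hodd : Odd (Fintype.card F)) :
    ∃ c : ℕ, ((Fintype.card F % 4 = 1 ∧ c + 1 = Fintype.card F) ∨
      (Fintype.card F % 4 = 3 ∧ c = Fintype.card F + 1)) ∧ CentData PSL₂ c (c / 2) := by
  obtain ⟨p, hp⟩ := CharP.exists F
  haveI := hp
  obtain ⟨n, hprime, -⟩ := FiniteField.card F p
  haveI : Fact p.Prime := ⟨hprime⟩
  have hq := Fintype.one_lt_card (α := F)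
  obtain ⟨m, hm⟩ := hodd
  refine ⟨if Fintype.card F % 4 = 1 then Fintype.card F - 1 else Fintype.card F + 1, ?_, ?_⟩
  · split_ifs with h <;> omega
  intro t ht
  have hodd : Odd (Fintype.card F) := ⟨m, hm⟩
  obtain ⟨ha, hb⟩ := Transfer.SelfCentNoncyclic.card_centralizer_involution p hodd ht
  have hc : Nat.card ↥(centralizer ({t} : Set PSL₂)) =
      if Fintype.card F % 4 = 1 then Fintype.card F - 1 else Fintype.card F + 1 := by
    split_ifs with h
    · exact ha h
    · exact hb (by omega)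
  refine ⟨hc, ?_⟩
  obtain ⟨h1, hgp, h2⟩ := involution_semi p hodd ht
  obtain ⟨-, ta, tb⟩ := card_tor_involution p hodd ht
  have hcyc : IsCyclic (tor t) := (pslData (F := F) p).semi_cyclic h1 hgp
  have hle : tor t ≤ centralizer ({t} : Set PSL₂) := fun x hx =>
    cent_iff.2 ((pslData (F := F) p).comm h1 hx ((pslData (F := F) p).self t)).eq
  classical
  have hsub : Nat.card {x : PSL₂ // x * t = t * x ∧ orderOf x = 2 ∧ x ≠ t} ≤
      Nat.card ↥((centralizer ({t} : Set PSL₂) : Set PSL₂) \ (tor t : Set PSL₂)) := by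
    refine Nat.card_le_card_of_injective (fun x => ⟨x.1, cent_iff.2 x.2.1, fun hx => x.2.2.2 ?_⟩) ?_
    · exact Block.BSWRec.involution_eq (R := tor t) hcyc hx ((pslData (F := F) p).self t) x.2.2.1 ht
    · intro x y h; exact Subtype.ext (congrArg Subtype.val h :)
  rw [Nat.card_coe_set_eq, Set.ncard_diff hle, ← Nat.card_coe_set_eq, ← Nat.card_coe_set_eq] at hsub
  change _ ≤ Nat.card ↥(centralizer ({t} : Set PSL₂)) - Nat.card ↥(tor t) at hsub
  rw [hc] at hsub
  split_ifs at hsub ⊢ with h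
  · rw [ta h] at hsub; omega
  · rw [tb (by omega)] at hsub; omega

end PSL

theorem cycle_two_two {t : Equiv.Perm (Fin 7)} (h2 : orderOf t = 2) (hs : Equiv.Perm.sign t = 1) :
    t.cycleType = {2, 2} := by
  obtain ⟨n, hn⟩ := Equiv.Perm.cycleType_prime_order (σ := t) (by rw [h2]; exact Nat.prime_two)
  rw [h2] at hn
  have h := t.sum_cycleType_le
  rw [hn, Multiset.sum_replicate, Fintype.card_fin, smul_eq_mul] at h
  rw [Equiv.Perm.sign_of_cycleType, hn, Multiset.sum_replicate, Multiset.card_replicate, smul_eq_mul] at hs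
  have : n = 1 := by
    rcases n with _ | _ | n
    · exact absurd hs (by decide)
    · rfl
    · obtain rfl : n = 0 := by omega
      exact absurd hs (by decide)
  rw [hn, this]; rfl

theorem seven_centData : CentData (alternatingGroup (Fin 7)) 24 14 := by
  intro t ht
  have hs : Equiv.Perm.sign (t : Equiv.Perm (Fin 7)) = 1 := Equiv.Perm.mem_alternatingGroup.1 t.2
  obtain ⟨g, hg⟩ := isConj_iff.1 ((Equiv.Perm.isConj_iff_cycleType_eq
    (σ := (t : Equiv.Perm (Fin 7))) (τ := Equiv.swap 0 1 * Equiv.swap 2 3)).2 (by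
      rw [cycle_two_two (by rw [Subgroup.orderOf_coe, ht]) hs,
        cycle_two_two (orderOf_eq_prime (by decide +kernel) (by decide +kernel)) (by decide +kernel)]))
  have hconj : ∀ x y : Equiv.Perm (Fin 7), g * x * g⁻¹ * (g * y * g⁻¹) = g * (x * y) * g⁻¹ := fun x y => by group
  have hcc : ∀ x y : Equiv.Perm (Fin 7), g * x * g⁻¹ = g * y * g⁻¹ ↔ x = y := fun x y => by simp
  let f : alternatingGroup (Fin 7) ≃* alternatingGroup (Fin 7) := MulAut.conjNormal g
  have hf : ∀ x, ((f x : alternatingGroup (Fin 7)) : Equiv.Perm (Fin 7)) = g * x * g⁻¹ := fun x =>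
    MulAut.conjNormal_apply g x
  constructor
  · refine (Nat.card_congr (f.toEquiv.subtypeEquiv
      (q := fun y : alternatingGroup (Fin 7) => (y : Equiv.Perm (Fin 7)) * (Equiv.swap 0 1 * Equiv.swap 2 3) =
        (Equiv.swap 0 1 * Equiv.swap 2 3) * (y : Equiv.Perm (Fin 7))) fun x => ?_)).trans ?_
    · show x ∈ centralizer ({t} : Set _) ↔ _
      rw [cent_iff, ← hg]
      show x * t = t * x ↔ ((f x : alternatingGroup (Fin 7)) : Equiv.Perm (Fin 7)) * _ = _ * _
      show x * t = t * x ↔ ((f x : alternatingGroup (Fin 7)) : Equiv.Perm (Fin 7)) * (g * ↑t * g⁻¹) =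
        (g * ↑t * g⁻¹) * ((f x : alternatingGroup (Fin 7)) : Equiv.Perm (Fin 7))
      rw [hf, hconj, hconj, hcc, ← Subtype.coe_inj]
      rfl
    · rw [← seven_count.1, ← Fintype.card_subtype, ← Nat.card_eq_fintype_card]
      exact Nat.card_congr
        { toFun := fun x => ⟨x.1.1, Equiv.Perm.mem_alternatingGroup.1 x.1.2, x.2⟩
          invFun := fun x => ⟨⟨x.1, Equiv.Perm.mem_alternatingGroup.2 x.2.1⟩, x.2.2⟩
          left_inv := fun x => rfl
          right_inv := fun x => rfl }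
  · refine le_trans ?_ seven_count.2
    rw [← Fintype.card_subtype, ← Nat.card_eq_fintype_card]
    refine Nat.card_le_card_of_injective (fun x => ⟨g * (x.1 : Equiv.Perm (Fin 7)) * g⁻¹, ?_, ?_, ?_, ?_, ?_⟩) ?_
    · rw [map_mul, map_mul, Equiv.Perm.mem_alternatingGroup.1 x.1.2, mul_one, ← map_mul, mul_inv_cancel, map_one]
    · rw [← hg, hconj, hconj, hcc]; exact congrArg Subtype.val x.2.1
    · rw [hconj]
      have : (x.1 : Equiv.Perm (Fin 7)) * x.1 = 1 := by
        have h := congrArg Subtype.val (pow_orderOf_eq_one x.1)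
        rw [x.2.2.1] at h
        simpa [pow_two] using h
      rw [this, mul_one, mul_inv_cancel]
    · intro e
      have h1 : (x.1 : Equiv.Perm (Fin 7)) = 1 := by simpa using e
      have h := x.2.2.1
      rw [show x.1 = 1 from Subtype.ext h1, orderOf_one] at h
      omega
    · rw [← hg, ne_eq, hcc]; exact fun e => x.2.2.2 (Subtype.ext e)
    · intro x y e
      exact Subtype.ext (Subtype.ext ((hcc _ _).1 (congrArg Subtype.val e :)))

theorem seven_one_class (a b : alternatingGroup (Fin 7)) (ha : orderOf a = 2) (hb : orderOf b = 2) :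
    IsConj a b := by
  suffices key : ∀ t : alternatingGroup (Fin 7), orderOf t = 2 → ∃ g : alternatingGroup (Fin 7),
      ((g * t * g⁻¹ : alternatingGroup (Fin 7)) : Equiv.Perm (Fin 7)) = Equiv.swap 0 1 * Equiv.swap 2 3 by
    obtain ⟨g, hg⟩ := key a ha
    obtain ⟨k, hk⟩ := key b hb
    exact (isConj_iff.2 ⟨g, rfl⟩).trans
      ((isConj_iff.2 ⟨k, rfl⟩).trans (Subtype.ext (hk.trans hg.symm) ▸ IsConj.refl _)).symm
  intro t ht
  obtain ⟨g, hg⟩ := isConj_iff.1 ((Equiv.Perm.isConj_iff_cycleType_eq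
    (σ := (t : Equiv.Perm (Fin 7))) (τ := Equiv.swap 0 1 * Equiv.swap 2 3)).2 (by
      rw [cycle_two_two (by rw [Subgroup.orderOf_coe, ht]) (Equiv.Perm.mem_alternatingGroup.1 t.2),
        cycle_two_two (orderOf_eq_prime (by decide +kernel) (by decide +kernel)) (by decide +kernel)]))
  rcases Int.units_eq_one_or (Equiv.Perm.sign g) with h | h
  · exact ⟨⟨g, Equiv.Perm.mem_alternatingGroup.2 h⟩, hg⟩
  · refine ⟨⟨Equiv.swap 4 5 * g, Equiv.Perm.mem_alternatingGroup.2 (by
      rw [map_mul, h, Equiv.Perm.sign_swap (by decide)]; rfl)⟩, ?_⟩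
    show Equiv.swap 4 5 * g * (t : Equiv.Perm (Fin 7)) * (Equiv.swap 4 5 * g)⁻¹ = _
    rw [show Equiv.swap 4 5 * g * (t : Equiv.Perm (Fin 7)) * (Equiv.swap 4 5 * g)⁻¹ =
      Equiv.swap 4 5 * (g * (t : Equiv.Perm (Fin 7)) * g⁻¹) * (Equiv.swap 4 5)⁻¹ by group, hg]
    decide +kernel

/-- The possible orders and centraliser data of a group with dihedral Sylow 2-subgroups. -/
theorem model_cases {X : Type*} [Group X] [Finite X] (h : Invol.GW.IsPSLTwoOrSeven X) :
    (∃ (F : Type) (_ : Field F) (_ : Fintype F) (c : ℕ), Odd (Fintype.card F) ∧ 3 < Fintype.card F ∧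
      Nonempty (X ≃* Matrix.ProjectiveSpecialLinearGroup (Fin 2) F) ∧
      ((Fintype.card F % 4 = 1 ∧ c + 1 = Fintype.card F) ∨
        (Fintype.card F % 4 = 3 ∧ c = Fintype.card F + 1)) ∧
      2 * Nat.card X = Fintype.card F * ((Fintype.card F - 1) * (Fintype.card F + 1)) ∧
      CentData X c (c / 2) ∧ ∀ a b : X, orderOf a = 2 → orderOf b = 2 → IsConj a b) ∨
    (Nat.card X = 2520 ∧ CentData X 24 14 ∧ ∀ a b : X, orderOf a = 2 → orderOf b = 2 → IsConj a b) := by
  rcases h with ⟨F, hF, hFf, hodd, h3, ⟨e⟩⟩ | h7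
  · obtain ⟨c, hc, hd⟩ := psl_centData (F := F) hodd
    refine Or.inl ⟨F, hF, hFf, c, hodd, h3, ⟨e⟩, hc, ?_, hd.congr e, fun a b ha hb => ?_⟩
    swap
    · obtain ⟨g, hg⟩ := isConj_iff.1 (Fus.PSLTwo.involutions_conj (Nat.odd_iff.1 hodd)
        (x := e a) (y := e b) (by rw [MulEquiv.orderOf_eq, ha]) (by rw [MulEquiv.orderOf_eq, hb]))
      exact isConj_iff.2 ⟨e.symm g, e.injective (by simp [hg])⟩
    rw [Nat.card_congr e.toEquiv]
    exact Invol.GW.card_PSLTwo hodd
  · obtain ⟨e⟩ := h7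
    refine Or.inr ⟨?_, seven_centData.congr e, fun a b ha hb => ?_⟩
    swap
    · obtain ⟨g, hg⟩ := isConj_iff.1 (seven_one_class (e a) (e b) (by rw [MulEquiv.orderOf_eq, ha])
        (by rw [MulEquiv.orderOf_eq, hb]))
      exact isConj_iff.2 ⟨e.symm g, e.injective (by simp [hg])⟩
    rw [Nat.card_congr e.toEquiv, nat_card_alternatingGroup, Nat.card_fin]
    rfl

/-- The projective groups over prime fields. -/
theorem psl_prime {F : Type} [Field F] [Fintype F] {p : ℕ} (hp : p.Prime) (hq : Fintype.card F = p) :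
    Nonempty (Matrix.ProjectiveSpecialLinearGroup (Fin 2) F ≃*
      Matrix.ProjectiveSpecialLinearGroup (Fin 2) (ZMod p)) := by
  haveI : Fact p.Prime := ⟨hp⟩
  haveI : CharP F p := charP_of_card_eq_prime hq
  exact Block.Zas.psl_congr (ZMod.ringEquiv F hq).symm

end Cfsg.Agent.Transfer.SubThree
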