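import Cfsg.Agent.Lib.Transfer.SubThree.Shape
import Cfsg.Agent.Lib.Transfer.SubThree.Model
import Cfsg.Agent.S0213

/-!
# A subgroup of index two and two classes of involutions: the order formula
-/

set_option autoImplicit false
set_option linter.unusedSectionVars false
set_option linter.style.haveILetI false

namespace Cfsg.Agent.Transfer.SubThree

open Subgroup

universe u

variable {G : Type u} [Group G] [Finite G]

theorem sq_one_of_orderOf_two {x : G} (hx : orderOf x = 2) : x * x = 1 := by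
  have := pow_orderOf_eq_one x
  rwa [hx, pow_two] at this

theorem isConj_mem_iff {N : Subgroup G} (hN : N.Normal) {a b : G} (h : IsConj a b) : a ∈ N ↔ b ∈ N := by
  obtain ⟨g, rfl⟩ := isConj_iff.1 h
  refine ⟨fun h1 => hN.conj_mem a h1 g, fun h1 => ?_⟩
  have := hN.conj_mem _ h1 g⁻¹
  simpa [mul_assoc] using this

theorem isConj_orderOf {a b : G} (h : IsConj a b) : orderOf b = orderOf a := by
  obtain ⟨g, rfl⟩ := isConj_iff.1 h
  rw [← MulAut.conj_apply, MulEquiv.orderOf_eq]

/-- The pairs of involutions whose product has a given involution among its powers commute with it. -/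
theorem pair_mem_centralizer {u v s : G} (hu : u * u = 1) (hv : v * v = 1) (hs : s * s = 1)
    (h : s ∈ zpowers (u * v)) : u * s = s * u ∧ v * s = s * v := by
  obtain ⟨i, rfl⟩ := mem_zpowers_iff.1 h
  have hui : u⁻¹ = u := inv_eq_of_mul_eq_one_right hu
  have hvi : v⁻¹ = v := inv_eq_of_mul_eq_one_right hv
  have hsi : ((u * v) ^ i)⁻¹ = (u * v) ^ i := inv_eq_of_mul_eq_one_right hs
  have h1 : u * (u * v) ^ i * u⁻¹ = (u * v) ^ i := by
    rw [← conj_zpow, show u * (u * v) * u⁻¹ = (u * v)⁻¹ by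
      rw [mul_inv_rev, hvi, ← mul_assoc u u v, hu, one_mul], inv_zpow, hsi]
  have h2 : u * (u * v) ^ i = (u * v) ^ i * u := by
    calc u * (u * v) ^ i = u * (u * v) ^ i * u⁻¹ * u := by group
      _ = _ := by rw [h1]
  refine ⟨h2, ?_⟩
  have hc : (u * v) * (u * v) ^ i = (u * v) ^ i * (u * v) := (Commute.refl _).zpow_right i
  calc v * (u * v) ^ i = u * ((u * v) * (u * v) ^ i) := by
        rw [← mul_assoc, ← mul_assoc u u v, hu, one_mul]
    _ = (u * (u * v) ^ i) * (u * v) := by rw [hc, mul_assoc]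
    _ = (u * v) ^ i * (u * u) * v := by rw [h2]; group
    _ = (u * v) ^ i * v := by rw [hu, mul_one]

/-- The outer part of an index-two extension: the order of a centraliser. -/
theorem card_centralizer_two {N : Subgroup G} (hN : N.Normal) (hN2 : N.index = 2) {z t : G} (hz : z ∉ N)
    (hzt : z * t = t * z) :
    Nat.card ↥(centralizer ({t} : Set G)) = 2 * Nat.card ↥(centralizer ({t} : Set G) ⊓ N) := by
  haveI := hN
  have hzC : z ∈ centralizer ({t} : Set G) := cent_iff.2 hzt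
  have htop : centralizer ({t} : Set G) ⊔ N = ⊤ := by
    have hlt : N < centralizer ({t} : Set G) ⊔ N :=
      lt_of_le_of_ne le_sup_right fun e => hz (e.symm ▸ mem_sup_left hzC)
    exact (Invol.QD.isCoatom_of_index_two hN2).2 _ hlt
  have h := Grp.card_sup_mul_card_inf_normal (H := centralizer ({t} : Set G)) (N := N)
  rw [htop, card_top] at h
  have h2 := N.card_mul_index
  rw [hN2] at h2
  have hpos : 0 < Nat.card N := Nat.card_pos
  nlinarith

theorem card_outer {N : Subgroup G} (hN : N.Normal) (hN2 : N.index = 2) {z t : G} (hz : z ∉ N)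
    (hzt : z * t = t * z) :
    Nat.card {x : G // x * t = t * x ∧ x ∉ N} = Nat.card ↥(centralizer ({t} : Set G) ⊓ N) := by
  have h := card_centralizer_two hN hN2 hz hzt
  classical
  have e : Nat.card ↥(centralizer ({t} : Set G)) =
      Nat.card {x : G // x * t = t * x ∧ x ∉ N} + Nat.card ↥(centralizer ({t} : Set G) ⊓ N) := by
    rw [← Nat.card_sum]
    refine Nat.card_congr
      { toFun := fun x => if hx : (x : G) ∈ N then Sum.inr ⟨x, x.2, hx⟩ else Sum.inl ⟨x, cent_iff.1 x.2, hx⟩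
        invFun := fun s => s.elim (fun (x : {x : G // x * t = t * x ∧ x ∉ N}) =>
            (⟨x.1, cent_iff.2 x.2.1⟩ : ↥(centralizer ({t} : Set G))))
          (fun (x : ↥(centralizer ({t} : Set G) ⊓ N)) => ⟨x.1, x.2.1⟩)
        left_inv := fun x => by dsimp only; split_ifs <;> rfl
        right_inv := fun s => by
          rcases s with x | x
          · simp [x.2.2]
          · have : (x : G) ∈ N := x.2.2
            simp [this] }
  omega

/-- The order formula, with a bound for the outer involutions commuting with the inner one. -/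
theorem order_bound' {N : Subgroup G} (hN : N.Normal) (hN2 : N.index = 2) {z t : G} (hz : orderOf z = 2)
    (ht : orderOf t = 2) (hzN : z ∉ N) (htN : t ∈ N) (hzt : z * t = t * z)
    (hout : ∀ w : G, orderOf w = 2 → w ∉ N → IsConj z w) (hin : ∀ w : G, orderOf w = 2 → w ∈ N → IsConj t w)
    {c k n₁ m : ℕ} (hd : CentData N c k)
    (h1 : Nat.card {p : G × G // orderOf p.1 = 2 ∧ p.1 ∉ N ∧ orderOf p.2 = 2 ∧ p.2 ∈ N ∧
      z ∈ zpowers (p.1 * p.2)} ≤ n₁)
    (hm : Nat.card {x : G // x * t = t * x ∧ x ∉ N ∧ orderOf x = 2} ≤ m) :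
    Nat.card G ≤ 2 * c * n₁ + Nat.card ↥(centralizer ({z} : Set G)) * (m * k) := by
  have hnc : ¬ IsConj z t := fun h => hzN ((isConj_mem_iff hN h).2 htN)
  have h := Cfsg.Agent.S0213.result z t hz ht hnc fun w hw => by
    by_cases hwN : w ∈ N
    · exact Or.inr (hin w hw hwN)
    · exact Or.inl (hout w hw hwN)
  obtain ⟨hc, hk⟩ := hd ⟨t, htN⟩ (by rw [Subgroup.orderOf_mk, ht])
  have hcN : Nat.card ↥(centralizer ({t} : Set G) ⊓ N) = c := by
    rw [← hc]
    exact Nat.card_congr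
      { toFun := fun x => ⟨⟨x, x.2.2⟩, cent_iff.2 (Subtype.ext (cent_iff.1 x.2.1))⟩
        invFun := fun x => ⟨(x.1 : G), cent_iff.2 (congrArg Subtype.val (cent_iff.1 x.2)), x.1.2⟩
        left_inv := fun x => rfl
        right_inv := fun x => rfl }
  have hCt : Nat.card ↥(centralizer ({t} : Set G)) = 2 * c := by
    rw [card_centralizer_two hN hN2 hzN hzt, hcN]
  have hn1 : Nat.card {p : G × G // IsConj z p.1 ∧ IsConj t p.2 ∧ z ∈ zpowers (p.1 * p.2)} ≤ n₁ := by
    refine le_trans ?_ h1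
    refine Nat.card_le_card_of_injective (fun p => ⟨p.1, ?_, ?_, ?_, ?_, p.2.2.2⟩) ?_
    · rw [isConj_orderOf p.2.1, hz]
    · exact fun e => hzN ((isConj_mem_iff hN p.2.1).2 e)
    · rw [isConj_orderOf p.2.2.1, ht]
    · exact (isConj_mem_iff hN p.2.2.1).1 htN
    · intro a b e; exact Subtype.ext (congrArg Subtype.val e :)
  have hn2 : Nat.card {p : G × G // IsConj z p.1 ∧ IsConj t p.2 ∧ t ∈ zpowers (p.1 * p.2)} ≤ m * k := by
    refine le_trans ?_ (Nat.mul_le_mul hm hk)
    rw [← Nat.card_prod]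
    have key : ∀ p : {p : G × G // IsConj z p.1 ∧ IsConj t p.2 ∧ t ∈ zpowers (p.1 * p.2)},
        (p.1.1 * t = t * p.1.1 ∧ p.1.1 ∉ N ∧ orderOf p.1.1 = 2) ∧ ∃ hp : p.1.2 ∈ N,
          (⟨p.1.2, hp⟩ : N) * ⟨t, htN⟩ = ⟨t, htN⟩ * ⟨p.1.2, hp⟩ ∧ orderOf (⟨p.1.2, hp⟩ : N) = 2 ∧
            (⟨p.1.2, hp⟩ : N) ≠ ⟨t, htN⟩ := by
      rintro ⟨⟨u, v⟩, huz, hvt, hpw⟩
      have hu2 : u * u = 1 := sq_one_of_orderOf_two (by rw [isConj_orderOf huz, hz])
      have hv : orderOf v = 2 := by rw [isConj_orderOf hvt, ht]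
      obtain ⟨h1, h2⟩ := pair_mem_centralizer hu2 (sq_one_of_orderOf_two hv) (sq_one_of_orderOf_two ht) hpw
      have huN : u ∉ N := fun e => hzN ((isConj_mem_iff hN huz).2 e)
      refine ⟨⟨h1, huN, by rw [isConj_orderOf huz, hz]⟩, (isConj_mem_iff hN hvt).1 htN, Subtype.ext h2, by rw [Subgroup.orderOf_mk, hv],
        fun e => ?_⟩
      obtain rfl : v = t := congrArg Subtype.val e
      obtain ⟨i, hi⟩ := mem_zpowers_iff.1 hpw
      have hsq : (u * v) ^ (2 : ℤ) = 1 := by
        rw [zpow_two, show u * v * (u * v) = u * (v * u) * v by group, ← h1, ← mul_assoc, hu2, one_mul,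
          sq_one_of_orderOf_two ht]
      rcases Int.even_or_odd i with ⟨j, rfl⟩ | ⟨j, rfl⟩
      · rw [← two_mul, zpow_mul, hsq, one_zpow] at hi
        rw [← hi, orderOf_one] at ht
        omega
      · rw [zpow_add, zpow_mul, hsq, one_zpow, one_mul, zpow_one] at hi
        have hu1 : u = 1 := mul_eq_right.1 hi
        exact huN (hu1 ▸ one_mem N)
    refine Nat.card_le_card_of_injective
      (fun p => (⟨p.1.1, (key p).1⟩, ⟨⟨p.1.2, (key p).2.1⟩, (key p).2.2⟩)) ?_
    intro a b e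
    simp only [Prod.mk.injEq, Subtype.mk.injEq] at e
    exact Subtype.ext (Prod.ext e.1 e.2)
  rw [h, hCt]
  exact Nat.add_le_add (Nat.mul_le_mul_left _ hn1) (Nat.mul_le_mul_left _ hn2)

/-- The order formula with bounds. -/
theorem order_bound {N : Subgroup G} (hN : N.Normal) (hN2 : N.index = 2) {z t : G} (hz : orderOf z = 2)
    (ht : orderOf t = 2) (hzN : z ∉ N) (htN : t ∈ N) (hzt : z * t = t * z)
    (hout : ∀ w : G, orderOf w = 2 → w ∉ N → IsConj z w) (hin : ∀ w : G, orderOf w = 2 → w ∈ N → IsConj t w)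
    {c k n₁ : ℕ} (hd : CentData N c k)
    (h1 : Nat.card {p : G × G // orderOf p.1 = 2 ∧ p.1 ∉ N ∧ orderOf p.2 = 2 ∧ p.2 ∈ N ∧
      z ∈ zpowers (p.1 * p.2)} ≤ n₁) :
    Nat.card G ≤ 2 * c * n₁ + Nat.card ↥(centralizer ({z} : Set G)) * (c * k) := by
  refine order_bound' hN hN2 hz ht hzN htN hzt hout hin hd h1 ?_
  obtain ⟨hc, -⟩ := hd ⟨t, htN⟩ (by rw [Subgroup.orderOf_mk, ht])
  have hcN : Nat.card ↥(centralizer ({t} : Set G) ⊓ N) = c := by
    rw [← hc]
    exact Nat.card_congr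
      { toFun := fun x => ⟨⟨x, x.2.2⟩, cent_iff.2 (Subtype.ext (cent_iff.1 x.2.1))⟩
        invFun := fun x => ⟨(x.1 : G), cent_iff.2 (congrArg Subtype.val (cent_iff.1 x.2)), x.1.2⟩
        left_inv := fun x => rfl
        right_inv := fun x => rfl }
  rw [← hcN, ← card_outer hN hN2 hzN hzt]
  exact Nat.card_le_card_of_injective (fun x => ⟨x.1, x.2.1, x.2.2.1⟩)
    fun x y e => Subtype.ext (congrArg Subtype.val e :)

end Cfsg.Agent.Transfer.SubThree
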