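import Cfsg.Agent.Lib.Transfer.SubThree.FortyEightD
import Cfsg.Agent.Lib.Transfer.SubThree.FortyEightCount
import Cfsg.Agent.Lib.Transfer.SubThree.SDLocal
import Cfsg.Agent.Lib.Transfer.SubThree.TwoClass
import Cfsg.Agent.Lib.Transfer.SubThree.Twelve
import Cfsg.Agent.Lib.Transfer.SubThree.Model
import Cfsg.Agent.S0111
import Cfsg.Agent.S2060

/-!
# Stabilisers isomorphic to `Sym(4) × Z₂`
-/

set_option autoImplicit false
set_option linter.unusedSectionVars false
set_option linter.style.haveILetI false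

namespace Cfsg.Agent.Transfer.SubThree

open Subgroup

universe u

/-- An involutory outer automorphism of `M₁₁` does not exist. -/
theorem eleven_inner {X : Type*} [Group X] (hM : Cfsg.Spor.IsoM11 X) (α : MulAut X) :
    ∃ n : X, ∀ x, α x = n * x * n⁻¹ := by
  obtain ⟨e⟩ := hM
  have h1 := Cfsg.Agent.S2060.result
  rw [Nat.card_eq_one_iff_unique] at h1
  haveI := h1.1
  have hmem : MulAut.congr e α ∈ Cfsg.Inn ↥Cfsg.Spor.M11 :=
    (QuotientGroup.eq_one_iff _).1 (Subsingleton.elim _ (1 : Cfsg.Out ↥Cfsg.Spor.M11))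
  obtain ⟨m, hm⟩ := hmem
  refine ⟨e.symm m, fun x => e.injective ?_⟩
  have h2 := DFunLike.congr_fun hm (e x)
  simp only [MulAut.conj_apply] at h2
  rw [map_mul, map_mul, map_inv, e.apply_symm_apply, h2]
  simp [MulAut.congr]

variable {G : Type u} [Group G] [Finite G] {A T : Subgroup G}
  {φ : Equiv.Perm (Fin 4) × Multiplicative (ZMod 2) →* G} {g z : G}

namespace Oct

variable {h : Oct A T φ g}

theorem V_trans (h : Oct A T φ g) {a b : G} (ha : a ∈ h.V) (ha1 : a ≠ 1) (hb : b ∈ h.V) (hb1 : b ≠ 1) :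
    ∃ m ∈ A, m * a * m⁻¹ = b := by
  obtain ⟨p, hp, rfl⟩ := h.mem_V.1 ha
  obtain ⟨q, hq, rfl⟩ := h.mem_V.1 hb
  obtain ⟨m, hm⟩ := Invol.L33Ord.conj_fours p q (Invol.L33Ord.mem_fours.1 hp)
    (fun e => ha1 (by rw [e]; exact map_one φ)) (Invol.L33Ord.mem_fours.1 hq)
    (fun e => hb1 (by rw [e]; exact map_one φ))
  refine ⟨φ (m, 1), h.mem_A.2 ⟨_, _, rfl⟩, ?_⟩
  rw [← map_inv, ← map_mul, ← map_mul]
  congr 1
  exact Prod.ext hm (by simp)

/-- A minimal normal subgroup contains the four-group. -/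
theorem Zed.V_le_minimal (hz : h.Zed z) {N : Subgroup G} (hN : N.Normal) (hN1 : N ≠ ⊥) : h.V ≤ N := by
  haveI := hN
  obtain ⟨a, haV, haN, ha1⟩ | hbad : (∃ a, a ∈ h.V ∧ a ∈ N ∧ a ≠ 1) ∨ ∀ a ∈ h.V, a ∈ N → a = 1 := by
    by_cases hh : ∃ a, a ∈ h.V ∧ a ∈ N ∧ a ≠ 1
    · exact Or.inl hh
    · exact Or.inr fun a h1 h2 => by_contra fun h3 => hh ⟨a, h1, h2, h3⟩
  · intro b hb
    by_cases hb1 : b = 1
    · rw [hb1]; exact one_mem _
    obtain ⟨m, -, rfl⟩ := h.V_trans haV ha1 hb hb1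
    exact hN.conj_mem _ haN m
  exfalso
  obtain ⟨n, hnN, hn1, hn⟩ := exists_fixed (IsPGroup.of_card (n := 3) (by rw [h.cardF]; norm_num) : IsPGroup 2 h.F)
    (by rw [normalizer_eq_top]; exact le_top) (h.ctx.two_dvd hN hN1)
  have huN : h.u ∈ N := by
    rcases h.cent_V (fun w hw => (hn w (h.V_le_F hw)).symm) with hnV | hnV
    · exact absurd (hbad n hnV hnN) hn1
    · by_cases h0 : n * h.u = 1
      · rwa [← mul_right_cancel (h0.trans h.u_sq.symm)]
      exfalso
      obtain ⟨x', hx', hx'1, hx'n⟩ : ∃ x' ∈ h.V, x' ≠ 1 ∧ x' ≠ n * h.u := by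
        by_contra hno
        push Not at hno
        have hle : (h.V : Set G) ⊆ {1, n * h.u} := fun w hw => (em (w = 1)).imp id fun h1 => hno w hw h1
        have := Set.ncard_le_ncard hle (Set.toFinite _)
        rw [← Nat.card_coe_set_eq, Set.ncard_pair (Ne.symm h0)] at this
        change Nat.card h.V ≤ 2 at this
        rw [h.cardV] at this
        omega
      obtain ⟨m, hm, hmx⟩ := h.V_trans hnV h0 hx' hx'1
      have hmu : m * h.u * m⁻¹ = h.u := mul_inv_eq_iff_eq_mul.2 (h.u_comm hm)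
      have e1 : m * n * m⁻¹ * h.u = x' := by
        rw [← hmx]
        calc m * n * m⁻¹ * h.u = m * n * m⁻¹ * (m * h.u * m⁻¹) := by rw [hmu]
          _ = m * (n * h.u) * m⁻¹ := by group
      have e2 : n * (m * n * m⁻¹) = (n * h.u) * x' := by
        have hnA : n ∈ A := h.F_le (Or.inr hnV)
        have hmn : m * n * m⁻¹ * h.u = h.u * (m * n * m⁻¹) := h.u_comm (mul_mem (mul_mem hm hnA) (inv_mem hm))
        rw [← e1, hmn, ← mul_assoc (n * h.u), mul_assoc n h.u h.u, h.u_sq, mul_one]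
      have hN' : (n * h.u) * x' ∈ N := e2 ▸ mul_mem hnN (hN.conj_mem _ hnN m)
      have := hbad _ (mul_mem hnV hx') hN'
      exact hx'n ((eq_inv_of_mul_eq_one_right this).trans (inv_eq_of_mul_eq_one_right (h.V_sq hnV)))
  obtain ⟨S, hS⟩ := hz.exists_sylow
  obtain ⟨PN, hPN⟩ := exists_sylow_inf S hN
  have huS : h.u ∈ (S : Subgroup G) := hS ▸ le_normalizer h.u_mem_T
  have hcent : ∀ t ∈ (S : Subgroup G) ⊓ N, t * h.u = h.u * t → t = 1 ∨ t = h.u := by
    intro t ht htu
    have htA : t ∈ A := h.cent_u ▸ cent_iff.2 htu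
    have htT : t ∈ T := hz.inf_normalizer ▸ ⟨htA, hS ▸ ht.1⟩
    have htV : ∀ v ∈ h.V, t * v = v * t := fun v hv => by
      have h1 : t * v * t⁻¹ * v⁻¹ ∈ h.V := mul_mem (h.conj_V htA hv) (inv_mem hv)
      have h2 : t * v * t⁻¹ * v⁻¹ ∈ N := by
        rw [show t * v * t⁻¹ * v⁻¹ = t * (v * t⁻¹ * v⁻¹) by group]
        exact mul_mem ht.2 (hN.conj_mem _ (inv_mem ht.2) v)
      exact mul_inv_eq_iff_eq_mul.1 (mul_inv_eq_one.1 (hbad _ h1 h2))
    rcases h.cent_V htV with hh | hh
    · exact Or.inl (hbad _ hh ht.2)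
    · exact Or.inr (mul_right_cancel ((hbad _ hh (mul_mem ht.2 huN)).trans h.u_sq.symm))
  have hall : ∀ t ∈ (S : Subgroup G) ⊓ N, t = 1 ∨ t = h.u := by
    have hp : IsPGroup 2 ↥((S : Subgroup G) ⊓ N) := S.2.to_le inf_le_left
    haveI : Fact (Nat.Prime 2) := ⟨Nat.prime_two⟩
    haveI : Nontrivial ↥((S : Subgroup G) ⊓ N) :=
      ⟨⟨⟨h.u, huS, huN⟩, 1, fun e => h.u_ne (congrArg Subtype.val e)⟩⟩
    have := hp.center_nontrivial
    obtain ⟨⟨⟨c, hc⟩, hcc⟩, hc1⟩ := exists_ne (1 : center ↥((S : Subgroup G) ⊓ N))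
    have hcu : c * h.u = h.u * c := (congrArg Subtype.val (mem_center_iff.1 hcc ⟨h.u, huS, huN⟩)).symm
    rcases hcent c hc hcu with e | e
    · exact absurd (Subtype.ext (Subtype.ext e)) hc1
    · intro t ht
      have e2 : t * c = c * t := congrArg Subtype.val (mem_center_iff.1 hcc ⟨t, ht⟩)
      exact hcent t ht (e ▸ e2)
  refine h.ctx.not_cyclic hN hN1 PN ?_
  have hmem : (⟨h.u, huN⟩ : N) ∈ (PN : Subgroup N) := by rw [hPN, mem_subgroupOf]; exact huS
  refine ⟨⟨⟨h.u, huN⟩, hmem⟩, fun w => ?_⟩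
  rcases hall ((w : N) : G) ⟨(hPN ▸ w.2 : (w : N) ∈ (S : Subgroup G).subgroupOf N), (w : N).2⟩ with e | e
  · exact ⟨0, by simpa using (Subtype.ext (Subtype.ext e.symm) : (1 : ↥(PN : Subgroup N)) = w)⟩
  · exact ⟨1, (zpow_one _).trans (Subtype.ext (Subtype.ext e.symm))⟩

/-- The two-group meets a normal subgroup in a subgroup which `g` normalises. -/
theorem g_normalizes (h : Oct A T φ g) {N : Subgroup G} (hN : N.Normal) :
    g ∈ normalizer ((T ⊓ N : Subgroup G) : Set G) := by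
  rw [mem_normalizer_iff]
  intro t
  exact and_congr (mem_normalizer_iff.1 h.hgT t) ⟨fun ht => hN.conj_mem _ ht g, fun ht => by
    simpa [mul_assoc] using hN.conj_mem _ ht g⁻¹⟩

theorem mem_iff_inf {N : Subgroup G} (hN : N.Normal) :
    ∀ a ∈ A, ∀ b ∈ A ⊓ N, a * b * a⁻¹ ∈ A ⊓ N := fun a ha b hb =>
  ⟨A.mul_mem (A.mul_mem ha hb.1) (A.inv_mem ha), hN.conj_mem _ hb.2 _⟩

theorem Zed.eq_top_of_u (hz : h.Zed z) {N : Subgroup G} (hN : N.Normal) (hN1 : N ≠ ⊥) (huN : h.u ∈ N) :
    N = ⊤ := by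
  haveI := hN
  haveI : Fact (Nat.Prime 2) := ⟨Nat.prime_two⟩
  have hVN := hz.V_le_minimal hN hN1
  suffices hAN : A ≤ N by rw [← h.ctx.sup_eq_top hN hN1, sup_eq_left.2 hAN]
  by_contra hAN
  have hFN : h.F ≤ N := by
    rintro c (hc | hc)
    · exact hVN hc
    · have := mul_mem (hVN hc) huN
      rwa [mul_assoc, h.u_sq, mul_one] at this
  have hTN : T ⊓ N = h.F := by
    by_contra hne
    have hlt : h.F < T ⊓ N := lt_of_le_of_ne (le_inf h.F_le_T hFN) (Ne.symm hne)
    have hTN' : T ≤ N := by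
      have hd : Nat.card h.F ∣ Nat.card ↥(T ⊓ N) := card_dvd_of_le hlt.le
      have hd2 : Nat.card ↥(T ⊓ N) ∣ 16 := h.hT ▸ card_dvd_of_le inf_le_left
      have h3 : Nat.card h.F < Nat.card ↥(T ⊓ N) := by
        by_contra hh
        exact hlt.ne (eq_of_le_of_card_ge hlt.le (by omega))
      rw [h.cardF] at hd h3
      have hle := Nat.le_of_dvd (by norm_num) hd2
      exact inf_eq_left.1 (eq_of_le_of_card_ge inf_le_left (by rw [h.hT]; omega))
    set B := A ⊓ N with hB
    have hTB : T ≤ B := le_inf h.hTA hTN'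
    have hd : 16 ∣ Nat.card B := h.hT ▸ card_dvd_of_le hTB
    have hd2 : Nat.card B ∣ 48 := h.cardA ▸ card_dvd_of_le inf_le_left
    have hne48 : Nat.card B ≠ 48 := fun e =>
      hAN ((eq_of_le_of_card_ge (inf_le_left : B ≤ A) (by rw [e, h.cardA])).symm.le.trans inf_le_right)
    have hB16 : Nat.card B = 16 := by
      obtain ⟨m, hm⟩ := hd
      rw [hm] at hd2 hne48 ⊢
      have := Nat.le_of_dvd (by norm_num) hd2
      have : m ≤ 3 := by omega
      interval_cases m <;> simp_all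
    have hBT : T = B := eq_of_le_of_card_ge hTB (by rw [hB16, h.hT])
    have hA : A ≤ normalizer (T : Set G) := hBT ▸ le_normalizer_of_conj (mem_iff_inf hN)
    exact h.hgA (h.ctx.normalizer_eq hA h.hTA (fun e => by have := h.hT; rw [e, card_bot] at this; omega) ▸ h.hgT)
  exact h.hgA (h.normalizer_F ▸ hTN ▸ h.g_normalizes hN)

/-- The case of the central involution outside a minimal normal subgroup: the intersection with the stabiliser. -/
theorem Zed.split_A (hz : h.Zed z) {N : Subgroup G} (hN : N.Normal) (hN1 : N ≠ ⊥) (huN : h.u ∉ N) :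
    Nat.card ↥(T ⊓ N) = 8 ∧ N.index = 2 ∧ ∀ a ∈ A, a ∈ N ∨ a * h.u ∈ N := by
  haveI := hN
  haveI : Fact (Nat.Prime 2) := ⟨Nat.prime_two⟩
  have hVN := hz.V_le_minimal hN hN1
  have hVT : h.V ≤ T ⊓ N := le_inf (h.V_le_E.trans inf_le_left) hVN
  have h8 : Nat.card ↥(T ⊓ N) = 8 := by
    have hd : 4 ∣ Nat.card ↥(T ⊓ N) := h.cardV ▸ card_dvd_of_le hVT
    have hd2 : Nat.card ↥(T ⊓ N) ∣ 16 := h.hT ▸ card_dvd_of_le inf_le_left
    have hne4 : Nat.card ↥(T ⊓ N) ≠ 4 := fun e => by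
      have heq : h.V = T ⊓ N := eq_of_le_of_card_ge hVT (by rw [e, h.cardV])
      exact h.hgA (h.normalizer_V ▸ heq.symm ▸ h.g_normalizes hN)
    have hne16 : Nat.card ↥(T ⊓ N) ≠ 16 := fun e => huN
      ((eq_of_le_of_card_ge (inf_le_left : T ⊓ N ≤ T) (by rw [e, h.hT])).symm.le.trans inf_le_right h.u_mem_T)
    obtain ⟨m, hm⟩ := hd
    rw [hm] at hd2 hne4 hne16 ⊢
    have := Nat.le_of_dvd (by norm_num) hd2
    have : m ≤ 4 := by omega
    interval_cases m <;> simp_all
  set B := A ⊓ N with hB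
  have hTB : T ⊓ N ≤ B := le_inf (inf_le_left.trans h.hTA) inf_le_right
  let f : Bool × B → A := fun p => ⟨if p.1 then (p.2 : G) * h.u else p.2, by
    split_ifs
    · exact mul_mem p.2.2.1 h.u_mem
    · exact p.2.2.1⟩
  have hf : Function.Injective f := by
    rintro ⟨a1, a2⟩ ⟨b1, b2⟩ e
    have e' := congrArg Subtype.val e
    simp only [f] at e'
    cases a1 <;> cases b1 <;> simp only [Bool.false_eq_true, if_true, if_false] at e'
    · exact Prod.ext rfl (Subtype.ext e')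
    · refine absurd ?_ huN
      rw [show h.u = (b2 : G)⁻¹ * a2 by rw [e', inv_mul_cancel_left]]
      exact mul_mem (inv_mem b2.2.2) a2.2.2
    · refine absurd ?_ huN
      rw [show h.u = (a2 : G)⁻¹ * b2 by rw [← e', inv_mul_cancel_left]]
      exact mul_mem (inv_mem a2.2.2) b2.2.2
    · exact Prod.ext rfl (Subtype.ext (mul_right_cancel e'))
  have hB24 : Nat.card B = 24 := by
    have hd : 8 ∣ Nat.card B := h8 ▸ card_dvd_of_le hTB
    have hd2 : Nat.card B ∣ 48 := h.cardA ▸ card_dvd_of_le inf_le_left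
    have hle := Nat.card_le_card_of_injective f hf
    rw [Nat.card_prod, Nat.card_eq_fintype_card (α := Bool), Fintype.card_bool, h.cardA] at hle
    have hne8 : Nat.card B ≠ 8 := fun e => by
      have heq : T ⊓ N = B := eq_of_le_of_card_ge hTB (by rw [e, h8])
      have hA : A ≤ normalizer ((T ⊓ N : Subgroup G) : Set G) := heq ▸ le_normalizer_of_conj (mem_iff_inf hN)
      exact h.hgA (h.ctx.normalizer_eq hA (inf_le_left.trans h.hTA)
        (fun e => by rw [e, card_bot] at h8; omega) ▸ h.g_normalizes hN)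
    have hne16 : Nat.card B ≠ 16 := by
      intro e
      have hp : IsPGroup 2 B := IsPGroup.of_card (n := 4) (by rw [e]; norm_num)
      have hsup : IsPGroup 2 ↥(T ⊔ B) := h.isPGroup_T.to_sup_of_normal_right' hp
        (h.hTA.trans (le_normalizer_of_conj (mem_iff_inf hN)))
      obtain ⟨k, hk⟩ := IsPGroup.iff_card.1 hsup
      have hd : 2 ^ k ∣ 48 := hk ▸ h.cardA ▸ card_dvd_of_le (sup_le h.hTA inf_le_left)
      have : k ≤ 4 := by
        by_contra hh
        exact absurd ((pow_dvd_pow 2 (by omega : 5 ≤ k)).trans hd) (by norm_num)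
      have heq := eq_of_le_of_card_ge (le_sup_left : T ≤ T ⊔ B)
        (by rw [hk, h.hT]; exact le_trans (Nat.pow_le_pow_right two_pos this) (by norm_num))
      have hBT : B = T := eq_of_le_of_card_ge (le_sup_right.trans heq.ge) (by rw [e, h.hT])
      exact huN (hBT.symm ▸ h.u_mem_T : h.u ∈ B).2
    obtain ⟨m, hm⟩ := hd
    rw [hm] at hd2 hne8 hne16 hle ⊢
    have : m ≤ 3 := by omega
    interval_cases m <;> simp_all
  have hbij : Function.Bijective f := (Nat.bijective_iff_injective_and_card f).2 ⟨hf, by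
    rw [Nat.card_prod, Nat.card_eq_fintype_card (α := Bool), Fintype.card_bool, hB24, h.cardA]⟩
  refine ⟨h8, ?_, fun a ha => ?_⟩
  · have h1 := Grp.card_sup_mul_card_inf_normal (H := A) (N := N)
    rw [sup_comm, h.ctx.sup_eq_top hN hN1, card_top, ← hB, hB24, h.cardA] at h1
    have h2 := N.card_mul_index
    have hpos : 0 < Nat.card N := Nat.card_pos
    nlinarith
  · obtain ⟨⟨b1, b2⟩, hb⟩ := hbij.2 ⟨a, ha⟩
    have e := congrArg Subtype.val hb
    simp only [f] at e
    cases b1 <;> simp only [Bool.false_eq_true, if_true, if_false] at e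
    · exact Or.inl (e ▸ b2.2.2)
    · refine Or.inr ?_
      rw [← e, mul_assoc, h.u_sq, mul_one]
      exact b2.2.2

set_option maxHeartbeats 1600000 in
/-- The central involution of the stabiliser generates the outer part of a projective group of degree three. -/
theorem Zed.conclusion (hz : h.Zed z) : ∃ N : Subgroup G, N.Normal ∧ N.index = 2 ∧
    centralizer (N : Set G) = ⊥ ∧
    Nonempty (N ≃* Matrix.ProjectiveSpecialLinearGroup (Fin 3) (ZMod 3)) := by
  classical
  haveI : Fact (Nat.Prime 2) := ⟨Nat.prime_two⟩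
  obtain ⟨N, hN, hN1, hmin⟩ := h.ctx.exists_minimal
  haveI := hN
  by_cases huN : h.u ∈ N
  · exfalso
    obtain rfl := hz.eq_top_of_u hN hN1 huN
    obtain ⟨S, Q, hQS, hQi, huS, huQ, hno⟩ := hz.transfer_subgroup
    rcases Cfsg.Agent.S0111.result S Q hQS hQi h.u (orderOf_eq_prime (by rw [pow_two, h.u_sq]) h.u_ne) huS huQ with
      ⟨M, hM, hM2, -⟩ | ⟨x, hx⟩
    · exact h.ctx.no_index_two (fun K hK => hmin K hK le_top) M hM hM2
    · exact hno x hx
  obtain ⟨h8, hN2, hAsplit⟩ := hz.split_A hN hN1 huN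
  have hVN := hz.V_le_minimal hN hN1
  have hzN : z ∈ N := hVN hz.zV
  have huord : orderOf h.u = 2 := orderOf_eq_prime (by rw [pow_two, h.u_sq]) h.u_ne
  obtain ⟨S, hS⟩ := hz.exists_sylow
  have huS : h.u ∈ (S : Subgroup G) := hS ▸ le_normalizer h.u_mem_T
  obtain ⟨PN, hPN⟩ := exists_sylow_inf S hN
  have hxu : ∀ x : G, x ∉ N → x * h.u ∈ N := fun x hx =>
    (Subgroup.mul_mem_iff_of_index_two hN2).2 (iff_of_false hx huN)
  have hP16 : Nat.card (PN : Subgroup N) = 16 := by
    let f : Bool × ↥((S : Subgroup G) ⊓ N) → (S : Subgroup G) :=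
      fun p => ⟨if p.1 then (p.2 : G) * h.u else p.2, by
        split_ifs
        · exact mul_mem p.2.2.1 huS
        · exact p.2.2.1⟩
    have hf : Function.Bijective f := by
      constructor
      · rintro ⟨a1, a2⟩ ⟨b1, b2⟩ e
        have e' := congrArg Subtype.val e
        simp only [f] at e'
        cases a1 <;> cases b1 <;> simp only [Bool.false_eq_true, if_true, if_false] at e'
        · exact Prod.ext rfl (Subtype.ext e')
        · refine absurd ?_ huN
          rw [show h.u = (b2 : G)⁻¹ * a2 by rw [e', inv_mul_cancel_left]]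
          exact mul_mem (inv_mem b2.2.2) a2.2.2
        · refine absurd ?_ huN
          rw [show h.u = (a2 : G)⁻¹ * b2 by rw [← e', inv_mul_cancel_left]]
          exact mul_mem (inv_mem a2.2.2) b2.2.2
        · exact Prod.ext rfl (Subtype.ext (mul_right_cancel e'))
      · rintro ⟨c, hc⟩
        by_cases hcN : c ∈ N
        · exact ⟨(false, ⟨c, hc, hcN⟩), rfl⟩
        · exact ⟨(true, ⟨c * h.u, mul_mem hc huS, hxu c hcN⟩), Subtype.ext (by
            show c * h.u * h.u = c
            rw [mul_assoc, h.u_sq, mul_one])⟩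
    have h1 := Nat.card_congr (Equiv.ofBijective f hf)
    rw [Nat.card_prod, Nat.card_eq_fintype_card (α := Bool), Fintype.card_bool, hS, hz.cardN] at h1
    rw [hPN, Nat.card_congr
      { toFun := fun (x : ↥((S : Subgroup G).subgroupOf N)) =>
          (⟨((x : N) : G), mem_subgroupOf.1 x.2, (x : N).2⟩ : ↥((S : Subgroup G) ⊓ N))
        invFun := fun (x : ↥((S : Subgroup G) ⊓ N)) => ⟨⟨x.1, x.2.2⟩, mem_subgroupOf.2 x.2.1⟩
        left_inv := fun x => rfl
        right_inv := fun x => rfl }, hS]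
    omega
  set V' := h.V.subgroupOf N with hV'
  have hV'4 : Nat.card V' = 4 := by rw [Nat.card_congr (subgroupOfEquivOfLe hVN).toEquiv, h.cardV]
  have hV'P : V' ≤ (PN : Subgroup N) := fun x hx => by
    rw [hPN, mem_subgroupOf, hS]
    exact le_normalizer (h.F_le_T (h.V_le_F (mem_subgroupOf.1 hx)))
  have hV'2 : ∀ x ∈ V', x * x = 1 := fun x hx => Subtype.ext (h.V_sq (mem_subgroupOf.1 hx))
  have hCV' : ∀ x : N, (∀ w ∈ V', x * w = w * x) → x ∈ V' := by
    intro x hx
    rcases h.cent_V (c := (x : G)) (fun w hw =>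
      congrArg Subtype.val (hx ⟨w, hVN hw⟩ (mem_subgroupOf.2 hw))) with hh | hh
    · exact mem_subgroupOf.2 hh
    · refine absurd ?_ huN
      have := mul_mem (inv_mem x.2) (hVN hh)
      rwa [inv_mul_cancel_left] at this
  obtain ⟨z', hz'V, hz'1, hz'P, hz'u, hz'c⟩ :=
    cent_four PN.2 hV'4 hV'P hV'2 (fun s _ hc => hCV' s hc) (by rw [hP16]; norm_num)
  have hcen2 : Nat.card ↥(center (PN : Subgroup N)) ≤ 2 := by
    let f : ↥(center (PN : Subgroup N)) → Bool := fun w => decide ((w : (PN : Subgroup N)) = 1)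
    refine (Nat.card_le_card_of_injective f fun a b e => ?_).trans (by simp)
    have hc : ∀ w : ↥(center (PN : Subgroup N)), ((w : (PN : Subgroup N)) : N) = 1 ∨ ((w : (PN : Subgroup N)) : N) = z' :=
      fun w => hz'u _ (w : (PN : Subgroup N)).2 fun s hs => congrArg Subtype.val (mem_center_iff.1 w.2 ⟨s, hs⟩)
    simp only [f, decide_eq_decide] at e
    rcases hc a with ha | ha <;> rcases hc b with hb | hb
    · exact Subtype.ext (Subtype.ext (ha.trans hb.symm))
    · have := e.1 (Subtype.ext ha)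
      exact absurd (hb.symm.trans (congrArg Subtype.val this)) hz'1
    · have := e.2 (Subtype.ext hb)
      exact absurd (ha.symm.trans (congrArg Subtype.val this)) hz'1
    · exact Subtype.ext (Subtype.ext (ha.trans hb.symm))
  obtain ⟨hsimp, hna⟩ := h.ctx.simple_of_center hN hN1 hmin PN hcen2
  haveI := hsimp
  have hcenN : center N = ⊥ := by
    refine ((inferInstance : (center N).Normal).eq_bot_or_eq_top).resolve_right fun e => ?_
    exact hna ⟨⟨fun a b => (mem_center_iff.1 (e ▸ mem_top a : a ∈ center N) b).symm⟩⟩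
  have hCN := h.ctx.centralizer_eq_bot hN hN1 hN2 hcenN
  obtain ⟨v', hv'V, hv'1, hv'z⟩ : ∃ v' ∈ V', v' ≠ 1 ∧ v' ≠ z' := by
    by_contra hno
    push Not at hno
    have hle : (V' : Set N) ⊆ {1, z'} := fun w hw => (em (w = 1)).imp id fun h1 => hno w hw h1
    have := Set.ncard_le_ncard hle (Set.toFinite _)
    rw [← Nat.card_coe_set_eq, Set.ncard_pair hz'1.symm] at this
    change Nat.card V' ≤ 2 at this
    omega
  have hv' : orderOf v' = 2 := orderOf_eq_prime (by rw [pow_two, hV'2 v' hv'V]) hv'1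
  have hCSv : (PN : Subgroup N) ⊓ centralizer ({v'} : Set N) = V' := le_antisymm
    (fun s hs => hz'c v' hv'V hv'1 hv'z s hs.1 (cent_iff.1 hs.2))
    (le_inf hV'P fun w hw => cent_iff.2 (mul_comm_of_sq hV'2 hw hv'V))
  rcases dihedral_or_qd PN.2 hv' (hV'P hv'V) (by rw [hCSv, hV'4]) (by rw [hP16]; norm_num) with
    ⟨n, hn, ⟨eP⟩⟩ | hqd
  swap
  · rcases sd_simple hna PN hqd (by rw [hP16]) hV'4 hV'P hV'2 hCV' hz'V hz'1 hz'P with hL | hM
    · exact ⟨N, hN, hN2, hCN, hL⟩
    · exfalso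
      obtain ⟨m, hm⟩ := eleven_inner hM (MulAut.conjNormal h.u)
      refine huN ?_
      have hmem : (m : G)⁻¹ * h.u ∈ centralizer (N : Set G) := by
        rw [mem_centralizer_iff]
        intro x hx
        have e := congrArg Subtype.val (hm ⟨x, hx⟩)
        simp only [MulAut.conjNormal_apply, Subgroup.coe_mul, InvMemClass.coe_inv] at e
        calc x * ((m : G)⁻¹ * h.u) = (m : G)⁻¹ * ((m : G) * x * (m : G)⁻¹) * h.u := by group
          _ = (m : G)⁻¹ * (h.u * x * h.u⁻¹) * h.u := by rw [e]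
          _ = (m : G)⁻¹ * h.u * x := by group
      rw [hCN, mem_bot, inv_mul_eq_one] at hmem
      exact hmem ▸ m.2
  exfalso
  obtain rfl : n = 8 := by
    have h1 := Nat.card_congr eP.toEquiv
    rw [hP16, DihedralGroup.nat_card] at h1
    omega
  have hmodel := model_cases (h.ctx.dihedral_model hN hN1 hmin PN hn ⟨eP⟩)
  have h16N : 16 ∣ Nat.card N := hP16 ▸ (PN : Subgroup N).card_subgroup_dvd_card
  have h32N : ¬ 32 ∣ Nat.card N := by
    intro hd
    have h1 := (PN : Subgroup N).card_mul_index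
    rw [hP16] at h1
    obtain ⟨k, hk⟩ := hd
    exact PN.not_dvd_index ⟨k, by omega⟩
  -- a square root of `z` in the two-group inside `N`
  obtain ⟨s, hsT, hsN, hs2⟩ : ∃ s, s ∈ T ∧ s ∈ N ∧ s * s = z := by
    obtain ⟨s, hs, hsz⟩ := hz.exists_sq
    by_cases hsN : s ∈ N
    · exact ⟨s, hs, hsN, hsz⟩
    · refine ⟨s * h.u, mul_mem hs h.u_mem_T, hxu s hsN, ?_⟩
      rw [mul_assoc, ← mul_assoc h.u s, ← h.u_comm (h.hTA hs), mul_assoc s h.u h.u, h.u_sq, mul_one, hsz]
  have hsS : s ∈ (S : Subgroup G) := hS ▸ le_normalizer hsT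
  have hroots : ∀ x, x ∈ (S : Subgroup G) → x ∈ N → x * x = z → x = s ∨ x = s⁻¹ := by
    intro x hxS hxN hx2
    let x' : (PN : Subgroup N) := ⟨⟨x, hxN⟩, by rw [hPN, mem_subgroupOf]; exact hxS⟩
    let s' : (PN : Subgroup N) := ⟨⟨s, hsN⟩, by rw [hPN, mem_subgroupOf]; exact hsS⟩
    have hxs : x' * x' = s' * s' := Subtype.ext (Subtype.ext (hx2.trans hs2.symm))
    have hx1 : x' * x' ≠ 1 := fun e => hz.z1 (hx2 ▸ congrArg (fun w : (PN : Subgroup N) => ((w : N) : G)) e)
    have hx4 : x' * x' * (x' * x') = 1 := Subtype.ext (Subtype.ext (by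
      show x * x * (x * x) = 1
      rw [hx2, hz.z_sq]))
    rcases dihedral_roots (eP x') (eP s') (by rw [← map_mul, ← map_mul, hxs])
        (by rw [← map_mul]; exact fun e => hx1 ((map_eq_one_iff eP eP.injective).1 e))
        (by rw [← map_mul, ← map_mul, hx4, map_one]) with e | e
    · exact Or.inl (congrArg (fun w : (PN : Subgroup N) => ((w : N) : G)) (eP.injective e))
    · rw [← map_inv] at e
      exact Or.inr (congrArg (fun w : (PN : Subgroup N) => ((w : N) : G)) (eP.injective e))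
  -- the outer involutions of the Sylow subgroup
  have houtS : ∀ w ∈ (S : Subgroup G), w * w = 1 → w ∉ N → w ∈ T := by
    intro w hw hw2 hwN
    rcases hz.conj_u_cases (hS ▸ hw : w ∈ normalizer (T : Set G)) with e | e
    · exact hz.fix_u (hS ▸ hw) e
    · have hx2 : w * h.u * (w * h.u) = z := by
        calc w * h.u * (w * h.u) = w * h.u * w⁻¹ * (w * w) * h.u := by group
          _ = z := by rw [e, hw2, mul_one, mul_assoc, h.u_sq, mul_one]
      have hT' : w * h.u ∈ T := by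
        rcases hroots _ (mul_mem hw huS) (hxu w hwN) hx2 with e' | e' <;> rw [e']
        exacts [hsT, inv_mem hsT]
      have := mul_mem hT' h.u_mem_T
      rwa [mul_assoc, h.u_sq, mul_one] at this
  have huz : IsConj h.u (z * h.u) := isConj_iff.2 ⟨g, hz.g_u⟩
  have houtF : ∀ w, w ∈ h.F → w ∉ N → IsConj h.u w := by
    intro w hw hwN
    rcases hw with hw | hw
    · exact absurd (hVN hw) hwN
    by_cases h0 : w * h.u = 1
    · rw [mul_right_cancel (h0.trans h.u_sq.symm)]
    · obtain ⟨m, hm, hmz⟩ := h.V_trans hz.zV hz.z1 hw h0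
      refine huz.trans (isConj_iff.2 ⟨m, ?_⟩)
      calc m * (z * h.u) * m⁻¹ = m * z * m⁻¹ * (m * h.u * m⁻¹) := by group
        _ = w := by rw [hmz, mul_inv_eq_iff_eq_mul.2 (h.u_comm hm), mul_assoc, h.u_sq, mul_one]
  have hout : ∀ w : G, orderOf w = 2 → w ∉ N → IsConj h.u w := by
    intro w hw hwN
    obtain ⟨c, hc⟩ := Invol.exists_conj_mem_sylow (p := 2) (n := 1) (x := w) (by rw [hw, pow_one]) S
    set w' := c * w * c⁻¹ with hw'
    refine IsConj.trans ?_ (isConj_iff.2 ⟨c, rfl⟩ : IsConj w w').symm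
    have hw'N : w' ∉ N := fun e => hwN (by simpa [hw', mul_assoc] using hN.conj_mem _ e c⁻¹)
    have hw'2 : w' * w' = 1 := by
      rw [hw', show c * w * c⁻¹ * (c * w * c⁻¹) = c * (w * w) * c⁻¹ by group, sq_one_of_orderOf_two hw, mul_one,
        mul_inv_cancel]
    have hw'T := houtS w' hc hw'2 hw'N
    by_cases hw'F : w' ∈ h.F
    · exact houtF w' hw'F hw'N
    obtain ⟨v, hv, hv1, hvz⟩ := exists_v hz
    have hwT : g * v * g⁻¹ ∈ T := conj_mem h.hgT (h.F_le_T (h.V_le_F hv))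
    have hwv2 : g * v * g⁻¹ * (g * v * g⁻¹) = 1 := by
      rw [show g * v * g⁻¹ * (g * v * g⁻¹) = g * (v * v) * g⁻¹ by group, h.V_sq hv, mul_one, mul_inv_cancel]
    have hgu : g⁻¹ * h.u * g ∈ h.F := by
      rcases hz.conj_u_cases (inv_mem h.hgT) with e | e <;> rw [inv_inv] at e <;> rw [e]
      exacts [h.u_mem_F, mul_mem (h.V_le_F hz.zV) h.u_mem_F]
    have hgz : g⁻¹ * z * g = z := by simpa using hz.fix_z (inv_mem h.hgT)
    have hg' : ∀ a b : G, g⁻¹ * (a * b) * g = g⁻¹ * a * g * (g⁻¹ * b * g) := fun a b => by group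
    have hgv : g⁻¹ * (g * v * g⁻¹) * g = v := by group
    have hmem : g⁻¹ * w' * g ∈ h.F := by
      rcases hz.outside_T hwT hw'T (hz.moved h.hgT h.hgA hv hv1 hvz) hw'F hwv2 hw'2 with e | e | e | e <;>
        rw [e]
      · rw [hgv]; exact h.V_le_F hv
      · rw [hg' (g * v * g⁻¹), hgv, hgz]; exact mul_mem (h.V_le_F hv) (h.V_le_F hz.zV)
      · rw [hg' (g * v * g⁻¹), hgv]; exact mul_mem (h.V_le_F hv) hgu
      · rw [hg' _ h.u, hg' (g * v * g⁻¹), hgv, hgz]
        exact mul_mem (mul_mem (h.V_le_F hv) (h.V_le_F hz.zV)) hgu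
    refine (houtF _ hmem fun e => hw'N ?_).trans (isConj_iff.2 ⟨g, by group⟩)
    simpa [mul_assoc] using hN.conj_mem _ e g
  have hz2 : orderOf z = 2 := orderOf_eq_prime (by rw [pow_two, hz.z_sq]) hz.z1
  have hzu : h.u * z = z * h.u := (h.u_comm (h.V_le hz.zV)).symm
  have hA_of : ∀ p : {p : G × G // orderOf p.1 = 2 ∧ p.1 ∉ N ∧ orderOf p.2 = 2 ∧ p.2 ∈ N ∧
      h.u ∈ zpowers (p.1 * p.2)}, p.1.1 ∈ A ∧ p.1.2 ∈ A := by
    rintro ⟨⟨a, b⟩, ha, -, hb, -, hp⟩
    obtain ⟨h1, h2⟩ := pair_mem_centralizer (sq_one_of_orderOf_two ha) (sq_one_of_orderOf_two hb) h.u_sq hp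
    exact ⟨h.cent_u.le (cent_iff.2 h1), h.cent_u.le (cent_iff.2 h2)⟩
  let e : A ≃* Equiv.Perm (Fin 4) × Multiplicative (ZMod 2) :=
    (MulEquiv.subgroupCongr h.range.symm).trans (MonoidHom.ofInjective h.inj).symm
  let π : A →* Equiv.Perm (Fin 4) := (MonoidHom.fst _ _).comp e.toMonoidHom
  have hπu : ∀ a : A, π a = 1 → (a : G) = 1 ∨ (a : G) = h.u := by
    intro a ha
    have hφ : φ (e a) = (a : G) := by
      have := congrArg Subtype.val ((MonoidHom.ofInjective h.inj).apply_symm_apply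
        ((MulEquiv.subgroupCongr h.range.symm) a))
      simpa [e] using this
    rcases two_cases (e a).2 with e2 | e2
    · refine Or.inl ?_
      rw [← hφ, show e a = 1 from Prod.ext ha e2, map_one]
    · refine Or.inr ?_
      rw [← hφ, Oct.u, show e a = (1, Multiplicative.ofAdd 1) from Prod.ext ha e2]
  have hπinj : ∀ a b : A, π a = π b → (a : G) * (b : G)⁻¹ ∈ N → a = b := by
    intro a b hab hN'
    rcases hπu (a * b⁻¹) (by rw [map_mul, map_inv, hab, mul_inv_cancel]) with e1 | e1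
    · exact Subtype.ext (mul_inv_eq_one.1 e1)
    · exact absurd (e1 ▸ hN' : h.u ∈ N) huN
  have h33 : Nat.card {p : G × G // orderOf p.1 = 2 ∧ p.1 ∉ N ∧ orderOf p.2 = 2 ∧ p.2 ∈ N ∧
      h.u ∈ zpowers (p.1 * p.2)} ≤ 33 := by
    refine le_trans ?_ count_odd_pairs
    rw [← Nat.card_eq_fintype_card]
    refine Nat.card_le_card_of_injective
      (fun p => ⟨(π ⟨p.1.1, (hA_of p).1⟩, π ⟨p.1.2, (hA_of p).2⟩), ?_, ⟨?_, ?_⟩, ?_⟩) ?_
    · rw [← map_mul, show (⟨p.1.1, (hA_of p).1⟩ : A) * ⟨p.1.1, (hA_of p).1⟩ = 1 from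
        Subtype.ext (sq_one_of_orderOf_two p.2.1), map_one]
    · rw [← map_mul, show (⟨p.1.2, (hA_of p).2⟩ : A) * ⟨p.1.2, (hA_of p).2⟩ = 1 from
        Subtype.ext (sq_one_of_orderOf_two p.2.2.2.1), map_one]
    · intro e1
      have := hπinj ⟨p.1.2, (hA_of p).2⟩ 1 (by rw [map_one]; exact e1) (by simpa using p.2.2.2.2.1)
      have h2 := p.2.2.2.1
      rw [show p.1.2 = 1 from congrArg Subtype.val this, orderOf_one] at h2
      omega
    · obtain ⟨i, hi⟩ := mem_zpowers_iff.1 p.2.2.2.2.2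
      have hab : p.1.1 * p.1.2 ∉ N := fun e1 => p.2.2.1 (by
        have := mul_mem e1 (inv_mem p.2.2.2.2.1); rwa [mul_inv_cancel_right] at this)
      have hodd : Odd i := by
        rcases Int.even_or_odd i with ⟨j, rfl⟩ | ho
        · exfalso
          refine huN ?_
          rw [← hi, ← two_mul, zpow_mul, zpow_two]
          exact zpow_mem ((Subgroup.mul_mem_iff_of_index_two hN2).2 Iff.rfl) j
        · exact ho
      refine perm_four_odd hodd ?_
      rw [← map_mul, ← map_zpow]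
      have he : ((⟨p.1.1, (hA_of p).1⟩ : A) * ⟨p.1.2, (hA_of p).2⟩) ^ i = ⟨h.u, h.u_mem⟩ :=
        Subtype.ext (by simpa using hi)
      rw [he]
      show (e ⟨h.u, h.u_mem⟩).1 = 1
      have : e ⟨h.u, h.u_mem⟩ = (1, Multiplicative.ofAdd 1) := by
        refine h.inj ?_
        have h3 := congrArg Subtype.val ((MonoidHom.ofInjective h.inj).apply_symm_apply
          ((MulEquiv.subgroupCongr h.range.symm) ⟨h.u, h.u_mem⟩))
        simpa [e, Oct.u] using h3
      rw [this]
    · intro p q hpq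
      simp only [Subtype.mk.injEq, Prod.mk.injEq] at hpq
      refine Subtype.ext (Prod.ext ?_ ?_)
      · refine congrArg Subtype.val (hπinj _ _ hpq.1 ?_)
        exact (Subgroup.mul_mem_iff_of_index_two hN2).2 (iff_of_false p.2.2.1 fun e1 => q.2.2.1 (by simpa using e1))
      · exact congrArg Subtype.val (hπinj _ _ hpq.2 (mul_mem p.2.2.2.2.1 (inv_mem q.2.2.2.2.1)))
  rcases hmodel with ⟨F, hF, hFf, c, hodd, -, -, hc, hcard, hd, hcl⟩ | ⟨hcard, -, -⟩
  swap
  · rw [hcard] at h16N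
    norm_num at h16N
  have hin : ∀ w : G, orderOf w = 2 → w ∈ N → IsConj z w := fun w hw hwN => by
    obtain ⟨k, hk⟩ := isConj_iff.1 (hcl ⟨z, hzN⟩ ⟨w, hwN⟩ (by rw [Subgroup.orderOf_mk, hz2])
      (by rw [Subgroup.orderOf_mk, hw]))
    exact isConj_iff.2 ⟨(k : G), congrArg Subtype.val hk⟩
  have hcardG : Nat.card G = 2 * Nat.card N := by rw [← N.card_mul_index, hN2, mul_comm]
  have hq : Fintype.card F = 17 := by
    have hb := order_bound hN hN2 huord hz2 huN hzN hzu hout hin hd h33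
    rw [h.cent_u, h.cardA, hcardG, hcard] at hb
    have hpp := Fintype.isPrimePow_card_of_field (α := F)
    have h32 : ¬ 64 ∣ Fintype.card F * ((Fintype.card F - 1) * (Fintype.card F + 1)) := fun hd' =>
      h32N (by rw [← hcard] at hd'; exact Nat.dvd_of_mul_dvd_mul_left two_pos (show 2 * 32 ∣ 2 * Nat.card N from hd'))
    have h32' : 32 ∣ Fintype.card F * ((Fintype.card F - 1) * (Fintype.card F + 1)) := by
      rw [← hcard]; exact Nat.mul_dvd_mul_left 2 h16N
    obtain ⟨m, hm⟩ := hodd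
    generalize Fintype.card F = q at *
    subst hm
    have hq28 : m ≤ 13 := by
      have hck : c * (c / 2) * 2 ≤ c * c := by
        rw [mul_assoc]; exact Nat.mul_le_mul_left _ (Nat.div_mul_le_self c 2)
      have hcq : c ≤ 2 * m + 2 := by omega
      have hcc := Nat.mul_le_mul hcq hcq
      rw [show 2 * m + 1 - 1 = 2 * m by omega] at hb
      by_contra hh
      have h14 : 14 ≤ m := by omega
      nlinarith [Nat.mul_le_mul_left (m * m) h14, Nat.mul_le_mul_left m h14]
    interval_cases m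
    all_goals first | rfl | (exfalso; norm_num at h32; done) | (exfalso; norm_num at h32'; done) | skip
    exact absurd hpp (by
      rw [isPrimePow_nat_iff]
      rintro ⟨p, k, hp, hk, he⟩
      have hle : p ≤ 15 := by
        calc p = p ^ 1 := (pow_one p).symm
          _ ≤ p ^ k := Nat.pow_le_pow_right hp.pos hk
          _ = _ := he
      have hk4 : k < 4 := by
        by_contra hh
        have := Nat.pow_le_pow_right hp.pos (show 4 ≤ k by omega)
        have := Nat.pow_le_pow_left hp.two_le 4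
        omega
      interval_cases k <;> interval_cases p <;> first | (norm_num at he; done) | (norm_num at hp; done))
  rw [hq] at hc hcard
  have hc16 : c = 16 := by omega
  subst hc16
  have hCz : centralizer ({z} : Set G) = (S : Subgroup G) := by
    refine (eq_of_le_of_card_ge (fun x hx => cent_iff.2 ?_) ?_).symm
    · exact mul_inv_eq_iff_eq_mul.1 (hz.fix_z (hS ▸ hx))
    · rw [card_centralizer_two hN hN2 huN hzu, hS, hz.cardN]
      obtain ⟨hc2, -⟩ := hd ⟨z, hzN⟩ (by rw [Subgroup.orderOf_mk, hz2])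
      have hcN : Nat.card ↥(centralizer ({z} : Set G) ⊓ N) = 16 := by
        rw [← hc2]
        exact Nat.card_congr
          { toFun := fun x => ⟨⟨x, x.2.2⟩, cent_iff.2 (Subtype.ext (cent_iff.1 x.2.1))⟩
            invFun := fun x => ⟨(x.1 : G), cent_iff.2 (congrArg Subtype.val (cent_iff.1 x.2)), x.1.2⟩
            left_inv := fun x => rfl
            right_inv := fun x => rfl }
      omega
  have h6 : Nat.card {x : G // x * z = z * x ∧ x ∉ N ∧ orderOf x = 2} ≤ 6 := by
    have key : ∀ x : {x : G // x * z = z * x ∧ x ∉ N ∧ orderOf x = 2}, x.1 * h.u ∈ T ⊓ N ∧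
        x.1 * h.u ≠ s ∧ x.1 * h.u ≠ s⁻¹ := by
      rintro ⟨x, hxz, hxN, hx⟩
      have hx2 := sq_one_of_orderOf_two hx
      have hxT : x ∈ T := houtS x (hCz ▸ cent_iff.2 hxz) hx2 hxN
      have he : x * h.u * (x * h.u) = 1 := by
        rw [mul_assoc, ← mul_assoc h.u x, ← h.u_comm (h.hTA hxT), mul_assoc x h.u h.u, h.u_sq, mul_one, hx2]
      refine ⟨⟨mul_mem hxT h.u_mem_T, hxu x hxN⟩, fun e => hz.z1 ?_, fun e => hz.z1 ?_⟩
      · rw [← hs2, ← e, he]
      · rw [e, ← mul_inv_rev, inv_eq_one] at he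
        rw [← hs2, he]
    have hne : s ≠ s⁻¹ := fun e => hz.z1 (by rw [← hs2]; nth_rewrite 2 [e]; exact mul_inv_cancel s)
    have hsub : (((T ⊓ N : Subgroup G) : Set G) \ {s, s⁻¹}).ncard ≤ 6 := by
      rw [Set.ncard_diff (by
        rintro w (rfl | rfl)
        exacts [⟨hsT, hsN⟩, ⟨T.inv_mem hsT, N.inv_mem hsN⟩]), Set.ncard_pair hne, ← Nat.card_coe_set_eq]
      change Nat.card ↥(T ⊓ N) - 2 ≤ 6
      omega
    refine le_trans ?_ hsub
    rw [← Nat.card_coe_set_eq]
    refine Nat.card_le_card_of_injective (fun x => ⟨x.1 * h.u, (key x).1, by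
      rintro (e | e)
      exacts [(key x).2.1 e, (key x).2.2 e]⟩) ?_
    intro x y hxy
    exact Subtype.ext (mul_right_cancel (congrArg Subtype.val hxy :))
  have hb := order_bound' hN hN2 huord hz2 huN hzN hzu hout hin hd h33 h6
  rw [h.cent_u, h.cardA, hcardG, hcard] at hb
  norm_num at hb

end Oct

end Cfsg.Agent.Transfer.SubThree
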