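import Cfsg.Agent.Lib.Transfer.SubThree.FortyEightTwo

/-!
# A subgroup of index two of the Sylow 2-subgroup avoiding the class of the central involution
-/

set_option autoImplicit false
set_option linter.unusedSectionVars false
set_option linter.style.haveILetI false

namespace Cfsg.Agent.Transfer.SubThree

open Subgroup

universe u

variable {G : Type u} [Group G]

/-- The relations between a four-group, its conjugate and the element conjugating them. -/
structure Rel (h u z v w : G) : Prop where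
  zh : h * z = z * h
  zu : u * z = z * u
  zv : v * z = z * v
  zw : w * z = z * w
  uv : u * v = v * u
  uw : u * w = w * u
  z2 : z * z = 1
  v2 : v * v = 1
  w2 : w * w = 1
  u2 : u * u = 1
  z1 : z ≠ 1
  wv : w * v = v * w * z
  hv : h * v * h⁻¹ = w
  hu : h * u * h⁻¹ = z * u
  wne : w ≠ v ∧ w ≠ v * z
  une : u ≠ 1 ∧ u ≠ z

/-- The eight elements of the dihedral group. -/
def DCases (z v w d : G) : Prop :=
  d = 1 ∨ d = z ∨ d = v ∨ d = v * z ∨ d = w ∨ d = w * z ∨ d = v * w ∨ d = v * w * z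

namespace Rel

variable {h u z v w : G} (r : Rel h u z v w)
include r

theorem hz : MulAut.conj h z = z := by
  rw [MulAut.conj_apply, r.zh, mul_inv_cancel_right]

theorem vi : v⁻¹ = v := inv_eq_of_mul_eq_one_right r.v2
theorem wi : w⁻¹ = w := inv_eq_of_mul_eq_one_right r.w2
theorem zi : z⁻¹ = z := inv_eq_of_mul_eq_one_right r.z2
theorem zz (a : G) : z * (z * a) = a := by rw [← mul_assoc, r.z2, one_mul]
theorem vv (a : G) : v * (v * a) = a := by rw [← mul_assoc, r.v2, one_mul]
theorem ww (a : G) : w * (w * a) = a := by rw [← mul_assoc, r.w2, one_mul]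
theorem uu (a : G) : u * (u * a) = a := by rw [← mul_assoc, r.u2, one_mul]
theorem zv' (a : G) : z * (v * a) = v * (z * a) := by rw [← mul_assoc, ← r.zv, mul_assoc]
theorem zw' (a : G) : z * (w * a) = w * (z * a) := by rw [← mul_assoc, ← r.zw, mul_assoc]
theorem uz' (a : G) : u * (z * a) = z * (u * a) := by rw [← mul_assoc, r.zu, mul_assoc]
theorem uv' (a : G) : u * (v * a) = v * (u * a) := by rw [← mul_assoc, r.uv, mul_assoc]
theorem uw' (a : G) : u * (w * a) = w * (u * a) := by rw [← mul_assoc, r.uw, mul_assoc]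
theorem wv1 : w * v = v * (w * z) := by rw [r.wv, mul_assoc]
theorem wv' (a : G) : w * (v * a) = v * (w * (z * a)) := by rw [← mul_assoc, r.wv, mul_assoc, mul_assoc]

theorem wz_ne : w * z ≠ v := fun e => r.wne.2 (by rw [← e, mul_assoc, r.z2, mul_one])

theorem vw_ne : v * w ≠ 1 := fun e => r.wne.1 (by rw [← r.vi, eq_inv_of_mul_eq_one_right e])

theorem vwz_ne : v * (w * z) ≠ 1 := fun e => r.wz_ne (by rw [eq_inv_of_mul_eq_one_right e, r.vi])

/-- The square of the conjugating element is not outside the dihedral group. -/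
theorem sq_ne {d : G} (hd : DCases z v w d) (hsq : h * h = d * u) : False := by
  have hcv : MulAut.conj h v = w := r.hv
  have hcu : MulAut.conj h u = z * u := r.hu
  have hfix : MulAut.conj h (d * u) = d * u := by
    rw [← hsq, MulAut.conj_apply]; group
  rw [map_mul, hcu, ← mul_assoc] at hfix
  have hdd : MulAut.conj h d * z = d := mul_right_cancel hfix
  have hw : MulAut.conj h w = d * v * d⁻¹ := by
    rw [MulAut.conj_apply]
    calc h * w * h⁻¹ = (h * h) * v * (h * h)⁻¹ := by rw [← r.hv]; group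
      _ = d * (u * v * u⁻¹) * d⁻¹ := by rw [hsq]; group
      _ = d * v * d⁻¹ := by rw [r.uv, mul_inv_cancel_right]
  rcases hd with rfl | rfl | rfl | rfl | rfl | rfl | rfl | rfl
  all_goals
    simp only [map_mul, map_one, hcv, hw, r.hz, mul_inv_rev, r.vi, r.wi, r.zi, mul_assoc, r.z2, r.v2, r.w2,
      r.zz, r.vv, r.ww, r.zv.symm, r.zw.symm, r.zv', r.zw', r.wv1, r.wv', one_mul, mul_one] at hdd
  all_goals
    simp [r.z1, Ne.symm r.z1, r.wne.1, r.wne.1.symm, r.wne.2, r.wne.2.symm, r.wz_ne, r.wz_ne.symm] at hdd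

/-- At most one of two cosets has involutions. -/
theorem no_both {d : G} (hd : DCases z v w d) (h2 : h * h = 1) :
    h * u * d * (h * u * d) ≠ 1 := by
  intro hy
  have hcv : MulAut.conj h v = w := r.hv
  have hcu : MulAut.conj h u = z * u := r.hu
  have hcw : MulAut.conj h w = v := by
    rw [MulAut.conj_apply, ← r.hv, show h * (h * v * h⁻¹) * h⁻¹ = (h * h) * v * (h * h)⁻¹ by group, h2, one_mul,
      inv_one, mul_one]
  have key : MulAut.conj h u * MulAut.conj h d * (u * d) = 1 := by
    rw [← hy, MulAut.conj_apply, MulAut.conj_apply]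
    calc h * u * h⁻¹ * (h * d * h⁻¹) * (u * d) = h * u * d * (h⁻¹ * (u * d)) := by group
      _ = h * u * d * (h * u * d) := by rw [inv_eq_of_mul_eq_one_right h2, mul_assoc h u d]
  rcases hd with rfl | rfl | rfl | rfl | rfl | rfl | rfl | rfl
  all_goals
    simp only [map_mul, map_one, hcv, hcw, hcu, r.hz, mul_assoc, r.z2, r.v2, r.w2, r.u2,
      r.zz, r.vv, r.ww, r.uu, r.zv.symm, r.zw.symm, r.zu, r.uv, r.uw, r.zv', r.zw', r.uz', r.uv', r.uw', r.wv1,
      r.wv', one_mul, mul_one] at key
  all_goals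
    simp [r.z1, r.vw_ne, r.vwz_ne] at key

end Rel

variable [Finite G] {A T : Subgroup G} {φ : Equiv.Perm (Fin 4) × Multiplicative (ZMod 2) →* G} {g z : G}

namespace Oct

variable {h : Oct A T φ g}

/-- A Sylow subgroup with a subgroup of index two free of conjugates of the central involution. -/
theorem Zed.transfer_subgroup (hz : h.Zed z) : ∃ (S : Sylow 2 G) (Q : Subgroup G), Q ≤ (S : Subgroup G) ∧
    Q.relIndex (S : Subgroup G) = 2 ∧ h.u ∈ (S : Subgroup G) ∧ h.u ∉ Q ∧ ∀ x : G, x * h.u * x⁻¹ ∉ Q := by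
  obtain ⟨S, hS⟩ := hz.exists_sylow
  obtain ⟨v, hv, hv1, hvz⟩ := exists_v hz
  obtain ⟨w, hw⟩ : ∃ w, w = g * v * g⁻¹ := ⟨_, rfl⟩
  have hwT : w ∈ T := hw ▸ conj_mem h.hgT (h.F_le_T (h.V_le_F hv))
  have hwF : w ∉ h.F := hw ▸ hz.moved h.hgT h.hgA hv hv1 hvz
  have hw2 : w * w = 1 := by
    rw [hw, show g * v * g⁻¹ * (g * v * g⁻¹) = g * (v * v) * g⁻¹ by group, h.V_sq hv, mul_one, mul_inv_cancel]
  have hVc : ∀ c ∈ h.V, c * z = z * c := fun c hc => hz.zT c (h.F_le_T (h.V_le_F hc))
  have hwv : w * v = v * w * z := by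
    have hm : w * v * w⁻¹ ∈ h.V := h.conj_V (h.hTA hwT) hv
    have hne : w * v * w⁻¹ ≠ v := fun e => by
      rcases h.T_split hwT with hw' | hw'
      · exact hwF (h.V_le_F (hz.cent v hv hv1 hvz w hw' (mul_inv_eq_iff_eq_mul.1 e)))
      · refine hwF (Or.inr (hz.cent v hv hv1 hvz _ hw' ?_))
        rw [mul_assoc, ← h.u_comm (h.V_le hv), ← mul_assoc, mul_inv_eq_iff_eq_mul.1 e, mul_assoc]
    have hnz : w * v * w⁻¹ ≠ z := fun e => hvz (by
      calc v = w⁻¹ * (w * v * w⁻¹) * w := by group
        _ = z := by rw [e, mul_assoc, ← hz.zT w hwT, inv_mul_cancel_left])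
    rcases mem_F_cases hv hv1 hz hvz hm with e | e | e | e
    · exact absurd (conj_eq_one_iff.1 e) hv1
    · exact absurd e hnz
    · exact absurd e hne
    · rw [mul_inv_eq_iff_eq_mul.1 e, mul_assoc, ← hz.zT w hwT, mul_assoc]
  -- the dihedral group
  have hDc : ∀ x : G, x ∈ h.V ∨ x * w ∈ h.V → DCases z v w x := by
    intro x hx
    rcases hx with hx | hx
    · rcases mem_F_cases hv hv1 hz hvz hx with e | e | e | e
      exacts [Or.inl e, Or.inr (Or.inl e), Or.inr (Or.inr (Or.inl e)), Or.inr (Or.inr (Or.inr (Or.inl e)))]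
    · have hxe : x = x * w * w := by rw [mul_assoc, hw2, mul_one]
      rcases mem_F_cases hv hv1 hz hvz hx with e | e | e | e <;> rw [e] at hxe
      · exact Or.inr (Or.inr (Or.inr (Or.inr (Or.inl (by rw [hxe, one_mul])))))
      · exact Or.inr (Or.inr (Or.inr (Or.inr (Or.inr (Or.inl (by rw [hxe, hz.zT w hwT]))))))
      · exact Or.inr (Or.inr (Or.inr (Or.inr (Or.inr (Or.inr (Or.inl hxe))))))
      · refine Or.inr (Or.inr (Or.inr (Or.inr (Or.inr (Or.inr (Or.inr ?_))))))
        rw [hxe, mul_assoc v z w, ← hz.zT w hwT, ← mul_assoc]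
  let D : Subgroup G :=
    { carrier := {x | x ∈ h.V ∨ x * w ∈ h.V}
      one_mem' := Or.inl (one_mem _)
      mul_mem' := by
        intro a b ha hb
        simp only [Set.mem_setOf_eq] at ha hb ⊢
        have hcw : ∀ c ∈ h.V, w * c * w ∈ h.V := fun c hc => by
          have := h.conj_V (h.hTA hwT) hc
          rwa [inv_eq_of_mul_eq_one_right hw2] at this
        rcases ha with ha | ha <;> rcases hb with hb | hb
        · exact Or.inl (mul_mem ha hb)
        · exact Or.inr (by rw [mul_assoc]; exact mul_mem ha hb)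
        · refine Or.inr ?_
          rw [show a * b * w = a * w * (w⁻¹ * b * w) by group, inv_eq_of_mul_eq_one_right hw2]
          exact mul_mem ha (hcw b hb)
        · refine Or.inl ?_
          have h2 := mul_mem ha (hcw _ hb)
          rwa [mul_assoc w (b * w) w, mul_assoc b w w, hw2, mul_one, mul_assoc, ← mul_assoc w w b, hw2, one_mul]
            at h2
      inv_mem' := by
        intro a ha
        simp only [Set.mem_setOf_eq] at ha ⊢
        rcases ha with ha | ha
        · exact Or.inl (inv_mem ha)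
        · refine Or.inr ?_
          have h2 := h.conj_V (h.hTA hwT) (inv_mem ha)
          rw [show w * (a * w)⁻¹ * w⁻¹ = a⁻¹ * w⁻¹ by
            rw [mul_inv_rev]; group, inv_eq_of_mul_eq_one_right hw2] at h2
          exact h2 }
  have hDT : D ≤ T := fun x hx => by
    rcases hx with hx | hx
    · exact h.F_le_T (h.V_le_F hx)
    · have := mul_mem (h.F_le_T (h.V_le_F hx)) hwT
      rwa [mul_assoc, hw2, mul_one] at this
  have hwD : w ∈ D := Or.inr (by rw [hw2]; exact one_mem _)
  have huD : h.u ∉ D := by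
    rintro (hu | hu)
    · exact h.u_not_V hu
    · refine hwF (Or.inr ?_)
      rwa [h.u_comm (h.hTA hwT)]
  have hDcard : Nat.card D = 8 := by
    let f : Bool × h.V → D := fun p => ⟨if p.1 then (p.2 : G) * w else p.2, by
      split_ifs
      · exact Or.inr (by rw [mul_assoc, hw2, mul_one]; exact p.2.2)
      · exact Or.inl p.2.2⟩
    have hwV : w ∉ h.V := fun e => hwF (h.V_le_F e)
    have hf : Function.Bijective f := by
      constructor
      · rintro ⟨a1, a2⟩ ⟨b1, b2⟩ e
        have e' := congrArg Subtype.val e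
        simp only [f] at e'
        cases a1 <;> cases b1 <;> simp only [Bool.false_eq_true, if_true, if_false] at e'
        · exact Prod.ext rfl (Subtype.ext e')
        · refine absurd ?_ hwV
          rw [show w = (b2 : G)⁻¹ * a2 by rw [e', inv_mul_cancel_left]]
          exact mul_mem (inv_mem b2.2) a2.2
        · refine absurd ?_ hwV
          rw [show w = (a2 : G)⁻¹ * b2 by rw [← e', inv_mul_cancel_left]]
          exact mul_mem (inv_mem a2.2) b2.2
        · exact Prod.ext rfl (Subtype.ext (mul_right_cancel e'))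
      · rintro ⟨c, hc⟩
        rcases hc with hc | hc
        · exact ⟨(false, ⟨c, hc⟩), rfl⟩
        · exact ⟨(true, ⟨_, hc⟩), Subtype.ext (by
            show c * w * w = c
            rw [mul_assoc, hw2, mul_one])⟩
    rw [← Nat.card_congr (Equiv.ofBijective f hf), Nat.card_prod, Nat.card_eq_fintype_card (α := Bool),
      Fintype.card_bool, h.cardV]
  have hTD : ∀ t ∈ T, t ∈ D ∨ t * h.u ∈ D := by
    intro t ht
    have hle : ∀ t' ∈ h.E, t' ∈ D ∨ t' * h.u ∈ D := by
      -- both halves of the symmetric factor meet `D` or its translate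
      intro t' ht'
      by_cases htV : t' ∈ h.V
      · exact Or.inl (Or.inl htV)
      have hidx : (h.V.subgroupOf h.E).index = 2 := by
        have h1 := (h.V.subgroupOf h.E).card_mul_index
        rw [Nat.card_congr (subgroupOfEquivOfLe h.V_le_E).toEquiv, h.cardV, h.cardE] at h1
        omega
      rcases h.T_split hwT with hw' | hw'
      · exact Or.inl (Or.inr (mem_subgroupOf.1
          ((Subgroup.mul_mem_iff_of_index_two hidx (a := (⟨t', ht'⟩ : h.E)) (b := ⟨w, hw'⟩)).2
            (iff_of_false (fun e => htV (mem_subgroupOf.1 e))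
              (fun e => hwF (h.V_le_F (mem_subgroupOf.1 e)))))))
      · refine Or.inr (Or.inr ?_)
        have h3 := mem_subgroupOf.1
          ((Subgroup.mul_mem_iff_of_index_two hidx (a := (⟨t', ht'⟩ : h.E)) (b := ⟨_, hw'⟩)).2
            (iff_of_false (fun e => htV (mem_subgroupOf.1 e)) (fun e => hwF (Or.inr (mem_subgroupOf.1 e)))))
        change t' * (w * h.u) ∈ h.V at h3
        rwa [h.u_comm (h.hTA hwT), ← mul_assoc] at h3
    rcases h.T_split ht with ht' | ht'
    · exact hle t ht'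
    · rcases hle _ ht' with e | e
      · exact Or.inr e
      · rw [mul_assoc, h.u_sq, mul_one] at e; exact Or.inl e
  have hgz : ∀ x ∈ normalizer (T : Set G), x * z = z * x := fun x hx => mul_inv_eq_iff_eq_mul.1 (hz.fix_z hx)
  have hrel : ∀ k w', k ∈ normalizer (T : Set G) → k ∉ A → k * v * k⁻¹ = w' → (w' = w ∨ w' = w * z) →
      Rel k h.u z v w' := by
    intro k w' hk hkA hkv hw'
    have hw'T : w' ∈ T := hkv ▸ conj_mem hk (h.F_le_T (h.V_le_F hv))
    have hku : k * h.u * k⁻¹ = z * h.u :=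
      (hz.conj_u_cases hk).resolve_left fun e => hkA (h.hTA (hz.fix_u hk e))
    refine ⟨hgz k hk, (h.u_comm (h.V_le hz.zV)).symm, hVc v hv, hz.zT _ hw'T, (h.u_comm (h.V_le hv)).symm,
      (h.u_comm (h.hTA hw'T)).symm, hz.z_sq, h.V_sq hv, ?_, h.u_sq, hz.z1, ?_, hkv, hku,
      ⟨fun e => ?_, fun e => ?_⟩, h.u_ne, fun e => hz.z_ne_u e.symm⟩
    · rw [← hkv, show k * v * k⁻¹ * (k * v * k⁻¹) = k * (v * v) * k⁻¹ by group, h.V_sq hv, mul_one, mul_inv_cancel]
    · rcases hw' with rfl | rfl
      · exact hwv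
      · rw [mul_assoc w z v, ← hVc v hv, ← mul_assoc, hwv, mul_assoc v w z]
    · exact hz.moved hk hkA hv hv1 hvz (by rw [hkv, e]; exact h.V_le_F hv)
    · exact hz.moved hk hkA hv hv1 hvz (by rw [hkv, e]; exact mul_mem (h.V_le_F hv) (h.V_le_F hz.zV))
  -- the choice of an element
  have hkey : ∀ k, k ∈ normalizer (T : Set G) → k ∉ A → k * v * k⁻¹ = w → k * k ∈ D := by
    intro k hk hkA hkv
    have hkk : k * k ∈ T := by
      refine hz.fix_u (mul_mem hk hk) ?_
      have hku : k * h.u * k⁻¹ = z * h.u :=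
        (hz.conj_u_cases hk).resolve_left fun e => hkA (h.hTA (hz.fix_u hk e))
      calc k * k * h.u * (k * k)⁻¹ = k * (k * h.u * k⁻¹) * k⁻¹ := by group
        _ = k * (z * h.u) * k⁻¹ := by rw [hku]
        _ = k * z * k⁻¹ * (k * h.u * k⁻¹) := by group
        _ = h.u := by rw [hz.fix_z hk, hku, ← mul_assoc, hz.z_sq, one_mul]
    refine (hTD _ hkk).resolve_right fun e => ?_
    exact (hrel k w hk hkA hkv (Or.inl rfl)).sq_ne (hDc _ e) (by rw [mul_assoc (k * k), h.u_sq, mul_one])
  have huN : h.u ∈ normalizer (T : Set G) := le_normalizer h.u_mem_T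
  have hgu : g * h.u ∈ normalizer (T : Set G) := mul_mem h.hgT huN
  have hguA : g * h.u ∉ A := fun e => h.hgA (by
    have := mul_mem e h.u_mem; rwa [mul_assoc, h.u_sq, mul_one] at this)
  have hguv : g * h.u * v * (g * h.u)⁻¹ = w := by
    rw [mul_assoc g h.u v, ← h.u_comm (h.V_le hv), hw]; group
  obtain ⟨k, hk, hkA, hkv, hkD⟩ : ∃ k, k ∈ normalizer (T : Set G) ∧ k ∉ A ∧ k * v * k⁻¹ = w ∧
      ∀ d ∈ D, k * d * (k * d) ≠ 1 := by
    by_cases hall : ∀ d ∈ D, g * d * (g * d) ≠ 1
    · exact ⟨g, h.hgT, h.hgA, hw.symm, hall⟩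
    push Not at hall
    obtain ⟨d, hd, hd2⟩ := hall
    refine ⟨g * h.u, hgu, hguA, hguv, fun d' hd' e => ?_⟩
    have hx : g * d ∈ normalizer (T : Set G) := mul_mem h.hgT (le_normalizer (hDT hd))
    have hxA : g * d ∉ A := fun e' => h.hgA (by
      have := mul_mem e' (inv_mem (h.hTA (hDT hd))); rwa [mul_inv_cancel_right] at this)
    have hconj : ∀ c ∈ D, c * v * c⁻¹ = v ∨ c * v * c⁻¹ = v * z := by
      intro c hc
      have hm := h.conj_V (h.hTA (hDT hc)) hv
      have hnz : c * v * c⁻¹ ≠ z := fun e => hvz (by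
        calc v = c⁻¹ * (c * v * c⁻¹) * c := by group
          _ = z := by rw [e, mul_assoc, ← hz.zT c (hDT hc), inv_mul_cancel_left])
      rcases mem_F_cases hv hv1 hz hvz hm with e' | e' | e' | e'
      exacts [absurd (conj_eq_one_iff.1 e') hv1, absurd e' hnz, Or.inl e', Or.inr e']
    obtain ⟨w', hw', hw'v⟩ : ∃ w', (w' = w ∨ w' = w * z) ∧ g * d * v * (g * d)⁻¹ = w' := by
      rcases hconj d hd with e' | e'
      · exact ⟨w, Or.inl rfl, by
          calc g * d * v * (g * d)⁻¹ = g * (d * v * d⁻¹) * g⁻¹ := by group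
            _ = w := by rw [e', hw]⟩
      · exact ⟨w * z, Or.inr rfl, by
          calc g * d * v * (g * d)⁻¹ = g * (d * v * d⁻¹) * g⁻¹ := by group
            _ = g * v * g⁻¹ * (g * z * g⁻¹) := by rw [e']; group
            _ = w * z := by rw [hz.fix_z h.hgT, hw]⟩
    have r := hrel _ w' hx hxA hw'v hw'
    have hdd : d⁻¹ * d' ∈ D := mul_mem (inv_mem hd) hd'
    have hc : DCases z v w' (d⁻¹ * d') := by
      rcases hDc _ hdd with e' | e' | e' | e' | e' | e' | e' | e'
      · exact Or.inl e'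
      · exact Or.inr (Or.inl e')
      · exact Or.inr (Or.inr (Or.inl e'))
      · exact Or.inr (Or.inr (Or.inr (Or.inl e')))
      all_goals rcases hw' with rfl | rfl
      · exact Or.inr (Or.inr (Or.inr (Or.inr (Or.inl e'))))
      · exact Or.inr (Or.inr (Or.inr (Or.inr (Or.inr (Or.inl (by rw [e', mul_assoc, hz.z_sq, mul_one]))))))
      · exact Or.inr (Or.inr (Or.inr (Or.inr (Or.inr (Or.inl e')))))
      · exact Or.inr (Or.inr (Or.inr (Or.inr (Or.inl e'))))
      · exact Or.inr (Or.inr (Or.inr (Or.inr (Or.inr (Or.inr (Or.inl e'))))))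
      · exact Or.inr (Or.inr (Or.inr (Or.inr (Or.inr (Or.inr (Or.inr (by
          rw [e', ← mul_assoc v w z, mul_assoc (v * w) z z, hz.z_sq, mul_one])))))))
      · exact Or.inr (Or.inr (Or.inr (Or.inr (Or.inr (Or.inr (Or.inr e'))))))
      · exact Or.inr (Or.inr (Or.inr (Or.inr (Or.inr (Or.inr (Or.inl (by rw [e', mul_assoc v w z])))))))
    refine r.no_both hc hd2 ?_
    have he : g * d * h.u * (d⁻¹ * d') = g * h.u * d' := by
      rw [mul_assoc g d, h.u_comm (h.hTA (hDT hd))]; group
    rw [he]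
    exact e
  -- the subgroup
  have hkk := hkey k hk hkA hkv
  have hDn : ∀ d ∈ D, k * d * k⁻¹ ∈ D := by
    have hkw : k * w * k⁻¹ ∈ D := by
      rw [← hkv, show k * (k * v * k⁻¹) * k⁻¹ = (k * k) * v * (k * k)⁻¹ by group]
      exact mul_mem (mul_mem hkk (Or.inl hv)) (inv_mem hkk)
    have hkz : k * z * k⁻¹ ∈ D := by rw [hz.fix_z hk]; exact Or.inl hz.zV
    have hkv' : k * v * k⁻¹ ∈ D := hkv ▸ hwD
    intro d hd
    rcases hDc d hd with rfl | rfl | rfl | rfl | rfl | rfl | rfl | rfl
    · simpa using one_mem D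
    · exact hkz
    · exact hkv'
    · rw [show k * (v * z) * k⁻¹ = k * v * k⁻¹ * (k * z * k⁻¹) by group]; exact mul_mem hkv' hkz
    · exact hkw
    · rw [show k * (w * z) * k⁻¹ = k * w * k⁻¹ * (k * z * k⁻¹) by group]; exact mul_mem hkw hkz
    · rw [show k * (v * w) * k⁻¹ = k * v * k⁻¹ * (k * w * k⁻¹) by group]; exact mul_mem hkv' hkw
    · rw [show k * (v * w * z) * k⁻¹ = k * v * k⁻¹ * (k * w * k⁻¹) * (k * z * k⁻¹) by group]
      exact mul_mem (mul_mem hkv' hkw) hkz
  have hDn' : ∀ d ∈ D, k⁻¹ * d * k ∈ D := fun d hd => by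
    have h1 := hDn _ (mul_mem (mul_mem (inv_mem hkk) hd) hkk)
    rwa [show k * ((k * k)⁻¹ * d * (k * k)) * k⁻¹ = k⁻¹ * d * k by group] at h1
  let Q : Subgroup G :=
    { carrier := {x | x ∈ D ∨ k⁻¹ * x ∈ D}
      one_mem' := Or.inl (one_mem _)
      mul_mem' := by
        intro a b ha hb
        simp only [Set.mem_setOf_eq] at ha hb ⊢
        rcases ha with ha | ha <;> rcases hb with hb | hb
        · exact Or.inl (mul_mem ha hb)
        · refine Or.inr ?_
          rw [show k⁻¹ * (a * b) = k⁻¹ * a * k * (k⁻¹ * b) by group]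
          exact mul_mem (hDn' a ha) hb
        · refine Or.inr ?_
          rw [← mul_assoc]; exact mul_mem ha hb
        · refine Or.inl ?_
          rw [show a * b = k * k * (k⁻¹ * (k⁻¹ * a) * k) * (k⁻¹ * b) by group]
          exact mul_mem (mul_mem hkk (hDn' _ ha)) hb
      inv_mem' := by
        intro a ha
        simp only [Set.mem_setOf_eq] at ha ⊢
        rcases ha with ha | ha
        · exact Or.inl (inv_mem ha)
        · refine Or.inr ?_
          rw [show k⁻¹ * a⁻¹ = (k⁻¹ * (k⁻¹ * a)⁻¹ * k) * (k * k)⁻¹ by group]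
          exact mul_mem (hDn' _ (inv_mem ha)) (inv_mem hkk) }
  have huQ : h.u ∉ Q := by
    rintro (hu | hu)
    · exact huD hu
    · refine hkA ?_
      have := mul_mem h.u_mem (inv_mem (h.hTA (hDT hu)))
      rwa [mul_inv_rev, inv_inv, mul_inv_cancel_left] at this
  have hQS : Q ≤ (S : Subgroup G) := by
    rw [hS]
    rintro x (hx | hx)
    · exact le_normalizer (hDT hx)
    · have := mul_mem hk (le_normalizer (G := G) (hDT hx))
      rwa [mul_inv_cancel_left] at this
  have hQcard : Nat.card Q = 16 := by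
    let f : Bool × D → Q := fun p => ⟨if p.1 then k * (p.2 : G) else p.2, by
      split_ifs
      · exact Or.inr (by rw [inv_mul_cancel_left]; exact p.2.2)
      · exact Or.inl p.2.2⟩
    have hf : Function.Bijective f := by
      constructor
      · rintro ⟨a1, a2⟩ ⟨b1, b2⟩ e
        have e' := congrArg Subtype.val e
        simp only [f] at e'
        cases a1 <;> cases b1 <;> simp only [Bool.false_eq_true, if_true, if_false] at e'
        · exact Prod.ext rfl (Subtype.ext e')
        · refine absurd (h.hTA (hDT ?_)) hkA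
          rw [show k = (a2 : G) * (b2 : G)⁻¹ by rw [e', mul_inv_cancel_right]]
          exact mul_mem a2.2 (inv_mem b2.2)
        · refine absurd (h.hTA (hDT ?_)) hkA
          rw [show k = (b2 : G) * (a2 : G)⁻¹ by rw [← e', mul_inv_cancel_right]]
          exact mul_mem b2.2 (inv_mem a2.2)
        · exact Prod.ext rfl (Subtype.ext (mul_left_cancel e'))
      · rintro ⟨c, hc⟩
        rcases hc with hc | hc
        · exact ⟨(false, ⟨c, hc⟩), rfl⟩
        · exact ⟨(true, ⟨_, hc⟩), Subtype.ext (mul_inv_cancel_left k c)⟩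
    rw [← Nat.card_congr (Equiv.ofBijective f hf), Nat.card_prod, Nat.card_eq_fintype_card (α := Bool),
      Fintype.card_bool, hDcard]
  refine ⟨S, Q, hQS, ?_, hS ▸ huN, huQ, ?_⟩
  · have h1 := (Q.subgroupOf (S : Subgroup G)).card_mul_index
    rw [Nat.card_congr (subgroupOfEquivOfLe hQS).toEquiv, hQcard, hS, hz.cardN] at h1
    show (Q.subgroupOf (S : Subgroup G)).index = 2
    rw [hS]
    omega
  · intro x hx
    set y := x * h.u * x⁻¹ with hy
    have hy2 : y * y = 1 := by
      rw [hy, show x * h.u * x⁻¹ * (x * h.u * x⁻¹) = x * (h.u * h.u) * x⁻¹ by group, h.u_sq, mul_one, mul_inv_cancel]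
    have hy1 : y ≠ 1 := fun e => h.u_ne (conj_eq_one_iff.1 e)
    rcases hx with hyD | hyD
    swap
    · exact hkD _ hyD (by rw [mul_inv_cancel_left, hy2])
    -- the centraliser of an involution of `D` has order divisible by `32`
    have h32 : ∀ c, c = z ∨ c = v ∨ c = v * z → ∀ a : G, a * c * a⁻¹ = y → False := by
      intro c hc a ha
      have hconjz : ∃ b : G, b * z * b⁻¹ = c := by
        have hcV : c ∈ h.V := by
          rcases hc with rfl | rfl | rfl
          exacts [hz.zV, hv, mul_mem hv hz.zV]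
        have hc1 : c ≠ 1 := by
          rcases hc with rfl | rfl | rfl
          exacts [hz.z1, hv1, fun e => hvz (by
            rw [mul_eq_one_iff_eq_inv, inv_eq_of_mul_eq_one_right hz.z_sq] at e; exact e)]
        obtain ⟨p, hp, hpz⟩ := h.mem_V.1 hz.zV
        obtain ⟨q, hq, hqc⟩ := h.mem_V.1 hcV
        obtain ⟨m, hm⟩ := Invol.L33Ord.conj_fours p q (Invol.L33Ord.mem_fours.1 hp)
          (fun e => hz.z1 (by rw [← hpz, e]; exact map_one φ)) (Invol.L33Ord.mem_fours.1 hq)
          (fun e => hc1 (by rw [← hqc, e]; exact map_one φ))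
        exact ⟨φ (m, 1), by
          rw [← hpz, ← hqc, ← map_inv, ← map_mul, ← map_mul]; congr 1; exact Prod.ext hm (by simp)⟩
      obtain ⟨b, hb⟩ := hconjz
      set q := a * b with hq
      have hzq : x⁻¹ * q * z * (x⁻¹ * q)⁻¹ = h.u := by
        calc x⁻¹ * q * z * (x⁻¹ * q)⁻¹ = x⁻¹ * (a * (b * z * b⁻¹) * a⁻¹) * x := by rw [hq]; group
          _ = h.u := by rw [hb, ha, hy]; group
      have hle : (normalizer (T : Set G)).map (MulAut.conj (x⁻¹ * q)).toMonoidHom ≤ A := by
        rintro _ ⟨r, hr, rfl⟩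
        show x⁻¹ * q * r * (x⁻¹ * q)⁻¹ ∈ A
        rw [← h.cent_u, cent_iff, ← hzq]
        calc x⁻¹ * q * r * (x⁻¹ * q)⁻¹ * (x⁻¹ * q * z * (x⁻¹ * q)⁻¹) = x⁻¹ * q * (r * z) * (x⁻¹ * q)⁻¹ := by group
          _ = x⁻¹ * q * (z * r) * (x⁻¹ * q)⁻¹ := by rw [hgz r hr]
          _ = _ := by group
      have hd := card_dvd_of_le hle
      rw [card_map_of_injective (MulAut.conj (x⁻¹ * q)).injective, hz.cardN, h.cardA] at hd
      norm_num at hd
    rcases hDc y hyD with e | e | e | e | e | e | e | e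
    · exact hy1 e
    · exact h32 z (Or.inl rfl) 1 (by rw [e]; group)
    · exact h32 v (Or.inr (Or.inl rfl)) 1 (by rw [e]; group)
    · exact h32 (v * z) (Or.inr (Or.inr rfl)) 1 (by rw [e]; group)
    · exact h32 v (Or.inr (Or.inl rfl)) g (by rw [e, hw])
    · refine h32 (v * z) (Or.inr (Or.inr rfl)) g ?_
      rw [e, show g * (v * z) * g⁻¹ = g * v * g⁻¹ * (g * z * g⁻¹) by group, hz.fix_z h.hgT, hw]
    · rw [e, mul_assoc, ← mul_assoc w v w, hwv] at hy2
      refine hz.z1 ?_
      rw [mul_assoc (v * w) z w, ← hz.zT w hwT, ← mul_assoc (v * w) w z, mul_assoc v w w, hw2, mul_one,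
        ← mul_assoc, h.V_sq hv, one_mul] at hy2
      exact hy2
    · refine hz.z1 ?_
      rw [e] at hy2
      have e2 : v * w * z * (v * w * z) = z := by
        calc v * w * z * (v * w * z) = v * w * (z * v) * w * z := by group
          _ = v * w * v * (z * w) * z := by rw [← hVc v hv]; group
          _ = v * (w * v) * w * (z * z) := by rw [← hz.zT w hwT]; group
          _ = v * (v * w * z) * w := by rw [hwv, hz.z_sq, mul_one]
          _ = v * v * w * (z * w) := by group
          _ = z := by rw [h.V_sq hv, one_mul, ← hz.zT w hwT, ← mul_assoc, hw2, one_mul]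
      exact e2.symm.trans hy2

end Oct

end Cfsg.Agent.Transfer.SubThree
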