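import Cfsg.Agent.Lib.Transfer.SubThree.Shape
import Cfsg.Agent.Lib.Invol.Order5616Cent

/-!
# The two-local structure when the stabiliser is a direct product of a symmetric group and a group of order two
-/

set_option autoImplicit false
set_option linter.unusedSectionVars false
set_option linter.style.haveILetI false

namespace Cfsg.Agent.Transfer.SubThree

open Subgroup

universe u

variable {G : Type u} [Group G] [Finite G] {A T : Subgroup G}
  {φ : Equiv.Perm (Fin 4) × Multiplicative (ZMod 2) →* G} {g : G}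

/-- A two-element set description of the group of order two. -/
theorem two_cases : ∀ s : Multiplicative (ZMod 2), s = 1 ∨ s = Multiplicative.ofAdd 1 := by decide

/-- The hypotheses: the stabiliser, a Sylow subgroup of it and an element normalising the latter outside. -/
structure Oct (A T : Subgroup G) (φ : Equiv.Perm (Fin 4) × Multiplicative (ZMod 2) →* G) (g : G) : Prop where
  ctx : Ctx A
  inj : Function.Injective φ
  range : φ.range = A
  hTA : T ≤ A
  hT : Nat.card T = 16
  hgA : g ∉ A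
  hgT : g ∈ normalizer (T : Set G)

namespace Oct

/-- The central involution of the stabiliser. -/
def u (_h : Oct A T φ g) : G := φ (1, Multiplicative.ofAdd 1)

/-- The normal four-group. -/
def V (_h : Oct A T φ g) : Subgroup G :=
  Invol.L33Ord.fours.map (φ.comp (MonoidHom.inl _ _))

/-- The symmetric direct factor of the two-group. -/
def E (_h : Oct A T φ g) : Subgroup G := T ⊓ (φ.comp (MonoidHom.inl _ _)).range

variable (h : Oct A T φ g)
include h

theorem mem_A {a : G} : a ∈ A ↔ ∃ x s, φ (x, s) = a := by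
  rw [← h.range]
  exact ⟨fun ⟨⟨x, s⟩, e⟩ => ⟨x, s, e⟩, fun ⟨x, s, e⟩ => ⟨(x, s), e⟩⟩

theorem cardA : Nat.card A = 48 := by
  rw [← h.range, ← Nat.card_congr (MonoidHom.ofInjective h.inj).toEquiv, Nat.card_prod, Nat.card_perm,
    Nat.card_fin, Nat.card_eq_fintype_card (α := Multiplicative (ZMod 2)), Fintype.card_multiplicative, ZMod.card]
  rfl

theorem u_mem : h.u ∈ A := h.mem_A.2 ⟨_, _, rfl⟩

theorem u_sq : h.u * h.u = 1 := by
  rw [u, ← map_mul, ← map_one φ]; congr 1

theorem u_ne : h.u ≠ 1 := fun e => by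
  have := h.inj (e.trans (map_one φ).symm)
  exact absurd (congrArg Prod.snd this : (Multiplicative.ofAdd 1 : Multiplicative (ZMod 2)) = 1) (by decide)

theorem u_comm {a : G} (ha : a ∈ A) : a * h.u = h.u * a := by
  obtain ⟨x, s, rfl⟩ := h.mem_A.1 ha
  rw [u, ← map_mul, ← map_mul]
  congr 1
  exact Prod.ext (by simp) (mul_comm _ _)

theorem cent_u : centralizer ({h.u} : Set G) = A :=
  h.ctx.centralizer_invol h.u_mem h.u_ne fun _ ha => h.u_comm ha

theorem mem_V {v : G} : v ∈ h.V ↔ ∃ x ∈ Invol.L33Ord.fours, φ (x, 1) = v := Iff.rfl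

theorem V_le : h.V ≤ A := by
  rintro _ ⟨x, -, rfl⟩
  exact h.mem_A.2 ⟨_, _, rfl⟩

theorem cardV : Nat.card h.V = 4 := by
  rw [V, card_map_of_injective, Invol.L33Ord.card_fours]
  exact h.inj.comp fun a b e => congrArg Prod.fst e

theorem V_sq {v : G} (hv : v ∈ h.V) : v * v = 1 := by
  obtain ⟨x, hx, rfl⟩ := h.mem_V.1 hv
  rw [← map_mul, ← map_one φ]
  congr 1
  exact Prod.ext (Invol.L33Ord.mem_fours.1 hx).1 (one_mul 1)

theorem V_ne : h.V ≠ ⊥ := fun e => by
  have := h.cardV; rw [e, card_bot] at this; omega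

theorem u_not_V : h.u ∉ h.V := fun e => by
  obtain ⟨x, -, hx⟩ := h.mem_V.1 e
  have hh : (1 : Multiplicative (ZMod 2)) = Multiplicative.ofAdd 1 := congrArg Prod.snd (h.inj hx)
  exact absurd hh (by decide)

theorem conj_V {a v : G} (ha : a ∈ A) (hv : v ∈ h.V) : a * v * a⁻¹ ∈ h.V := by
  obtain ⟨x, s, rfl⟩ := h.mem_A.1 ha
  obtain ⟨y, hy, rfl⟩ := h.mem_V.1 hv
  refine h.mem_V.2 ⟨x * y * x⁻¹, (inferInstance : Invol.L33Ord.fours.Normal).conj_mem y hy x, ?_⟩
  rw [← map_inv, ← map_mul, ← map_mul]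
  congr 1
  exact Prod.ext rfl (by simp)

theorem le_normalizer_V : A ≤ normalizer (h.V : Set G) :=
  le_normalizer_of_conj fun _ ha _ hv => h.conj_V ha hv

theorem normalizer_V : normalizer (h.V : Set G) = A :=
  h.ctx.normalizer_eq h.le_normalizer_V h.V_le h.V_ne

theorem cent_V {c : G} (hc : ∀ w ∈ h.V, c * w = w * c) : c ∈ h.V ∨ c * h.u ∈ h.V := by
  have hcA : c ∈ A := h.ctx.centralizer_le h.le_normalizer_V h.V_le h.V_ne
    (mem_centralizer_iff.2 fun w hw => (hc w hw).symm)
  obtain ⟨x, s, rfl⟩ := h.mem_A.1 hcA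
  have hx : x ∈ Invol.L33Ord.fours := Invol.L33Ord.mem_fours.2 (Invol.L33Ord.cent_fours x fun v hv => by
    have := h.inj ((map_mul φ _ _).trans ((hc _ (h.mem_V.2 ⟨v, Invol.L33Ord.mem_fours.2 hv, rfl⟩)).trans
      (map_mul φ _ _).symm))
    exact congrArg Prod.fst this)
  rcases two_cases s with rfl | rfl
  · exact Or.inl (h.mem_V.2 ⟨x, hx, rfl⟩)
  · refine Or.inr (h.mem_V.2 ⟨x, hx, ?_⟩)
    rw [u, ← map_mul]
    congr 1
    exact Prod.ext (mul_one x).symm
      (by decide : (1 : Multiplicative (ZMod 2)) = Multiplicative.ofAdd 1 * Multiplicative.ofAdd 1)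

/-- The four-group times the central involution. -/
def F : Subgroup G where
  carrier := {c | c ∈ h.V ∨ c * h.u ∈ h.V}
  one_mem' := Or.inl (one_mem _)
  mul_mem' := by
    intro a b ha hb
    simp only [Set.mem_setOf_eq] at ha hb ⊢
    have hcu : ∀ x ∈ h.V, x * h.u = h.u * x := fun x hx => h.u_comm (h.V_le hx)
    rcases ha with ha | ha <;> rcases hb with hb | hb
    · exact Or.inl (mul_mem ha hb)
    · exact Or.inr (by rw [mul_assoc]; exact mul_mem ha hb)
    · exact Or.inr (by rw [mul_assoc, hcu b hb, ← mul_assoc]; exact mul_mem ha hb)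
    · refine Or.inl ?_
      have h2 := mul_mem ha hb
      rwa [mul_assoc, ← hcu (b * h.u) hb, mul_assoc b, h.u_sq, mul_one] at h2
  inv_mem' := by
    intro a ha
    simp only [Set.mem_setOf_eq] at ha ⊢
    rcases ha with ha | ha
    · exact Or.inl (inv_mem ha)
    · refine Or.inr ?_
      have h2 : (a * h.u) * h.u = h.u * (a * h.u) := h.u_comm (h.V_le ha)
      rw [← mul_assoc h.u a h.u] at h2
      have e := mul_right_cancel h2
      have h3 := inv_mem ha
      rwa [e, mul_inv_rev, inv_eq_of_mul_eq_one_right h.u_sq] at h3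

theorem mem_F {c : G} : c ∈ h.F ↔ c ∈ h.V ∨ c * h.u ∈ h.V := Iff.rfl

theorem V_le_F : h.V ≤ h.F := fun _ hv => Or.inl hv

theorem u_mem_F : h.u ∈ h.F := Or.inr (by rw [h.u_sq]; exact one_mem _)

theorem F_le : h.F ≤ A := by
  rintro c (hc | hc)
  · exact h.V_le hc
  · have := mul_mem (h.V_le hc) h.u_mem
    rwa [mul_assoc, h.u_sq, mul_one] at this

theorem conj_F {a c : G} (ha : a ∈ A) (hc : c ∈ h.F) : a * c * a⁻¹ ∈ h.F := by
  rcases hc with hc | hc
  · exact Or.inl (h.conj_V ha hc)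
  · refine Or.inr ?_
    have e : a * c * a⁻¹ * h.u = a * (c * h.u) * a⁻¹ := by
      rw [mul_assoc (a * c), h.u_comm (inv_mem ha), ← mul_assoc (a * c), mul_assoc a c]
    rw [e]
    exact h.conj_V ha hc

theorem cardF : Nat.card h.F = 8 := by
  let f : Bool × h.V → h.F := fun p => ⟨if p.1 then (p.2 : G) * h.u else p.2, by
    split_ifs
    · exact Or.inr (by rw [mul_assoc, h.u_sq, mul_one]; exact p.2.2)
    · exact Or.inl p.2.2⟩
  have hf : Function.Bijective f := by
    constructor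
    · rintro ⟨a1, a2⟩ ⟨b1, b2⟩ e
      have e' := congrArg Subtype.val e
      simp only [f] at e'
      cases a1 <;> cases b1 <;> simp only [Bool.false_eq_true, if_true, if_false] at e'
      · exact Prod.ext rfl (Subtype.ext e')
      · refine absurd ?_ h.u_not_V
        rw [show h.u = (b2 : G)⁻¹ * a2 by rw [e', inv_mul_cancel_left]]
        exact mul_mem (inv_mem b2.2) a2.2
      · refine absurd ?_ h.u_not_V
        rw [show h.u = (a2 : G)⁻¹ * b2 by rw [← e', inv_mul_cancel_left]]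
        exact mul_mem (inv_mem a2.2) b2.2
      · exact Prod.ext rfl (Subtype.ext (mul_right_cancel e'))
    · rintro ⟨c, hc⟩
      rcases hc with hc | hc
      · exact ⟨(false, ⟨c, hc⟩), rfl⟩
      · exact ⟨(true, ⟨_, hc⟩), Subtype.ext (by
          show c * h.u * h.u = c
          rw [mul_assoc, h.u_sq, mul_one])⟩
  rw [← Nat.card_congr (Equiv.ofBijective f hf), Nat.card_prod, Nat.card_eq_fintype_card (α := Bool),
    Fintype.card_bool, h.cardV]

theorem F_sq {c : G} (hc : c ∈ h.F) : c * c = 1 := by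
  rcases hc with hc | hc
  · exact h.V_sq hc
  · have h2 := h.V_sq hc
    have hcu : c * h.u = h.u * c := h.u_comm (h.F_le (Or.inr hc))
    rwa [mul_assoc, ← mul_assoc h.u c, ← hcu, mul_assoc c h.u, h.u_sq, mul_one] at h2

theorem normalizer_F : normalizer (h.F : Set G) = A :=
  h.ctx.normalizer_eq (le_normalizer_of_conj fun _ ha _ hc => h.conj_F ha hc) h.F_le
    (fun e => by have := h.cardF; rw [e, card_bot] at this; omega)

theorem isPGroup_T : IsPGroup 2 T := IsPGroup.of_card (n := 4) (by rw [h.hT]; norm_num)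

theorem F_le_T : h.F ≤ T := by
  haveI : Fact (Nat.Prime 2) := ⟨Nat.prime_two⟩
  have hsup : IsPGroup 2 ↥(T ⊔ h.F) := h.isPGroup_T.to_sup_of_normal_right'
    (IsPGroup.of_card (n := 3) (by rw [h.cardF]; norm_num))
    (h.hTA.trans (le_normalizer_of_conj fun _ ha _ hc => h.conj_F ha hc))
  obtain ⟨k, hk⟩ := IsPGroup.iff_card.1 hsup
  have hd : 2 ^ k ∣ 48 := hk ▸ h.cardA ▸ card_dvd_of_le (sup_le h.hTA h.F_le)
  have : k ≤ 4 := by
    by_contra hh
    exact absurd ((pow_dvd_pow 2 (by omega : 5 ≤ k)).trans hd) (by norm_num)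
  have heq := eq_of_le_of_card_ge (le_sup_left : T ≤ T ⊔ h.F)
    (by rw [hk, h.hT]; exact le_trans (Nat.pow_le_pow_right two_pos this) (by norm_num))
  exact le_sup_right.trans heq.ge

theorem u_mem_T : h.u ∈ T := h.F_le_T h.u_mem_F

theorem T_split {w : G} (hw : w ∈ T) : w ∈ h.E ∨ w * h.u ∈ h.E := by
  obtain ⟨x, s, rfl⟩ := h.mem_A.1 (h.hTA hw)
  rcases two_cases s with rfl | rfl
  · exact Or.inl ⟨hw, x, rfl⟩
  · refine Or.inr ⟨mul_mem hw h.u_mem_T, x, ?_⟩
    show φ (x, 1) = _
    rw [u, ← map_mul]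
    congr 1
    exact Prod.ext (mul_one x).symm
      (by decide : (1 : Multiplicative (ZMod 2)) = Multiplicative.ofAdd 1 * Multiplicative.ofAdd 1)

theorem u_not_E : h.u ∉ h.E := fun hu => by
  obtain ⟨x, hx⟩ := hu.2
  have hh : (1 : Multiplicative (ZMod 2)) = Multiplicative.ofAdd 1 := congrArg Prod.snd (h.inj hx)
  exact absurd hh (by decide)

theorem cardE : Nat.card h.E = 8 := by
  let f : Bool × h.E → T := fun p => ⟨if p.1 then (p.2 : G) * h.u else p.2, by
    split_ifs
    · exact mul_mem p.2.2.1 h.u_mem_T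
    · exact p.2.2.1⟩
  have hf : Function.Bijective f := by
    constructor
    · rintro ⟨a1, a2⟩ ⟨b1, b2⟩ e
      have e' := congrArg Subtype.val e
      simp only [f] at e'
      cases a1 <;> cases b1 <;> simp only [Bool.false_eq_true, if_true, if_false] at e'
      · exact Prod.ext rfl (Subtype.ext e')
      · refine absurd ?_ h.u_not_E
        rw [show h.u = (b2 : G)⁻¹ * a2 by rw [e', inv_mul_cancel_left]]
        exact mul_mem (inv_mem b2.2) a2.2
      · refine absurd ?_ h.u_not_E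
        rw [show h.u = (a2 : G)⁻¹ * b2 by rw [← e', inv_mul_cancel_left]]
        exact mul_mem (inv_mem a2.2) b2.2
      · exact Prod.ext rfl (Subtype.ext (mul_right_cancel e'))
    · rintro ⟨c, hc⟩
      rcases h.T_split hc with hc' | hc'
      · exact ⟨(false, ⟨c, hc'⟩), rfl⟩
      · exact ⟨(true, ⟨_, hc'⟩), Subtype.ext (by
          show c * h.u * h.u = c
          rw [mul_assoc, h.u_sq, mul_one])⟩
  have := Nat.card_congr (Equiv.ofBijective f hf)
  rw [Nat.card_prod, Nat.card_eq_fintype_card (α := Bool), Fintype.card_bool, h.hT] at this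
  omega

theorem V_le_E : h.V ≤ h.E := by
  rintro _ ⟨x, hx, rfl⟩
  exact ⟨h.F_le_T (h.V_le_F ⟨x, hx, rfl⟩), x, rfl⟩

theorem cent_E {s : G} (hs : s ∈ h.E) (hc : ∀ w ∈ h.V, s * w = w * s) : s ∈ h.V := by
  rcases h.cent_V hc with hsV | hsV
  · exact hsV
  · refine absurd ?_ h.u_not_E
    have := mul_mem (inv_mem hs) (h.V_le_E hsV)
    rwa [inv_mul_cancel_left] at this

theorem isPGroup_E : IsPGroup 2 h.E := h.isPGroup_T.to_le inf_le_left

theorem exists_z : ∃ z ∈ h.V, z ≠ 1 ∧ (∀ t ∈ T, t * z = z * t) ∧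
    (∀ w ∈ h.E, (∀ s ∈ h.E, s * w = w * s) → w = 1 ∨ w = z) ∧
    ∀ v ∈ h.V, v ≠ 1 → v ≠ z → ∀ s ∈ h.E, s * v = v * s → s ∈ h.V := by
  obtain ⟨z, hzV, hz1, hzE, hzu, hc⟩ := cent_four h.isPGroup_E h.cardV h.V_le_E (fun v hv => h.V_sq hv)
    (fun s hs hc => h.cent_E hs hc) (by rw [h.cardE]; norm_num)
  refine ⟨z, hzV, hz1, fun t ht => ?_, hzu, hc⟩
  rcases h.T_split ht with ht' | ht'
  · exact hzE t ht'
  · have h1 := hzE _ ht'
    have h2 : h.u * z = z * h.u := (h.u_comm (h.V_le hzV)).symm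
    rw [mul_assoc, h2, ← mul_assoc, ← mul_assoc] at h1
    exact mul_right_cancel h1

end Oct

end Cfsg.Agent.Transfer.SubThree
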