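import Cfsg.Agent.Lib.Transfer.SubThree.FortyEightLocal

/-!
# The Sylow 2-subgroup when the stabiliser is a direct product of a symmetric group and a group of order two
-/

set_option autoImplicit false
set_option linter.unusedSectionVars false
set_option linter.style.haveILetI false

namespace Cfsg.Agent.Transfer.SubThree

open Subgroup

universe u

variable {G : Type u} [Group G] [Finite G] {A T : Subgroup G}
  {φ : Equiv.Perm (Fin 4) × Multiplicative (ZMod 2) →* G} {g z : G}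

namespace Oct

/-- The central involution of the symmetric factor of the two-group. -/
structure Zed (h : Oct A T φ g) (z : G) : Prop where
  zV : z ∈ h.V
  z1 : z ≠ 1
  zT : ∀ t ∈ T, t * z = z * t
  uniq : ∀ w ∈ h.E, (∀ s ∈ h.E, s * w = w * s) → w = 1 ∨ w = z
  cent : ∀ v ∈ h.V, v ≠ 1 → v ≠ z → ∀ s ∈ h.E, s * v = v * s → s ∈ h.V

theorem exists_zed (h : Oct A T φ g) : ∃ z, h.Zed z := by
  obtain ⟨z, a, b, c, d, e⟩ := h.exists_z
  exact ⟨z, a, b, c, d, e⟩

variable {h : Oct A T φ g} (hz : h.Zed z)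
include hz

theorem Zed.z_mem : z ∈ T := (h.V_le_E hz.zV).1

theorem Zed.z_sq : z * z = 1 := h.V_sq hz.zV

theorem Zed.z_ne_u : z ≠ h.u := fun e => h.u_not_V (e ▸ hz.zV)

theorem Zed.center_T {w : G} (hw : w ∈ T) (hc : ∀ t ∈ T, t * w = w * t) :
    w = 1 ∨ w = z ∨ w = h.u ∨ w = z * h.u := by
  rcases h.T_split hw with hw' | hw'
  · rcases hz.uniq w hw' fun s hs => hc s hs.1 with e | e
    exacts [Or.inl e, Or.inr (Or.inl e)]
  · have hcu : ∀ s ∈ h.E, s * (w * h.u) = w * h.u * s := fun s hs => by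
      rw [← mul_assoc, hc s hs.1, mul_assoc, h.u_comm (h.hTA hs.1), ← mul_assoc]
    rcases hz.uniq _ hw' hcu with e | e
    · exact Or.inr (Or.inr (Or.inl (by rw [← mul_right_cancel (e.trans h.u_sq.symm)])))
    · exact Or.inr (Or.inr (Or.inr (by rw [← e, mul_assoc, h.u_sq, mul_one])))

theorem Zed.sq_E {s : G} (hs : s ∈ h.E) : s * s = 1 ∨ s * s = z := by
  have hidx : (h.V.subgroupOf h.E).index = 2 := by
    have h1 := (h.V.subgroupOf h.E).card_mul_index
    rw [Nat.card_congr (subgroupOfEquivOfLe h.V_le_E).toEquiv, h.cardV, h.cardE] at h1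
    omega
  have hsV : s * s ∈ h.V :=
    mem_subgroupOf.1 (Subgroup.mul_self_mem_of_index_two hidx (⟨s, hs⟩ : h.E))
  by_cases hsv : s ∈ h.V
  · exact Or.inl (h.V_sq hsv)
  refine hz.uniq _ (h.V_le_E hsV) fun x hx => ?_
  -- every element is in the four-group or in the coset of `s`
  by_cases hxV : x ∈ h.V
  · exact mul_comm_of_sq (fun v hv => h.V_sq hv) hxV hsV
  · have hxs : x * s ∈ h.V := mem_subgroupOf.1
      ((Subgroup.mul_mem_iff_of_index_two hidx (a := (⟨x, hx⟩ : h.E)) (b := ⟨s, hs⟩)).2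
        (iff_of_false (fun e => hxV (mem_subgroupOf.1 e)) (fun e => hsv (mem_subgroupOf.1 e))))
    have hcomm : x * s * (s * s) = s * s * (x * s) := mul_comm_of_sq (fun v hv => h.V_sq hv) hxs hsV
    calc x * (s * s) = x * s * (s * s) * s⁻¹ := by group
      _ = s * s * (x * s) * s⁻¹ := by rw [hcomm]
      _ = s * s * x := by group

theorem Zed.exists_sq : ∃ s ∈ T, s * s = z := by
  by_contra hno
  push Not at hno
  have h1 : ∀ s ∈ h.E, s * s = 1 := fun s hs => (hz.sq_E hs).resolve_right (hno s hs.1)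
  have hle : h.E ≤ h.V := fun s hs => h.cent_E hs fun w hw => mul_comm_of_sq h1 hs (h.V_le_E hw)
  have := card_le_of_le hle
  rw [h.cardE, h.cardV] at this
  omega

theorem Zed.sq_T {t : G} (ht : t ∈ T) : t * t = 1 ∨ t * t = z := by
  rcases h.T_split ht with ht' | ht'
  · exact hz.sq_E ht'
  · have e : t * h.u * (t * h.u) = t * t := by
      rw [mul_assoc, ← mul_assoc h.u t, ← h.u_comm (h.hTA ht), mul_assoc t h.u h.u, h.u_sq, mul_one]
    rw [← e]
    exact hz.sq_E ht'

theorem Zed.outside_E {a b : G} (ha : a ∈ h.E) (hb : b ∈ h.E) (haV : a ∉ h.V) (hbV : b ∉ h.V)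
    (ha2 : a * a = 1) (hb2 : b * b = 1) : b = a ∨ b = a * z := by
  have hidx : (h.V.subgroupOf h.E).index = 2 := by
    have h1 := (h.V.subgroupOf h.E).card_mul_index
    rw [Nat.card_congr (subgroupOfEquivOfLe h.V_le_E).toEquiv, h.cardV, h.cardE] at h1
    omega
  have hab : a * b ∈ h.V := mem_subgroupOf.1
      ((Subgroup.mul_mem_iff_of_index_two hidx (a := (⟨a, ha⟩ : h.E)) (b := ⟨b, hb⟩)).2
        (iff_of_false (fun e => haV (mem_subgroupOf.1 e)) (fun e => hbV (mem_subgroupOf.1 e))))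
  have hba : b * a = a * b := by
    have h2 := h.V_sq hab
    calc b * a = a⁻¹ * ((a * b) * (a * b)) * b⁻¹ := by group
      _ = a * b := by rw [h2, mul_one, inv_eq_of_mul_eq_one_right ha2, inv_eq_of_mul_eq_one_right hb2]
  have hcen : ∀ s ∈ h.E, s * (a * b) = a * b * s := by
    intro s hs
    by_cases hsV : s ∈ h.V
    · exact mul_comm_of_sq (fun v hv => h.V_sq hv) hsV hab
    · have hsa : s * a ∈ h.V := mem_subgroupOf.1
        ((Subgroup.mul_mem_iff_of_index_two hidx (a := (⟨s, hs⟩ : h.E)) (b := ⟨a, ha⟩)).2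
          (iff_of_false (fun e => hsV (mem_subgroupOf.1 e)) (fun e => haV (mem_subgroupOf.1 e))))
      have hc : s * a * (a * b) = a * b * (s * a) := mul_comm_of_sq (fun v hv => h.V_sq hv) hsa hab
      calc s * (a * b) = s * a * (a * b) * a⁻¹ := by
            rw [inv_eq_of_mul_eq_one_right ha2, mul_assoc (s * a), mul_assoc a b a, hba, ← mul_assoc a a b, ha2, one_mul,
              mul_assoc]
        _ = a * b * (s * a) * a⁻¹ := by rw [hc]
        _ = a * b * s := by group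
  rcases hz.uniq _ (h.V_le_E hab) hcen with e | e
  · exact Or.inl (mul_left_cancel (e.trans ha2.symm))
  · exact Or.inr (mul_left_cancel (a := a) (by rw [e, ← mul_assoc, ha2, one_mul]))

theorem Zed.outside_T {a b : G} (ha : a ∈ T) (hb : b ∈ T) (haF : a ∉ h.F) (hbF : b ∉ h.F)
    (ha2 : a * a = 1) (hb2 : b * b = 1) :
    b = a ∨ b = a * z ∨ b = a * h.u ∨ b = a * z * h.u := by
  have norm : ∀ c ∈ T, c ∉ h.F → c * c = 1 →
      ∃ c₀ ∈ h.E, c₀ ∉ h.V ∧ c₀ * c₀ = 1 ∧ (c = c₀ ∨ c = c₀ * h.u) := by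
    intro c hc hcF hc2
    rcases h.T_split hc with hc' | hc'
    · exact ⟨c, hc', fun e => hcF (h.V_le_F e), hc2, Or.inl rfl⟩
    · refine ⟨_, hc', fun e => hcF (Or.inr e), ?_, Or.inr ?_⟩
      · rw [mul_assoc, ← mul_assoc h.u c, ← h.u_comm (h.hTA hc), mul_assoc c h.u h.u, h.u_sq, mul_one, hc2]
      · rw [mul_assoc, h.u_sq, mul_one]
  obtain ⟨a₀, ha0, ha0V, ha02, hae⟩ := norm a ha haF ha2
  obtain ⟨b₀, hb0, hb0V, hb02, hbe⟩ := norm b hb hbF hb2
  have hzu : ∀ c : G, c * h.u * h.u = c := fun c => by rw [mul_assoc, h.u_sq, mul_one]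
  have huz : ∀ c : G, c * h.u * z = c * z * h.u := fun c => by
    rw [mul_assoc, (h.u_comm (h.V_le hz.zV)).symm, ← mul_assoc]
  rcases hz.outside_E ha0 hb0 ha0V hb0V ha02 hb02 with e | e <;> rcases hae with rfl | rfl <;>
    rcases hbe with rfl | rfl <;> rw [e]
  · exact Or.inl rfl
  · exact Or.inr (Or.inr (Or.inl rfl))
  · exact Or.inr (Or.inr (Or.inl (hzu _).symm))
  · exact Or.inl rfl
  · exact Or.inr (Or.inl rfl)
  · exact Or.inr (Or.inr (Or.inr rfl))
  · exact Or.inr (Or.inr (Or.inr (by rw [huz, hzu])))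
  · exact Or.inr (Or.inl (huz _).symm)

theorem Zed.inf_normalizer : A ⊓ normalizer (T : Set G) = T := by
  refine (eq_of_le_of_card_ge (le_inf h.hTA le_normalizer) ?_).symm
  have hd1 : 16 ∣ Nat.card ↥(A ⊓ normalizer (T : Set G)) := h.hT ▸ card_dvd_of_le (le_inf h.hTA le_normalizer)
  have hd2 : Nat.card ↥(A ⊓ normalizer (T : Set G)) ∣ 48 := h.cardA ▸ card_dvd_of_le inf_le_left
  obtain ⟨m, hm⟩ := hd1
  rw [h.hT, hm]
  by_contra hh
  have hle := Nat.le_of_dvd (by norm_num) hd2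
  rw [hm] at hle hd2
  have : m ≤ 3 := by omega
  interval_cases m
  · omega
  · omega
  · norm_num at hd2
  · have hA : A ≤ normalizer (T : Set G) :=
      (eq_of_le_of_card_ge inf_le_left (by rw [hm, h.cardA])).symm.le.trans inf_le_right
    have hN := h.ctx.normalizer_eq hA h.hTA fun e => by have := h.hT; rw [e, card_bot] at this; omega
    exact h.hgA (hN ▸ h.hgT)

theorem Zed.fix_z {x : G} (hx : x ∈ normalizer (T : Set G)) : x * z * x⁻¹ = z := by
  obtain ⟨s, hs, hsz⟩ := hz.exists_sq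
  have h1 : x * s * x⁻¹ ∈ T := conj_mem hx hs
  rw [← hsz, show x * (s * s) * x⁻¹ = x * s * x⁻¹ * (x * s * x⁻¹) by group]
  refine (hz.sq_T h1).resolve_left (fun e => hz.z1 ?_) |>.trans hsz.symm
  rw [show x * s * x⁻¹ * (x * s * x⁻¹) = x * (s * s) * x⁻¹ by group, hsz] at e
  exact conj_eq_one_iff.1 e

theorem Zed.conj_u_cases {x : G} (hx : x ∈ normalizer (T : Set G)) :
    x * h.u * x⁻¹ = h.u ∨ x * h.u * x⁻¹ = z * h.u := by
  have hm : x * h.u * x⁻¹ ∈ T := conj_mem hx h.u_mem_T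
  have hc : ∀ t ∈ T, t * (x * h.u * x⁻¹) = x * h.u * x⁻¹ * t := by
    intro t ht
    have ht' : x⁻¹ * t * x ∈ T := by simpa using conj_mem (inv_mem hx) ht
    calc t * (x * h.u * x⁻¹) = x * (x⁻¹ * t * x * h.u) * x⁻¹ := by group
      _ = x * (h.u * (x⁻¹ * t * x)) * x⁻¹ := by rw [h.u_comm (h.hTA ht')]
      _ = x * h.u * x⁻¹ * t := by group
  rcases hz.center_T hm hc with e | e | e | e
  · exact absurd (conj_eq_one_iff.1 e) h.u_ne
  · refine absurd ?_ hz.z_ne_u
    have h2 := hz.fix_z (inv_mem hx)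
    rw [inv_inv] at h2
    rw [← h2, ← e]
    group
  · exact Or.inl e
  · exact Or.inr e

theorem Zed.fix_u {x : G} (hx : x ∈ normalizer (T : Set G)) (hu : x * h.u * x⁻¹ = h.u) : x ∈ T := by
  rw [← hz.inf_normalizer]
  exact ⟨h.cent_u ▸ cent_iff.2 (mul_inv_eq_iff_eq_mul.1 hu), hx⟩

theorem Zed.g_u : g * h.u * g⁻¹ = z * h.u :=
  (hz.conj_u_cases h.hgT).resolve_left fun e => h.hgA (h.hTA (hz.fix_u h.hgT e))

theorem Zed.split_N {x : G} (hx : x ∈ normalizer (T : Set G)) : x ∈ T ∨ g⁻¹ * x ∈ T := by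
  rcases hz.conj_u_cases hx with e | e
  · exact Or.inl (hz.fix_u hx e)
  · refine Or.inr (hz.fix_u (mul_mem (inv_mem h.hgT) hx) ?_)
    rw [show g⁻¹ * x * h.u * (g⁻¹ * x)⁻¹ = g⁻¹ * (x * h.u * x⁻¹) * g by group, e, ← hz.g_u]
    group

theorem Zed.cardN : Nat.card (normalizer (T : Set G)) = 32 := by
  let f : Bool × T → normalizer (T : Set G) := fun p => ⟨if p.1 then g * (p.2 : G) else p.2, by
    split_ifs
    · exact mul_mem h.hgT (le_normalizer p.2.2)
    · exact le_normalizer p.2.2⟩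
  have hf : Function.Bijective f := by
    constructor
    · rintro ⟨a1, a2⟩ ⟨b1, b2⟩ e
      have e' := congrArg Subtype.val e
      simp only [f] at e'
      cases a1 <;> cases b1 <;> simp only [Bool.false_eq_true, if_true, if_false] at e'
      · exact Prod.ext rfl (Subtype.ext e')
      · refine absurd (h.hTA ?_) h.hgA
        rw [show g = (a2 : G) * (b2 : G)⁻¹ by rw [e', mul_inv_cancel_right]]
        exact mul_mem a2.2 (inv_mem b2.2)
      · refine absurd (h.hTA ?_) h.hgA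
        rw [show g = (b2 : G) * (a2 : G)⁻¹ by rw [← e', mul_inv_cancel_right]]
        exact mul_mem b2.2 (inv_mem a2.2)
      · exact Prod.ext rfl (Subtype.ext (mul_left_cancel e'))
    · rintro ⟨c, hc⟩
      rcases hz.split_N hc with hc' | hc'
      · exact ⟨(false, ⟨c, hc'⟩), rfl⟩
      · exact ⟨(true, ⟨_, hc'⟩), Subtype.ext (mul_inv_cancel_left g c)⟩
  rw [← Nat.card_congr (Equiv.ofBijective f hf), Nat.card_prod, Nat.card_eq_fintype_card (α := Bool),
    Fintype.card_bool, h.hT]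

omit hz in
theorem mem_F_cases {v : G} (hv : v ∈ h.V) (hv1 : v ≠ 1) (hz : h.Zed z) (hvz : v ≠ z) {c : G} (hc : c ∈ h.V) :
    c = 1 ∨ c = z ∨ c = v ∨ c = v * z := by
  classical
  by_contra hno
  push Not at hno
  letI := Fintype.ofFinite h.V
  have hvz1 : v * z ≠ 1 := fun e => hvz (by
    rw [mul_eq_one_iff_eq_inv, inv_eq_of_mul_eq_one_right hz.z_sq] at e; exact e)
  have hs : ({1, z, v, v * z, c} : Finset G).card = 5 := by
    rw [Finset.card_insert_of_notMem, Finset.card_insert_of_notMem, Finset.card_insert_of_notMem,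
      Finset.card_insert_of_notMem, Finset.card_singleton] <;>
      simp [hz.z1, hz.z1.symm, hv1, hv1.symm, hvz, hvz.symm, hvz1.symm, hno.1.symm, hno.2.1.symm,
        hno.2.2.1.symm, hno.2.2.2.symm]
  have hsub : ({1, z, v, v * z, c} : Finset G) ⊆ (h.V : Set G).toFinset := by
    intro a ha
    simp only [Finset.mem_insert, Finset.mem_singleton] at ha
    rw [Set.mem_toFinset]
    rcases ha with rfl | rfl | rfl | rfl | rfl
    exacts [one_mem _, hz.zV, hv, mul_mem hv hz.zV, hc]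
  have := Finset.card_le_card hsub
  rw [hs, Set.toFinset_card, ← Nat.card_eq_fintype_card] at this
  change 5 ≤ Nat.card h.V at this
  rw [h.cardV] at this
  omega

omit hz in
theorem exists_v (hz : h.Zed z) : ∃ v ∈ h.V, v ≠ 1 ∧ v ≠ z := by
  by_contra hno
  push Not at hno
  have hle : (h.V : Set G) ⊆ {1, z} := fun w hw => (em (w = 1)).imp id fun h1 => hno w hw h1
  have := Set.ncard_le_ncard hle (Set.toFinite _)
  rw [← Nat.card_coe_set_eq, Set.ncard_pair hz.z1.symm] at this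
  change Nat.card h.V ≤ 2 at this
  rw [h.cardV] at this
  omega

/-- An element outside the stabiliser moves a non-central element of the four-group out of `F`. -/
theorem Zed.moved {x v : G} (hx : x ∈ normalizer (T : Set G)) (hxA : x ∉ A) (hv : v ∈ h.V) (hv1 : v ≠ 1)
    (hvz : v ≠ z) : x * v * x⁻¹ ∉ h.F := by
  intro hm
  have hxu : x * h.u * x⁻¹ ∈ h.F := by
    rcases hz.conj_u_cases hx with e | e <;> rw [e]
    · exact h.u_mem_F
    · exact mul_mem (h.V_le_F hz.zV) h.u_mem_F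
  have hxz : x * z * x⁻¹ ∈ h.F := by rw [hz.fix_z hx]; exact h.V_le_F hz.zV
  have hV : ∀ c ∈ h.V, x * c * x⁻¹ ∈ h.F := by
    intro c hc
    rcases mem_F_cases hv hv1 hz hvz hc with rfl | rfl | rfl | rfl
    · simp
    · exact hxz
    · exact hm
    · rw [show x * (v * z) * x⁻¹ = x * v * x⁻¹ * (x * z * x⁻¹) by group]
      exact mul_mem hm hxz
  have hmap : h.F.map (MulAut.conj x).toMonoidHom ≤ h.F := by
    rintro _ ⟨c, hc, rfl⟩
    show x * c * x⁻¹ ∈ h.F
    rcases hc with hc | hc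
    · exact hV c hc
    · rw [show x * c * x⁻¹ = x * (c * h.u) * x⁻¹ * (x * h.u * x⁻¹)⁻¹ by group]
      exact mul_mem (hV _ hc) (inv_mem hxu)
  refine hxA ?_
  rw [← h.normalizer_F]
  have heq : h.F.map (MulAut.conj x).toMonoidHom = h.F := eq_of_le_of_card_ge hmap
    (by rw [card_map_of_injective (MulAut.conj x).injective])
  rw [mem_normalizer_iff]
  intro c
  refine ⟨fun hc => hmap ⟨c, hc, rfl⟩, fun hc => ?_⟩
  rw [← heq] at hc
  obtain ⟨d, hd, e⟩ := hc
  rwa [← (MulAut.conj x).injective e]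

/-- The normaliser of `T` is a Sylow subgroup. -/
theorem Zed.exists_sylow : ∃ S : Sylow 2 G, (S : Subgroup G) = normalizer (T : Set G) := by
  haveI : Fact (Nat.Prime 2) := ⟨Nat.prime_two⟩
  set R := normalizer (T : Set G) with hR
  have hRp : IsPGroup 2 R := IsPGroup.of_card (n := 5) (by rw [hR, hz.cardN]; norm_num)
  obtain ⟨S, hS⟩ := hRp.exists_le_sylow
  refine ⟨S, le_antisymm ?_ hS⟩
  by_contra hle
  haveI : Group.IsNilpotent (S : Subgroup G) := S.2.isNilpotent
  have hlt : R.subgroupOf (S : Subgroup G) < ⊤ := lt_top_iff_ne_top.2 fun e => hle fun s hs => by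
    have : (⟨s, hs⟩ : (S : Subgroup G)) ∈ R.subgroupOf (S : Subgroup G) := e ▸ mem_top _
    exact mem_subgroupOf.1 this
  obtain ⟨⟨x, hxS⟩, hx, hxR⟩ := SetLike.exists_of_lt (Group.normalizerCondition_of_isNilpotent _ hlt)
  refine hxR (mem_subgroupOf.2 ?_)
  have hx1 : ∀ r ∈ R, x * r * x⁻¹ ∈ R := fun r hr =>
    mem_subgroupOf.1 ((mem_normalizer_iff.1 hx ⟨r, hS hr⟩).1 (mem_subgroupOf.2 hr))
  have hx2 : ∀ r ∈ R, x⁻¹ * r * x ∈ R := fun r hr => by
    simpa using mem_subgroupOf.1 ((mem_normalizer_iff.1 (inv_mem hx) ⟨r, hS hr⟩).1 (mem_subgroupOf.2 hr))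
  have hzR : ∀ r ∈ R, r * z = z * r := fun r hr => mul_inv_eq_iff_eq_mul.1 (hz.fix_z hr)
  have hxz : x * z * x⁻¹ = z := by
    set z' := x * z * x⁻¹
    have hzc : ∀ r ∈ R, r * z' = z' * r := fun r hr => by
      calc r * (x * z * x⁻¹) = x * (x⁻¹ * r * x * z) * x⁻¹ := by group
        _ = x * (z * (x⁻¹ * r * x)) * x⁻¹ := by rw [hzR _ (hx2 r hr)]
        _ = x * z * x⁻¹ * r := by group
    have hz'R : z' ∈ R := hx1 z (le_normalizer hz.z_mem)
    have hz'T : z' ∈ T := hz.fix_u hz'R (mul_inv_eq_iff_eq_mul.2 (hzc h.u (le_normalizer h.u_mem_T)).symm)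
    have hgne : g * h.u ≠ h.u * g := fun e => h.hgA (h.cent_u ▸ cent_iff.2 e)
    rcases hz.center_T hz'T (fun t ht => hzc t (le_normalizer ht)) with e | e | e | e
    · exact absurd (conj_eq_one_iff.1 e) hz.z1
    · exact e
    · exact absurd (e ▸ hzc g h.hgT) hgne
    · refine absurd ?_ hgne
      have e1 := e ▸ hzc g h.hgT
      rw [← mul_assoc, hzR g h.hgT, mul_assoc, mul_assoc] at e1
      exact mul_left_cancel e1
  set u' := x * h.u * x⁻¹ with hu'
  have hu'R : u' ∈ R := hx1 _ (le_normalizer h.u_mem_T)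
  have hu'2 : u' * u' = 1 := by
    rw [hu', show x * h.u * x⁻¹ * (x * h.u * x⁻¹) = x * (h.u * h.u) * x⁻¹ by group, h.u_sq, mul_one, mul_inv_cancel]
  have hclass : ∀ r ∈ R, r * u' * r⁻¹ = u' ∨ r * u' * r⁻¹ = z * u' := by
    intro r hr
    have e : r * u' * r⁻¹ = x * ((x⁻¹ * r * x) * h.u * (x⁻¹ * r * x)⁻¹) * x⁻¹ := by rw [hu']; group
    rcases hz.conj_u_cases (hx2 r hr) with e' | e' <;> rw [e, e']
    · exact Or.inl rfl
    · refine Or.inr ?_
      calc x * (z * h.u) * x⁻¹ = x * z * x⁻¹ * u' := by rw [hu']; group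
        _ = z * u' := by rw [hxz]
  have hu'T : u' ∈ T := by
    by_contra hnot
    refine hnot (hz.inf_normalizer.le ⟨h.normalizer_F ▸ ?_, hu'R⟩)
    refine (le_normalizer_of_conj (H := zpowers u') fun r hr c hc => ?_) (mem_zpowers u')
    have key : u' * c * u'⁻¹ ∈ h.F := by
      rcases hclass c (le_normalizer (h.F_le_T hc)) with e | e
      · rw [show u' * c * u'⁻¹ = u' * (c * u' * c⁻¹)⁻¹ * c by group, e, mul_inv_cancel, one_mul]
        exact hc
      · rw [show u' * c * u'⁻¹ = u' * (c * u' * c⁻¹)⁻¹ * c by group, e, mul_inv_rev,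
          ← mul_assoc u', mul_inv_cancel, one_mul]
        exact mul_mem (inv_mem (h.V_le_F hz.zV)) hc
    obtain ⟨i, rfl⟩ := mem_zpowers_iff.1 hr
    rw [← zpow_mod_orderOf]
    have hord : orderOf u' = 2 := orderOf_eq_prime (by rw [pow_two, hu'2])
      (fun e => h.u_ne (conj_eq_one_iff.1 e))
    rw [hord]
    rcases Int.emod_two_eq_zero_or_one i with e | e <;> rw [show ((2 : ℕ) : ℤ) = 2 from rfl, e]
    · simpa using hc
    · simpa using key
  obtain ⟨v, hv, hv1, hvz⟩ := exists_v hz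
  set w := g * v * g⁻¹ with hw
  have hwF : w ∉ h.F := hz.moved h.hgT h.hgA hv hv1 hvz
  have hwT : w ∈ T := conj_mem h.hgT (h.F_le_T (h.V_le_F hv))
  have hw2 : w * w = 1 := by
    rw [hw, show g * v * g⁻¹ * (g * v * g⁻¹) = g * (v * v) * g⁻¹ by group, h.V_sq hv, mul_one, mul_inv_cancel]
  by_cases hu'F : u' ∈ h.F
  · -- `x` fixes the class of `u`
    have hcases : u' = h.u ∨ u' = z * h.u := by
      by_contra hno
      push Not at hno
      have hcu : ∀ c, c ∈ h.V → c ≠ 1 → c ≠ z → (u' = c ∨ u' = c * h.u) → False := by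
        intro c hc hc1 hcz he
        refine hz.moved h.hgT h.hgA hc hc1 hcz ?_
        have hgu : g * u' * g⁻¹ ∈ h.F := by
          rcases hclass g h.hgT with e | e <;> rw [e]
          exacts [hu'F, mul_mem (h.V_le_F hz.zV) hu'F]
        rcases he with e | e
        · rwa [← e]
        · have : g * c * g⁻¹ = g * u' * g⁻¹ * (g * h.u * g⁻¹)⁻¹ := by rw [e]; group
          rw [this, hz.g_u]
          exact mul_mem hgu (inv_mem (mul_mem (h.V_le_F hz.zV) h.u_mem_F))
      have hne1 : u' ≠ 1 := fun e => h.u_ne (conj_eq_one_iff.1 e)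
      have hnez : u' ≠ z := fun e => hz.z_ne_u (mul_right_cancel (mul_left_cancel (a := x) (b := z * x⁻¹)
        (c := h.u * x⁻¹) (by rw [← mul_assoc, ← mul_assoc, hxz]; exact e.symm))
      )
      rcases hu'F with hc | hc
      · exact hcu u' hc hne1 hnez (Or.inl rfl)
      · refine hcu _ hc (fun e => hno.1 ?_) (fun e => hno.2 ?_) (Or.inr (by rw [mul_assoc, h.u_sq, mul_one]))
        · exact mul_right_cancel (e.trans h.u_sq.symm)
        · rw [← e, mul_assoc, h.u_sq, mul_one]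
    rw [hR, mem_normalizer_iff]
    have hfix : ∀ r ∈ R, (r ∈ T ↔ r * u' * r⁻¹ = u') := by
      intro r hr
      refine ⟨fun hrT => ?_, fun e => hz.fix_u hr ?_⟩
      · rcases hcases with e | e <;> rw [e]
        · exact mul_inv_eq_iff_eq_mul.2 (h.u_comm (h.hTA hrT))
        · rw [mul_inv_eq_iff_eq_mul, ← mul_assoc, hz.zT r hrT, mul_assoc, h.u_comm (h.hTA hrT), ← mul_assoc]
      · rcases hcases with e' | e' <;> rw [e'] at e
        · exact e
        · have e2 : r * (z * h.u) * r⁻¹ = z * (r * h.u * r⁻¹) := by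
            rw [← mul_assoc, hzR r hr]; group
          exact mul_left_cancel (e2.symm.trans e)
    intro t
    constructor
    · intro ht
      have htR := le_normalizer (G := G) ht
      refine (hfix _ (hx1 t htR)).2 ?_
      calc x * t * x⁻¹ * u' * (x * t * x⁻¹)⁻¹ = x * (t * h.u * t⁻¹) * x⁻¹ := by rw [hu']; group
        _ = u' := by rw [mul_inv_eq_iff_eq_mul.2 (h.u_comm (h.hTA ht))]
    · intro ht
      have htR : t ∈ R := by simpa [mul_assoc] using hx2 _ (le_normalizer (G := G) ht)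
      refine hz.fix_u htR ?_
      have e := (hfix _ (le_normalizer (G := G) ht)).1 ht
      calc t * h.u * t⁻¹ = x⁻¹ * (x * t * x⁻¹ * u' * (x * t * x⁻¹)⁻¹) * x := by rw [hu']; group
        _ = h.u := by rw [e, hu']; group
  · exfalso
    have hvzu : ∀ c ∈ h.F, g * c * g⁻¹ ∈ T := fun c hc => conj_mem h.hgT (h.F_le_T hc)
    have hcz : g⁻¹ * u' * g ∈ h.F := by
      have hg' : ∀ a b : G, g⁻¹ * (a * b) * g = g⁻¹ * a * g * (g⁻¹ * b * g) := fun a b => by group
      have hgv : g⁻¹ * w * g = v := by rw [hw]; group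
      have hgz : g⁻¹ * z * g = z := by simpa using hz.fix_z (inv_mem h.hgT)
      have hgu : g⁻¹ * h.u * g ∈ h.F := by
        rcases hz.conj_u_cases (inv_mem h.hgT) with e | e <;> rw [inv_inv] at e <;> rw [e]
        exacts [h.u_mem_F, mul_mem (h.V_le_F hz.zV) h.u_mem_F]
      rcases hz.outside_T hwT hu'T hwF hu'F hw2 hu'2 with e | e | e | e <;> rw [e] <;> simp only [hg', hgv, hgz]
      · exact h.V_le_F hv
      · exact mul_mem (h.V_le_F hv) (h.V_le_F hz.zV)
      · exact mul_mem (h.V_le_F hv) hgu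
      · exact mul_mem (mul_mem (h.V_le_F hv) (h.V_le_F hz.zV)) hgu
    have := hclass g⁻¹ (inv_mem h.hgT)
    rw [inv_inv] at this
    rcases this with e | e <;> rw [e] at hcz
    · exact hu'F hcz
    · have h3 := mul_mem (h.V_le_F hz.zV) hcz
      rw [← mul_assoc, hz.z_sq, one_mul] at h3
      exact hu'F h3

end Oct

end Cfsg.Agent.Transfer.SubThree
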