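import Cfsg.Agent.Lib.Transfer.SubThree.QForm

/-!
# A maximal four-group normaliser forces a prime field
-/

set_option autoImplicit false
set_option linter.unusedSectionVars false
set_option linter.style.haveILetI false

namespace Cfsg.Agent.Transfer.SubThree

open Subgroup

theorem prime_field {F : Type} [Field F] [Fintype F] (hodd : Odd (Fintype.card F))
    {A : Subgroup (Matrix.ProjectiveSpecialLinearGroup (Fin 2) F)} (hA : IsCoatom A)
    (hA24 : Nat.card A = 24) {V : Subgroup (Matrix.ProjectiveSpecialLinearGroup (Fin 2) F)}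
    (hVA : V ≤ A) (hV : Nat.card V = 4) (hV2 : ∀ v ∈ V, v * v = 1)
    (hAV : ∀ a ∈ A, ∀ v ∈ V, a * v * a⁻¹ ∈ V)
    (hCV : ∀ g, (∀ v ∈ V, g * v = v * g) → g ∈ V)
    (h16 : 16 ∣ Nat.card (Matrix.ProjectiveSpecialLinearGroup (Fin 2) F)) :
    (Fintype.card F).Prime := by
  classical
  obtain ⟨p, hp⟩ := CharP.exists F
  haveI := hp
  obtain ⟨⟨n, hn0⟩, hprime, hn⟩ := FiniteField.card F p
  haveI : Fact p.Prime := ⟨hprime⟩
  rw [PNat.mk_coe] at hn
  rcases (show n = 1 ∨ 2 ≤ n by omega) with rfl | hn2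
  · rwa [hn, pow_one]
  exfalso
  have hp2 : p ≠ 2 := by
    rintro rfl
    rw [hn, Nat.odd_pow_iff (by omega)] at hodd
    exact absurd hodd (by decide)
  letI : Algebra (ZMod p) F := ZMod.algebra F p
  have contra : ∀ (k : Type) [Field k] [Fintype k] (ι : k →+* F), 3 < Fintype.card k →
      Fintype.card k * Fintype.card k ≤ Fintype.card F → False := fun k _ _ ι hk hq =>
    QF.no_subfield hodd hA hA24 hVA hV hV2 hAV hCV ι hk hq
  rcases (show p = 3 ∨ 5 ≤ p by
      have := hprime.two_le
      have h4 : p ≠ 4 := fun e => by rw [e] at hprime; norm_num at hprime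
      omega) with rfl | hp5
  swap
  · refine contra (ZMod p) (algebraMap (ZMod p) F) (by rw [ZMod.card]; omega) ?_
    rw [ZMod.card, hn, ← pow_two]
    exact Nat.pow_le_pow_right hprime.pos hn2
  have hcard := Invol.GW.card_PSLTwo hodd
  have h32 : 32 ∣ Fintype.card F * ((Fintype.card F - 1) * (Fintype.card F + 1)) := by
    rw [← hcard]; exact Nat.mul_dvd_mul_left 2 h16
  rcases Nat.even_or_odd n with ⟨m, rfl⟩ | ⟨m, rfl⟩
  · rcases (show m = 1 ∨ 2 ≤ m by omega) with rfl | hm
    · rw [hn] at h32; norm_num at h32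
    · have hfr : Module.finrank (ZMod 3) F = m + m := by
        have h := Module.card_eq_pow_finrank (K := ZMod 3) (V := F)
        rw [hn, ZMod.card] at h
        exact (Nat.pow_right_injective (le_refl 2 |>.trans (by norm_num)) h).symm
      obtain ⟨e⟩ := FiniteField.nonempty_algHom_of_finrank_dvd (F := ZMod 3) (K := GaloisField 3 2) (L := F)
        (by rw [GaloisField.finrank 3 two_ne_zero, hfr]; exact ⟨m, by omega⟩)
      letI := Fintype.ofFinite (GaloisField 3 2)
      have h9 : Fintype.card (GaloisField 3 2) = 9 := by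
        rw [← Nat.card_eq_fintype_card, GaloisField.card 3 2 two_ne_zero]; norm_num
      refine contra (GaloisField 3 2) e.toRingHom (by omega) ?_
      rw [h9, hn]
      exact le_trans (by norm_num) (Nat.pow_le_pow_right (show 1 ≤ 3 by norm_num) (show 4 ≤ m + m by omega))
  · have hmod : 3 ^ (2 * m + 1) % 32 = 3 ∨ 3 ^ (2 * m + 1) % 32 = 27 ∨ 3 ^ (2 * m + 1) % 32 = 19 ∨
        3 ^ (2 * m + 1) % 32 = 11 := by
      clear hn hn0 hn2
      induction m with
      | zero => norm_num
      | succ i ih =>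
        rw [show 2 * (i + 1) + 1 = 2 * i + 1 + 2 by ring, pow_add, Nat.mul_mod]
        rcases ih with h | h | h | h <;> rw [h] <;> norm_num
    rw [hn, Nat.dvd_iff_mod_eq_zero, Nat.mul_mod, Nat.mul_mod (_ - 1)] at h32
    generalize 3 ^ (2 * m + 1) = q at hmod h32
    rcases hmod with h | h | h | h <;>
      rw [h, show (q - 1) % 32 = q % 32 - 1 by omega, show (q + 1) % 32 = q % 32 + 1 by omega, h] at h32 <;>
      norm_num at h32

end Cfsg.Agent.Transfer.SubThree
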