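import Cfsg.Agent.Lib.Transfer.SubThree.SDLocal
import Cfsg.Agent.Lib.Transfer.SubThree.Eleven
import Cfsg.Agent.Lib.Transfer.SubThree.QPrime
import Cfsg.Agent.Lib.Transfer.SubThree.Model
import Cfsg.Agent.Lib.Invol.Order5616Cent

/-!
# Stabilisers isomorphic to the symmetric group of degree four
-/

set_option autoImplicit false
set_option linter.unusedSectionVars false
set_option linter.style.haveILetI false

namespace Cfsg.Agent.Transfer.SubThree

open Subgroup

universe u

variable {G : Type u} [Group G] [Finite G] {A : Subgroup G}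

theorem perm_four_two_odd : ∀ w : Equiv.Perm (Fin 4), w * w * (w * w) = 1 →
    ¬ (w * w = 1 ∧ Equiv.Perm.sign w = 1) → Equiv.Perm.sign w = -1 := by decide +kernel

/-- The normaliser of a two-group `T` containing a self-centralising four-group as a subgroup of index two. -/
theorem odd_normalising {T V : Subgroup G} (hT : IsPGroup 2 T) (hT8 : Nat.card T = 8) (hV : Nat.card V = 4)
    (hVT : V ≤ T) (hV2 : ∀ v ∈ V, v * v = 1) (hCV : ∀ g : G, (∀ w ∈ V, g * w = w * g) → g ∈ V)
    {x : G} (hx : x ∈ normalizer (T : Set G)) (hodd : Odd (orderOf x)) :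
    ∀ v ∈ V, x * v * x⁻¹ ∈ V := by
  classical
  haveI : Fact (Nat.Prime 2) := ⟨Nat.prime_two⟩
  obtain ⟨z, hzV, hz1, hzT, hzu, -⟩ := cent_four hT hV hVT hV2 (fun s _ h => hCV s h) (by omega)
  have hzp : z * z = 1 := hV2 z hzV
  by_contra hno
  push Not at hno
  obtain ⟨v₀, hv₀, hv₀x⟩ := hno
  -- images of the four-group
  let W : G → Subgroup G := fun c => V.map (MulAut.conj c).toMonoidHom
  have hW : ∀ c, c ∈ normalizer (T : Set G) → W c ≤ T ∧ Nat.card (W c) = 4 ∧ ∀ w ∈ W c, w * w = 1 := by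
    intro c hc
    refine ⟨?_, ?_, ?_⟩
    · rintro _ ⟨v, hv, rfl⟩; exact conj_mem hc (hVT hv)
    · rw [card_map_of_injective (MulAut.conj c).injective, hV]
    · rintro _ ⟨v, hv, rfl⟩
      rw [← map_mul, hV2 v hv, map_one]
  have hW1 : W 1 = V := by
    ext w; simp [W]
  have hne1 : W x ≠ W 1 := fun e => hv₀x (by
    rw [hW1] at e
    exact e ▸ (⟨v₀, hv₀, rfl⟩ : x * v₀ * x⁻¹ ∈ W x))
  have hne2 : W (x * x) ≠ W 1 := by
    intro e
    apply hne1
    obtain ⟨m, hm⟩ := hodd
    have hstep : ∀ c, W c = W 1 → W (x * x * c) = W 1 := fun c hc => by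
      have : W (x * x * c) = (W c).map (MulAut.conj (x * x)).toMonoidHom := by
        simp only [W, map_map]; congr 1; ext w; simp [mul_assoc]
      rw [this, hc, hW1]
      exact e.trans hW1
    have hall : ∀ k : ℕ, W ((x * x) ^ k) = W 1 := by
      intro k
      induction k with
      | zero => rw [pow_zero]
      | succ k ih => rw [pow_succ']; exact hstep _ ih
    have hx1 : (x * x) ^ (m + 1) = x := by
      rw [← pow_two, ← pow_mul, show 2 * (m + 1) = (2 * m + 1) + 1 by omega, pow_succ, ← hm, pow_orderOf_eq_one,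
        one_mul]
    rw [← hall (m + 1), hx1]
  have hne3 : W (x * x) ≠ W x := by
    intro e
    apply hne1
    have h := congrArg (fun K : Subgroup G => K.map (MulAut.conj x⁻¹).toMonoidHom) e
    simp only [W, map_map] at h
    show V.map (MulAut.conj x).toMonoidHom = V.map (MulAut.conj 1).toMonoidHom
    convert h using 2 <;> · ext w; simp [mul_assoc]
  have hmeet : ∀ a b, a ∈ normalizer (T : Set G) → b ∈ normalizer (T : Set G) → W a ≠ W b →
      ∀ w ∈ W a ⊓ W b, w = 1 ∨ w = z := by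
    intro a b ha hb hab w hw
    obtain ⟨ha1, ha4, ha2⟩ := hW a ha
    obtain ⟨hb1, hb4, hb2⟩ := hW b hb
    refine hzu w (ha1 hw.1) fun s hs => ?_
    have hsup : W a ⊔ W b = T := by
      refine eq_of_le_of_card_ge (sup_le ha1 hb1) ?_
      have hlt : W a < W a ⊔ W b := lt_of_le_of_ne le_sup_left fun e => hab
        (eq_of_le_of_card_ge (e ▸ le_sup_right : W b ≤ W a) (by rw [ha4, hb4])).symm
      have h1 : Nat.card (W a) ∣ Nat.card ↥(W a ⊔ W b) := card_dvd_of_le le_sup_left
      have h2 : Nat.card ↥(W a ⊔ W b) ∣ 8 := hT8 ▸ card_dvd_of_le (sup_le ha1 hb1)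
      have h3 : 4 < Nat.card ↥(W a ⊔ W b) := by
        by_contra hh
        exact hlt.ne (eq_of_le_of_card_ge le_sup_left (by omega))
      have h4 := Nat.le_of_dvd (by norm_num) h2
      rw [hT8]
      interval_cases hh : Nat.card ↥(W a ⊔ W b) <;> omega
    have hc : W a ⊔ W b ≤ centralizer ({w} : Set G) := sup_le
      (fun t ht => cent_iff.2 (mul_comm_of_sq ha2 ht hw.1)) (fun t ht => cent_iff.2 (mul_comm_of_sq hb2 ht hw.2))
    rw [hsup] at hc
    exact cent_iff.1 (hc hs)
  -- three images cover the group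
  let Z : Finset G := {1, z}
  let D : G → Finset G := fun c => (Set.Finite.toFinset (Set.toFinite (W c : Set G))) \ Z
  have hDmem : ∀ c w, w ∈ D c ↔ w ∈ W c ∧ w ≠ 1 ∧ w ≠ z := fun c w => by simp [D, Z]
  have hDcard : ∀ c ∈ normalizer (T : Set G), 2 ≤ (D c).card := by
    intro c hc
    have h := Finset.le_card_sdiff Z (Set.Finite.toFinset (Set.toFinite (W c : Set G)))
    rw [← Set.ncard_eq_toFinset_card, ← Nat.card_coe_set_eq] at h
    change Nat.card (W c) - Z.card ≤ _ at h
    rw [(hW c hc).2.1] at h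
    have : Z.card ≤ 2 := Finset.card_le_two
    simp only [D] at *
    omega
  have hdisj : ∀ a b, a ∈ normalizer (T : Set G) → b ∈ normalizer (T : Set G) → W a ≠ W b →
      Disjoint (D a) (D b) := by
    intro a b ha hb hab
    rw [Finset.disjoint_left]
    intro w hwa hwb
    rw [hDmem] at hwa hwb
    rcases hmeet a b ha hb hab w ⟨hwa.1, hwb.1⟩ with e | e
    exacts [hwa.2.1 e, hwa.2.2 e]
  have hsub : Z ∪ D 1 ∪ D x ∪ D (x * x) ⊆ Set.Finite.toFinset (Set.toFinite {t : G | t ∈ T ∧ t * t = 1}) := by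
    intro w hw
    simp only [Finset.mem_union] at hw
    rw [Set.Finite.mem_toFinset]
    rcases hw with ((hw | hw) | hw) | hw
    · simp only [Z, Finset.mem_insert, Finset.mem_singleton] at hw
      rcases hw with rfl | rfl
      exacts [⟨one_mem _, one_mul _⟩, ⟨hVT hzV, hzp⟩]
    all_goals
      rw [hDmem] at hw
    · exact ⟨(hW 1 (one_mem _)).1 hw.1, (hW 1 (one_mem _)).2.2 w hw.1⟩
    · exact ⟨(hW x hx).1 hw.1, (hW x hx).2.2 w hw.1⟩
    · exact ⟨(hW _ (mul_mem hx hx)).1 hw.1, (hW _ (mul_mem hx hx)).2.2 w hw.1⟩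
  have hcard := Finset.card_le_card hsub
  have hZD : ∀ c, Disjoint Z (D c) := fun c => Finset.disjoint_sdiff
  rw [Finset.card_union_of_disjoint, Finset.card_union_of_disjoint, Finset.card_union_of_disjoint (hZD 1),
    ← Set.ncard_eq_toFinset_card] at hcard
  rotate_left
  · rw [Finset.disjoint_union_left]
    exact ⟨hZD x, hdisj 1 x (one_mem _) hx (Ne.symm hne1)⟩
  · rw [Finset.disjoint_union_left, Finset.disjoint_union_left]
    exact ⟨⟨hZD _, hdisj 1 _ (one_mem _) (mul_mem hx hx) (Ne.symm hne2)⟩,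
      hdisj x _ hx (mul_mem hx hx) (Ne.symm hne3)⟩
  have hZ2 : Z.card = 2 := Finset.card_pair hz1.symm
  have h8 : {t : G | t ∈ T ∧ t * t = 1} = (T : Set G) := by
    refine Set.eq_of_subset_of_ncard_le (fun t ht => ht.1) ?_ (Set.toFinite _)
    rw [← Nat.card_coe_set_eq]
    change Nat.card T ≤ _
    have := hDcard 1 (one_mem _)
    have := hDcard x hx
    have := hDcard _ (mul_mem hx hx)
    omega
  have hTV : T ≤ V := fun t ht => hCV t fun w hw =>
    mul_comm_of_sq (fun v hv => ((Set.ext_iff.1 h8 v).2 hv).2) ht (hVT hw)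
  have := card_le_of_le hTV
  omega

set_option maxHeartbeats 1600000 in
/-- Stabilisers isomorphic to the symmetric group of degree four. -/
theorem Ctx.four (d : Ctx A) (e : A ≃* Equiv.Perm (Fin 4)) {T : Subgroup G} (hTA : T ≤ A)
    (hT8 : Nat.card T = 8) {g : G} (hgA : g ∉ A) (hgT : g ∈ normalizer (T : Set G)) :
    (∃ p : ℕ, p.Prime ∧ (p % 16 = 1 ∨ p % 16 = 15) ∧
      Nonempty (G ≃* Matrix.ProjectiveSpecialLinearGroup (Fin 2) (ZMod p))) ∨
      Nonempty (G ≃* Matrix.ProjectiveSpecialLinearGroup (Fin 3) (ZMod 3)) := by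
  classical
  haveI : Fact (Nat.Prime 2) := ⟨Nat.prime_two⟩
  let φ : Equiv.Perm (Fin 4) →* G := A.subtype.comp e.symm.toMonoidHom
  have hφinj : Function.Injective φ := A.subtype_injective.comp e.symm.injective
  have hφA : ∀ x, φ x ∈ A := fun x => (e.symm x).2
  have hφe : ∀ a : A, φ (e a) = a := fun a => by simp [φ]
  have hA24 : Nat.card A = 24 := by
    rw [Nat.card_congr e.toEquiv, Nat.card_perm, Nat.card_fin]; rfl
  set V := Invol.L33Ord.fours.map φ with hVdef
  have hVA : V ≤ A := by rintro _ ⟨x, -, rfl⟩; exact hφA x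
  have hV : Nat.card V = 4 := by rw [card_map_of_injective hφinj, Invol.L33Ord.card_fours]
  have hV2 : ∀ v ∈ V, v * v = 1 := by
    rintro _ ⟨x, hx, rfl⟩
    rw [← map_mul, (Invol.L33Ord.mem_fours.1 hx).1, map_one]
  have hV1 : V ≠ ⊥ := fun h => by rw [h, card_bot] at hV; omega
  have hAV : ∀ a ∈ A, ∀ v ∈ V, a * v * a⁻¹ ∈ V := by
    rintro a ha _ ⟨x, hx, rfl⟩
    refine ⟨e ⟨a, ha⟩ * x * (e ⟨a, ha⟩)⁻¹, (inferInstance : Invol.L33Ord.fours.Normal).conj_mem x hx _, ?_⟩
    rw [map_mul, map_mul, map_inv, hφe]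
  have hNV : A ≤ normalizer (V : Set G) := le_normalizer_of_conj hAV
  have hCV : ∀ c : G, (∀ w ∈ V, c * w = w * c) → c ∈ V := by
    intro c hc
    have hcA : c ∈ A := d.centralizer_le hNV hVA hV1 (mem_centralizer_iff.2 fun w hw => (hc w hw).symm)
    refine ⟨e ⟨c, hcA⟩, Invol.L33Ord.cent_fours _ fun v hv => hφinj ?_, hφe ⟨c, hcA⟩⟩
    rw [map_mul, map_mul, hφe]
    exact hc _ ⟨v, hv, rfl⟩
  have hT : IsPGroup 2 T := IsPGroup.of_card (n := 3) (by rw [hT8]; norm_num)
  have hVp : IsPGroup 2 V := IsPGroup.of_card (n := 2) (by rw [hV]; norm_num)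
  have hVT : V ≤ T := by
    have hsup : IsPGroup 2 ↥(T ⊔ V) := hT.to_sup_of_normal_right' hVp (hTA.trans hNV)
    obtain ⟨k, hk⟩ := IsPGroup.iff_card.1 hsup
    have hd : 2 ^ k ∣ 24 := hk ▸ hA24 ▸ card_dvd_of_le (sup_le hTA hVA)
    have : k ≤ 3 := by
      by_contra hh
      exact absurd ((pow_dvd_pow 2 (by omega : 4 ≤ k)).trans hd) (by norm_num)
    have heq := eq_of_le_of_card_ge (le_sup_left : T ≤ T ⊔ V)
      (by rw [hk, hT8]; exact le_trans (Nat.pow_le_pow_right two_pos this) (by norm_num))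
    exact heq ▸ le_sup_right
  have hAnotT : ¬ A ≤ normalizer (T : Set G) := fun h => hgA (d.normalizer_eq h hTA
    (fun h' => by rw [h', card_bot] at hT8; omega) ▸ hgT)
  have hNTp : IsPGroup 2 (normalizer (T : Set G)) := by
    refine IsPGroup.of_card (n := (Nat.card (normalizer (T : Set G))).primeFactorsList.length)
      (Nat.eq_prime_pow_of_unique_prime_dvd Nat.card_pos.ne' fun {q} hq hd => ?_)
    by_contra hq2
    haveI := Fact.mk hq
    obtain ⟨⟨x, hx⟩, hxo⟩ := exists_prime_orderOf_dvd_card' q hd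
    rw [Subgroup.orderOf_mk] at hxo
    have hodd : Odd (orderOf x) := hxo ▸ hq.odd_of_ne_two hq2
    have hfix := odd_normalising hT hT8 hV hVT hV2 hCV hx hodd
    have hxA : x ∈ A := by
      rw [← d.normalizer_eq hNV hVA hV1]
      exact (le_normalizer_of_conj (H := zpowers x) fun y hy v hv => by
        obtain ⟨i, rfl⟩ := (isOfFinOrder_of_finite x).mem_powers_iff_mem_zpowers.2 hy
        show x ^ i * v * (x ^ i)⁻¹ ∈ V
        clear hy
        induction i with
        | zero => simpa using hv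
        | succ i ih =>
          rw [pow_succ', mul_inv_rev, show x * x ^ i * v * ((x ^ i)⁻¹ * x⁻¹) = x * (x ^ i * v * (x ^ i)⁻¹) * x⁻¹ by group]
          exact hfix _ ih) (mem_zpowers x)
    have hxT : x ∈ T := by
      by_contra hxT
      have hlt : T < A ⊓ normalizer (T : Set G) :=
        lt_of_le_of_ne (le_inf hTA le_normalizer) fun h => hxT (h ▸ ⟨hxA, hx⟩)
      have hd1 : Nat.card T ∣ Nat.card ↥(A ⊓ normalizer (T : Set G)) := card_dvd_of_le hlt.le
      have hd2 : Nat.card ↥(A ⊓ normalizer (T : Set G)) ∣ 24 := hA24 ▸ card_dvd_of_le inf_le_left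
      have h3 : Nat.card T < Nat.card ↥(A ⊓ normalizer (T : Set G)) := by
        by_contra hh
        exact hlt.ne (eq_of_le_of_card_ge hlt.le (by omega))
      rw [hT8] at hd1 h3
      refine hAnotT ((eq_of_le_of_card_ge inf_le_left ?_).symm.le.trans inf_le_right)
      have := Nat.le_of_dvd (by norm_num) hd2
      rw [hA24]
      interval_cases hh : Nat.card ↥(A ⊓ normalizer (T : Set G)) <;> omega
    obtain ⟨k, hk⟩ := IsPGroup.iff_card.1 hT
    have := Subgroup.orderOf_dvd_natCard _ hxT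
    rw [hxo, hk] at this
    exact hq2 ((Nat.prime_dvd_prime_iff_eq hq Nat.prime_two).1 (hq.dvd_of_dvd_pow this))
  obtain ⟨S, hNS⟩ := hNTp.exists_le_sylow
  have hTS : T ≤ (S : Subgroup G) := le_normalizer.trans hNS
  have hVS : V ≤ (S : Subgroup G) := hVT.trans hTS
  have h16 : 16 ≤ Nat.card (S : Subgroup G) := by
    obtain ⟨k, hk⟩ := IsPGroup.iff_card.1 S.2
    have hlt : 8 < 2 ^ k := by
      rw [← hk, ← hT8]
      by_contra hh
      exact hgA (hTA ((eq_of_le_of_card_ge hTS (by omega)).symm ▸ hNS hgT))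
    rw [hk]
    have : 4 ≤ k := by
      by_contra hh
      have : 2 ^ k ≤ 2 ^ 3 := Nat.pow_le_pow_right two_pos (by omega)
      omega
    exact le_trans (by norm_num) (Nat.pow_le_pow_right two_pos this)
  obtain ⟨z, hzV, hz1, hzS, -, hcent⟩ := cent_four S.2 hV hVS hV2 (fun s _ h => hCV s h) (by omega)
  obtain ⟨N, hN, hN1, hmin⟩ := d.exists_minimal
  haveI := hN
  have hVN : V ≤ N := by
    obtain ⟨n, hnN, hn1, hn⟩ := exists_fixed hVp (by rw [normalizer_eq_top]; exact le_top) (d.two_dvd hN hN1)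
    have hnV : n ∈ V := hCV n fun w hw => (hn w hw).symm
    obtain ⟨x, hx, rfl⟩ := hnV
    rintro _ ⟨w, hw, rfl⟩
    by_cases hw1 : w = 1
    · rw [hw1, map_one]; exact one_mem _
    obtain ⟨c, hc⟩ := Invol.L33Ord.conj_fours x w (Invol.L33Ord.mem_fours.1 hx)
      (fun h => hn1 (by rw [h, map_one])) (Invol.L33Ord.mem_fours.1 hw) hw1
    rw [← hc, map_mul, map_mul, map_inv]
    exact hN.conj_mem _ hnN _
  have hAN : A ≤ N := by
    by_contra hAN
    obtain ⟨PN, hPN⟩ := exists_sylow_inf S hN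
    have hP : (S : Subgroup G) ⊓ N = V := by
      refine le_antisymm ?_ (le_inf hVS hVN)
      by_contra hle
      have hp : IsPGroup 2 ↥((S : Subgroup G) ⊓ N) := S.2.to_le inf_le_left
      haveI : Group.IsNilpotent ↥((S : Subgroup G) ⊓ N) := hp.isNilpotent
      have hlt : V.subgroupOf ((S : Subgroup G) ⊓ N) < ⊤ := lt_top_iff_ne_top.2 fun h => hle fun s hs => by
        have : (⟨s, hs⟩ : ↥((S : Subgroup G) ⊓ N)) ∈ V.subgroupOf ((S : Subgroup G) ⊓ N) := h ▸ mem_top _
        exact mem_subgroupOf.1 this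
      obtain ⟨⟨w, hwSN⟩, hw, hwV⟩ := SetLike.exists_of_lt (Group.normalizerCondition_of_isNilpotent _ hlt)
      have hwV' : w ∉ V := fun h => hwV (mem_subgroupOf.2 h)
      have hwA : w ∈ A := by
        rw [← d.normalizer_eq hNV hVA hV1]
        refine mem_normalizer_iff.2 fun v => ⟨fun hv => ?_, fun hv => ?_⟩
        · exact mem_subgroupOf.1 ((mem_normalizer_iff.1 hw ⟨v, ⟨hVS hv, hVN hv⟩⟩).1 (mem_subgroupOf.2 hv))
        · have h := mem_subgroupOf.1 ((mem_normalizer_iff.1 (inv_mem hw) ⟨_, ⟨hVS hv, hVN hv⟩⟩).1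
            (mem_subgroupOf.2 hv))
          simpa [mul_assoc] using h
      -- a subgroup of order eight of `A` inside `N`
      set B := A ⊓ N with hB
      have hBA : ∀ a ∈ A, ∀ b ∈ B, a * b * a⁻¹ ∈ B := fun a ha b hb =>
        ⟨A.mul_mem (A.mul_mem ha hb.1) (A.inv_mem ha), hN.conj_mem _ hb.2 _⟩
      have hsp : IsPGroup 2 ↥(V ⊔ zpowers w) :=
        S.2.to_le (sup_le hVS (zpowers_le.2 hwSN.1))
      obtain ⟨k, hk⟩ := IsPGroup.iff_card.1 hsp
      have hsle : V ⊔ zpowers w ≤ B := sup_le (le_inf hVA hVN) (zpowers_le.2 ⟨hwA, hwSN.2⟩)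
      have h4k : 4 < 2 ^ k := by
        rw [← hk, ← hV]
        by_contra hh
        exact hwV' ((eq_of_le_of_card_ge (le_sup_left : V ≤ V ⊔ zpowers w) (by omega)).symm ▸
          (le_sup_right : zpowers w ≤ _) (mem_zpowers w))
      have hdB : 2 ^ k ∣ Nat.card B := hk ▸ card_dvd_of_le hsle
      have h8 : 8 ∣ Nat.card B := by
        refine dvd_trans ?_ hdB
        have : 3 ≤ k := by
          by_contra hh
          have : 2 ^ k ≤ 2 ^ 2 := Nat.pow_le_pow_right two_pos (by omega)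
          omega
        exact pow_dvd_pow 2 this
      have hB24 : Nat.card B ∣ 24 := hA24 ▸ card_dvd_of_le inf_le_left
      have hBne : Nat.card B ≠ 24 := fun h =>
        hAN ((eq_of_le_of_card_ge (inf_le_left : B ≤ A) (by rw [h, hA24])).symm.le.trans inf_le_right)
      have hB8 : Nat.card B = 8 := by
        obtain ⟨m, hm⟩ := h8
        rw [hm] at hB24 hBne ⊢
        have := Nat.le_of_dvd (by norm_num) hB24
        have : m ≤ 3 := by omega
        interval_cases m <;> simp_all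
      have hBT : B = T := by
        have hsup : IsPGroup 2 ↥(T ⊔ B) :=
          hT.to_sup_of_normal_right' (IsPGroup.of_card (n := 3) (by rw [hB8]; norm_num))
            (fun t ht => le_normalizer_of_conj hBA (hTA ht))
        obtain ⟨j, hj⟩ := IsPGroup.iff_card.1 hsup
        have hd : 2 ^ j ∣ 24 := hj ▸ hA24 ▸ card_dvd_of_le (sup_le hTA inf_le_left)
        have : j ≤ 3 := by
          by_contra hh
          exact absurd ((pow_dvd_pow 2 (by omega : 4 ≤ j)).trans hd) (by norm_num)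
        have heq := eq_of_le_of_card_ge (le_sup_left : T ≤ T ⊔ B)
          (by rw [hj, hT8]; exact le_trans (Nat.pow_le_pow_right two_pos this) (by norm_num))
        exact eq_of_le_of_card_ge (heq ▸ le_sup_right) (by rw [hT8, hB8])
      exact hAnotT (hBT ▸ le_normalizer_of_conj hBA)
    have hSV : (S : Subgroup G) ≤ A := by
      rw [← d.normalizer_eq hNV hVA hV1]
      intro s hs
      refine mem_normalizer_iff.2 fun v => ⟨fun hv => ?_, fun hv => ?_⟩
      · rw [← hP]; exact ⟨(S : Subgroup G).mul_mem ((S : Subgroup G).mul_mem hs (hVS hv)) ((S : Subgroup G).inv_mem hs), hN.conj_mem _ (hVN hv) _⟩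
      · rw [← hP] at hv ⊢
        have h : s⁻¹ * (s * v * s⁻¹) * s⁻¹⁻¹ ∈ (S : Subgroup G) ⊓ N :=
          ⟨(S : Subgroup G).mul_mem ((S : Subgroup G).mul_mem ((S : Subgroup G).inv_mem hs) hv.1)
            ((S : Subgroup G).inv_mem ((S : Subgroup G).inv_mem hs)), hN.conj_mem _ hv.2 _⟩
        simpa [mul_assoc] using h
    have hd := card_dvd_of_le hSV
    obtain ⟨k, hk⟩ := IsPGroup.iff_card.1 S.2
    rw [hk, hA24] at hd
    have : k ≤ 3 := by
      by_contra hh
      exact absurd ((pow_dvd_pow 2 (by omega : 4 ≤ k)).trans hd) (by norm_num)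
    have : 2 ^ k ≤ 8 := le_trans (Nat.pow_le_pow_right two_pos this) (by norm_num)
    omega
  have hNtop : N = ⊤ := by rw [← d.sup_eq_top hN hN1, sup_eq_left.2 hAN]
  subst hNtop
  have hmin' : ∀ K : Subgroup G, K.Normal → K = ⊥ ∨ K = ⊤ := fun K hK => hmin K hK le_top
  obtain ⟨hsimp, hna⟩ := d.simple_of_top hmin'
  haveI := hsimp
  obtain ⟨v, hvV, hv1, hvz⟩ : ∃ v ∈ V, v ≠ 1 ∧ v ≠ z := by
    by_contra hno
    push Not at hno
    have hle : (V : Set G) ⊆ {1, z} := fun w hw => (em (w = 1)).imp id fun h1 => hno w hw h1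
    have := Set.ncard_le_ncard hle (Set.toFinite _)
    rw [← Nat.card_coe_set_eq, Set.ncard_pair hz1.symm] at this
    change Nat.card V ≤ 2 at this
    omega
  have hv : orderOf v = 2 := orderOf_eq_prime (by rw [pow_two, hV2 v hvV]) hv1
  have hCSv : (S : Subgroup G) ⊓ centralizer ({v} : Set G) = V := le_antisymm
    (fun s hs => hcent v hvV hv1 hvz s hs.1 (cent_iff.1 hs.2))
    (le_inf hVS fun w hw => cent_iff.2 (mul_comm_of_sq hV2 hw hvV))
  rcases dihedral_or_qd S.2 hv (hVS hvV) (by rw [hCSv, hV]) (by omega) with ⟨n, hn, ⟨eS⟩⟩ | hqd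
  · refine Or.inl ?_
    obtain ⟨P', hP'⟩ := exists_sylow_inf S hN
    have hP'S : Nonempty ((P' : Subgroup (⊤ : Subgroup G)) ≃* DihedralGroup n) :=
      ⟨((MulEquiv.subgroupCongr hP').trans (subgroupOfEquivOfLe le_top)).trans eS⟩
    have hmodel := d.dihedral_model hN hN1 hmin P' hn hP'S
    have h16G : 16 ∣ Nat.card G := by
      obtain ⟨k, hk⟩ := IsPGroup.iff_card.1 S.2
      rw [hk] at h16
      refine dvd_trans (pow_dvd_pow 2 ((Nat.pow_le_pow_iff_right (le_refl 2)).1 h16 : 4 ≤ k)) ?_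
      rw [← hk]; exact (S : Subgroup G).card_subgroup_dvd_card
    rcases hmodel with ⟨F, hF, hFf, hodd, -, ⟨f⟩⟩ | h7
    swap
    · exfalso
      obtain ⟨f⟩ := h7
      rw [← card_top (G := G), Nat.card_congr f.toEquiv, nat_card_alternatingGroup, Nat.card_fin] at h16G
      revert h16G; decide
    let f' : G ≃* Matrix.ProjectiveSpecialLinearGroup (Fin 2) F := topEquiv.symm.trans f
    have hp : (Fintype.card F).Prime := by
      refine prime_field hodd (A := A.map f'.toMonoidHom) ((OrderIso.isCoatom_iff f'.mapSubgroup A).2 d.coatom)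
        (by rw [card_map_of_injective f'.injective, hA24]) (V := V.map f'.toMonoidHom) (map_mono hVA)
        (by rw [card_map_of_injective f'.injective, hV]) ?_ ?_ ?_ ?_
      · rintro _ ⟨w, hw, rfl⟩; rw [← map_mul, hV2 w hw, map_one]
      · rintro _ ⟨a, ha, rfl⟩ _ ⟨w, hw, rfl⟩
        exact ⟨a * w * a⁻¹, hAV a ha w hw, by rw [map_mul, map_mul, map_inv]⟩
      · intro c hc
        refine ⟨f'.symm c, hCV _ fun w hw => f'.injective ?_, f'.apply_symm_apply c⟩
        rw [map_mul, map_mul, f'.apply_symm_apply]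
        exact hc _ ⟨w, hw, rfl⟩
      · rwa [← Nat.card_congr f'.toEquiv]
    refine ⟨Fintype.card F, hp, ?_, ⟨f'.trans (psl_prime hp rfl).some⟩⟩
    have hcard := Invol.GW.card_PSLTwo hodd
    rw [← Nat.card_congr f'.toEquiv] at hcard
    have h32 : 32 ∣ Fintype.card F * ((Fintype.card F - 1) * (Fintype.card F + 1)) := by
      rw [← hcard]; exact Nat.mul_dvd_mul_left 2 h16G
    obtain ⟨m, hm⟩ := hodd
    rw [hm] at h32 ⊢
    have hc32 : Nat.Coprime 32 (2 * m + 1) := by
      rw [show (32 : ℕ) = 2 ^ 5 by norm_num]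
      exact Nat.Coprime.pow_left 5 (Nat.coprime_two_left.2 ⟨m, rfl⟩)
    have h := hc32.dvd_of_dvd_mul_left h32
    rw [show 2 * m + 1 - 1 = 2 * m by omega, show 2 * m * (2 * m + 1 + 1) = 4 * (m * (m + 1)) by ring] at h
    have h8 : 8 ∣ m * (m + 1) := Nat.dvd_of_mul_dvd_mul_left (by norm_num : 0 < 4) h
    rw [Nat.dvd_iff_mod_eq_zero, Nat.mul_mod, Nat.add_mod m 1] at h8
    have hm8 : m % 8 = 0 ∨ m % 8 = 7 := by
      have hlt := Nat.mod_lt m (show 8 > 0 by norm_num)
      generalize m % 8 = r at h8 hlt ⊢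
      interval_cases r <;> simp_all
    omega
  · rcases sd_simple hna S hqd h16 hV hVS hV2 hCV hzV hz1 hzS with h | h
    · exact Or.inr h
    · exact (eleven_no_small h d.coatom hA24.le hVp hV1 hAV).elim

end Cfsg.Agent.Transfer.SubThree
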