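import Cfsg.Agent.Lib.Transfer.SubThree.Basic
import Cfsg.Agent.Lib.Invol.QuasiDihedralFusion
import Cfsg.Agent.Lib.Invol.GW.Dihedral.ThreeDoneFinal
import Cfsg.Agent.Lib.Invol.GW.Consumers.CentralFour
import Cfsg.Agent.Lib.Recog.MinimalNormal
import Cfsg.Agent.S3224

/-!
# Shapes of Sylow 2-subgroups and of minimal normal subgroups
-/

set_option autoImplicit false
set_option linter.unusedSectionVars false
set_option linter.style.haveILetI false

namespace Cfsg.Agent.Transfer.SubThree

open Subgroup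

universe u

variable {G : Type u} [Group G] [Finite G] {A : Subgroup G}

/-- In a group without a subgroup of index two a semidihedral Sylow subgroup gives one class of involutions. -/
theorem one_class_qd (S : Sylow 2 G) (hS : Cfsg.IsQuasiDihedral (S : Subgroup G))
    (h2 : ∀ K : Subgroup G, K.Normal → K.index ≠ 2) {a b : G} (ha : orderOf a = 2) (hb : orderOf b = 2) :
    IsConj a b := by
  haveI : Fact (Nat.Prime 2) := ⟨Nat.prime_two⟩
  obtain ⟨n, x, y, h⟩ := Invol.exists_qd hS
  have hT : Invol.QD.FusT n x y := by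
    by_contra hT
    obtain ⟨K, hK, hK2, -⟩ := Invol.QD.exists_kernel (h.coatom 1) (h.index_coatom 1)
      (fun s t hst hs => Invol.QD.respects_coatom_one h hT hst hs)
    exact h2 K hK hK2
  have key : ∀ c : G, orderOf c = 2 → IsConj c (y : G) := by
    intro c hc
    obtain ⟨g, hg⟩ := Invol.exists_conj_mem_sylow (p := 2) (n := 1) (x := c) (by rw [hc, pow_one]) S
    have h1 : orderOf (⟨g * c * g⁻¹, hg⟩ : ↥(S : Subgroup G)) = 2 := by
      rw [Subgroup.orderOf_mk, ← MulAut.conj_apply, MulEquiv.orderOf_eq, hc]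
    have hc' : IsConj c (g * c * g⁻¹) := isConj_iff.2 ⟨g, rfl⟩
    rcases Invol.QD.isConj_two_cases h h1 with h3 | h3
    · exact hc'.trans (h3.trans hT.symm)
    · exact hc'.trans h3
  exact (key a ha).trans (key b hb).symm

/-- The Sylow subgroup of a normal subgroup inside a given one. -/
theorem exists_sylow_inf (S : Sylow 2 G) {N : Subgroup G} (hN : N.Normal) :
    ∃ P : Sylow 2 N, (P : Subgroup N) = (S : Subgroup G).subgroupOf N := by
  haveI : Fact (Nat.Prime 2) := ⟨Nat.prime_two⟩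
  haveI := hN
  exact ⟨(S.isPGroup'.comap_subtype (K := N)).toSylow (Grp.sylow_inf_normal_relIndex S N), rfl⟩

theorem mul_comm_of_sq {V : Subgroup G} (hV2 : ∀ v ∈ V, v * v = 1) {a b : G} (ha : a ∈ V) (hb : b ∈ V) :
    a * b = b * a := by
  have e : ∀ c ∈ V, c⁻¹ = c := fun c hc => inv_eq_of_mul_eq_one_right (hV2 c hc)
  calc a * b = (a * b)⁻¹ := (e _ (mul_mem ha hb)).symm
    _ = b * a := by rw [mul_inv_rev, e a ha, e b hb]

/-- A four-group is generated by any two of its involutions. -/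
theorem four_gen {V : Subgroup G} (hV : Nat.card V = 4) {a b : G} (ha : a ∈ V) (hb : b ∈ V) (ha1 : a ≠ 1)
    (hb1 : b ≠ 1) (hab : a ≠ b) : closure ({a, b} : Set G) = V := by
  classical
  have hle : closure ({a, b} : Set G) ≤ V := by
    rw [closure_le]; rintro x (rfl | rfl) <;> assumption
  refine eq_of_le_of_card_ge hle ?_
  have h3 : 3 ≤ Nat.card ↥(closure ({a, b} : Set G)) := by
    have hc : Nat.card ↥({1, a, b} : Set G) = 3 := by
      rw [Nat.card_coe_set_eq, Set.ncard_eq_toFinset_card', Set.toFinset_insert, Set.toFinset_insert,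
        Set.toFinset_singleton, Finset.card_insert_of_notMem, Finset.card_pair hab]
      simp [ha1.symm, hb1.symm]
    rw [← hc]
    refine Nat.card_mono (Set.toFinite _) ?_
    rintro x (rfl | rfl | rfl)
    · exact one_mem _
    · exact subset_closure (Or.inl rfl)
    · exact subset_closure (Or.inr rfl)
  have hd := card_dvd_of_le hle
  rw [hV] at hd ⊢
  have := Nat.le_of_dvd (by norm_num) hd
  rcases (show Nat.card ↥(closure ({a, b} : Set G)) = 3 ∨ Nat.card ↥(closure ({a, b} : Set G)) = 4 by omega) with e | e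
  · rw [e] at hd; omega
  · omega

/-- A two-group of order above four with a self-centralising four-group. -/
theorem cent_four {S V : Subgroup G} (hS : IsPGroup 2 S) (hV : Nat.card V = 4) (hVS : V ≤ S)
    (hV2 : ∀ v ∈ V, v * v = 1) (hC : ∀ s ∈ S, (∀ w ∈ V, s * w = w * s) → s ∈ V) (hlt : 4 < Nat.card S) :
    ∃ z ∈ V, z ≠ 1 ∧ (∀ s ∈ S, s * z = z * s) ∧
      (∀ w ∈ S, (∀ s ∈ S, s * w = w * s) → w = 1 ∨ w = z) ∧
      ∀ v ∈ V, v ≠ 1 → v ≠ z → ∀ s ∈ S, s * v = v * s → s ∈ V := by
  haveI : Fact (Nat.Prime 2) := ⟨Nat.prime_two⟩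
  haveI : Nontrivial S := Finite.one_lt_card_iff_nontrivial.1 (by omega)
  have hne := hS.center_nontrivial
  obtain ⟨⟨z, hzc⟩, hz1⟩ := exists_ne (1 : center S)
  have hzS : ∀ s ∈ S, s * (z : G) = z * s := fun s hs =>
    congrArg Subtype.val (mem_center_iff.1 hzc ⟨s, hs⟩)
  have hzV : (z : G) ∈ V := hC _ z.2 fun w hw => (hzS w (hVS hw)).symm
  have hz1' : (z : G) ≠ 1 := fun e => hz1 (Subtype.ext (Subtype.ext e))
  have key : ∀ v ∈ V, v ≠ 1 → v ≠ (z : G) → ∀ s ∈ S, s * v = v * s → s ∈ V := by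
    intro v hv hv1 hvz s hs hsv
    refine hC s hs fun w hw => ?_
    have hg := four_gen hV hv hzV hv1 hz1' hvz
    rw [← hg] at hw
    have : w ∈ centralizer ({s} : Set G) := by
      refine (closure_le _).2 ?_ hw
      rintro x (rfl | rfl)
      · exact cent_iff.2 hsv.symm
      · exact cent_iff.2 (hzS s hs).symm
    exact (cent_iff.1 this).symm
  refine ⟨z, hzV, hz1', hzS, fun w hw hwc => ?_, key⟩
  by_contra h
  push Not at h
  have hwV : w ∈ V := hC w hw fun x hx => (hwc x (hVS hx)).symm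
  have hle : S ≤ V := fun s hs => key w hwV h.1 h.2 s hs (hwc s hs)
  have := Subgroup.card_le_of_le hle
  omega

/-- Such a group is dihedral or semidihedral. -/
theorem dihedral_or_qd {S : Subgroup G} (hS : IsPGroup 2 S) {x : G} (hx : orderOf x = 2) (hxS : x ∈ S)
    (hC : Nat.card ↥(S ⊓ centralizer ({x} : Set G)) = 4) (hlt : 4 < Nat.card S) :
    (∃ n : ℕ, 2 ≤ n ∧ Nonempty (S ≃* DihedralGroup n)) ∨ Cfsg.IsQuasiDihedral S := by
  have hc : Nat.card ↥(centralizer ({(⟨x, hxS⟩ : S)} : Set S)) = 4 := by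
    rw [← hC]
    exact Nat.card_congr
      { toFun := fun s => ⟨(s.1 : G), s.1.2, cent_iff.2 (congrArg Subtype.val (cent_iff.1 s.2))⟩
        invFun := fun g => ⟨⟨g, g.2.1⟩, cent_iff.2 (Subtype.ext (cent_iff.1 g.2.2))⟩
        left_inv := fun s => rfl
        right_inv := fun g => rfl }
  rcases Cfsg.Agent.S3224.result hS (⟨x, hxS⟩ : S) (by rw [Subgroup.orderOf_mk, hx]) hc with ⟨n, ⟨e⟩⟩ | h | h
  · refine Or.inl ⟨n, ?_, ⟨e⟩⟩
    have h1 := Nat.card_congr e.toEquiv
    rw [DihedralGroup.nat_card] at h1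
    omega
  · exact Or.inr h
  · omega

theorem Ctx.simple_of_top (d : Ctx A)
    (hmin : ∀ K : Subgroup G, K.Normal → K = ⊥ ∨ K = ⊤) : IsSimpleGroup G ∧ ¬ IsMulCommutative G := by
  have hnt : Nontrivial G := by
    by_contra h
    rw [not_nontrivial_iff_subsingleton] at h
    exact d.ne_top (Subsingleton.elim _ _)
  refine ⟨{ eq_bot_or_eq_top_of_normal := hmin }, fun h => d.ns (Group.isSolvable_of_comm fun a b => ?_)⟩
  exact h.1.1 a b

theorem Ctx.no_index_two (d : Ctx A) (hmin : ∀ K : Subgroup G, K.Normal → K = ⊥ ∨ K = ⊤)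
    (K : Subgroup G) (hK : K.Normal) : K.index ≠ 2 := by
  intro h
  rcases hmin K hK with e | e
  · rw [e, index_bot] at h
    exact d.ns (Group.isSolvable_of_comm fun a b =>
      (isCyclic_of_prime_card (p := 2) h).commGroup.mul_comm a b)
  · rw [e, index_top] at h; omega

/-- A minimal normal subgroup with dihedral Sylow 2-subgroups. -/
theorem Ctx.dihedral_model (d : Ctx A) {N : Subgroup G} (hN : N.Normal) (h : N ≠ ⊥)
    (hmin : ∀ K : Subgroup G, K.Normal → K ≤ N → K = ⊥ ∨ K = N) (P : Sylow 2 N) {n : ℕ} (hn : 2 ≤ n)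
    (e : Nonempty ((P : Subgroup N) ≃* DihedralGroup n)) : Invol.GW.IsPSLTwoOrSeven N := by
  haveI := d.perfect hN h hmin
  have hO := d.oddCore_eq_bot hN h
  have strip : ∀ {Q : Type} [Group Q], Nonempty (N ⧸ Cfsg.oddCore N ≃* Q) → Nonempty (N ≃* Q) :=
    fun {Q} _ ⟨f⟩ => ⟨((QuotientGroup.quotientMulEquivOfEq hO).trans QuotientGroup.quotientBot).symm.trans f⟩
  rcases Invol.GW.Dihedral.gwStatement_holds P n hn e with ⟨F, hF, hFf, hodd, h3, hf⟩ | hf
  · exact Or.inl ⟨F, hF, hFf, hodd, h3, strip hf⟩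
  · exact Or.inr (strip hf)

/-- A minimal normal subgroup whose Sylow 2-subgroups have centre of order two is simple. -/
theorem Ctx.simple_of_center (d : Ctx A) {N : Subgroup G} (hN : N.Normal) (h : N ≠ ⊥)
    (hmin : ∀ K : Subgroup G, K.Normal → K ≤ N → K = ⊥ ∨ K = N) (P : Sylow 2 N)
    (hP : Nat.card ↥(center (P : Subgroup N)) ≤ 2) : IsSimpleGroup N ∧ ¬ IsMulCommutative N := by
  classical
  haveI : Fact (Nat.Prime 2) := ⟨Nat.prime_two⟩
  haveI := hN
  have hna : ¬ IsMulCommutative N := fun hc =>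
    d.not_solvable hN h (Group.isSolvable_of_comm fun a b => hc.1.1 a b)
  obtain ⟨T, k, hk, hT, hTna, ⟨f⟩⟩ := MinNormal.exists_power N h hmin hna
  rcases Nat.lt_or_ge k 2 with hk1 | hk2
  · obtain rfl : k = 1 := by omega
    haveI := hT
    have e : N ≃* T := f.symm.trans (MulEquiv.piUnique fun _ : Fin 1 => ↥T)
    exact ⟨e.isSimpleGroup, hna⟩
  exfalso
  have hTe : 2 ∣ Nat.card T := by
    by_contra h2
    haveI := hT
    exact hTna ⟨⟨IsSimpleGroup.comm_iff_isSolvable.2
      (Cfsg.Agent.S0205.result (Nat.odd_iff.2 (Nat.two_dvd_ne_zero.1 h2)))⟩⟩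
  let Pk : Subgroup (Fin k → T) := (P : Subgroup N).comap f.toMonoidHom
  have hPk : IsPGroup 2 Pk := P.2.comap_of_injective _ f.injective
  choose Q hQ using fun j => (hPk.map (Pi.evalMonoidHom (fun _ : Fin k => ↥T) j)).exists_le_sylow
  let Pi' : Subgroup (Fin k → T) := Subgroup.pi Set.univ fun j => (Q j : Subgroup T)
  have hle : Pk ≤ Pi' := fun x hx j _ => hQ j ⟨x, hx, rfl⟩
  have hPi : IsPGroup 2 Pi' := by
    intro x
    choose a ha using fun j => (Q j).2 ⟨x.1 j, x.2 j (Set.mem_univ j)⟩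
    refine ⟨∑ j, a j, Subtype.ext (funext fun j => ?_)⟩
    obtain ⟨c, hc⟩ := pow_dvd_pow 2 (Finset.single_le_sum (f := a) (fun i _ => Nat.zero_le _) (Finset.mem_univ j))
    have := congrArg Subtype.val (ha j)
    simp only [SubmonoidClass.coe_pow, OneMemClass.coe_one] at this
    simp only [SubmonoidClass.coe_pow, Pi.pow_apply, OneMemClass.coe_one, Pi.one_apply]
    rw [hc, pow_mul, this, one_pow]
  have heq : ∀ x ∈ Pi', f x ∈ (P : Subgroup N) := by
    have := P.3 (hPi.map f.toMonoidHom) (fun y hy => ⟨f.symm y, hle (by simpa [Pk] using hy), by simp⟩)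
    intro x hx
    rw [← this]
    exact ⟨x, hx, rfl⟩
  have hq : ∀ j : Fin k, ∃ q : T, q ≠ 1 ∧ q ∈ (Q j : Subgroup T) ∧ ∀ r ∈ (Q j : Subgroup T), r * q = q * r := by
    intro j
    haveI : Nontrivial (Q j : Subgroup T) := by
      rw [← Finite.one_lt_card_iff_nontrivial, (Q j).card_eq_multiplicity]
      exact Nat.one_lt_pow ((Nat.Prime.factorization_pos_of_dvd Nat.prime_two Nat.card_pos.ne' hTe).ne') one_lt_two
    have := (Q j).2.center_nontrivial
    obtain ⟨⟨q, hqc⟩, hq1⟩ := exists_ne (1 : center (Q j : Subgroup T))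
    exact ⟨q, fun e => hq1 (Subtype.ext (Subtype.ext e)), q.2,
      fun r hr => congrArg Subtype.val (mem_center_iff.1 hqc ⟨r, hr⟩)⟩
  choose q hq1 hqQ hqc using hq
  let el : Fin k → ↥(center (P : Subgroup N)) := fun j =>
    ⟨⟨f (Pi.mulSingle j (q j)), heq _ (fun i _ => by
      rcases eq_or_ne i j with rfl | hi
      · simpa using hqQ i
      · simp [Pi.mulSingle_eq_of_ne hi])⟩, by
      rw [mem_center_iff]
      rintro ⟨y, hy⟩
      refine Subtype.ext ?_
      show y * f _ = f _ * y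
      rw [← f.apply_symm_apply y, ← map_mul, ← map_mul]
      congr 1
      funext i
      have hyi : f.symm y ∈ Pi' := hle (by simpa [Pk] using hy)
      rcases eq_or_ne i j with rfl | hi
      · simpa using hqc i _ (hyi i (Set.mem_univ i))
      · simp [Pi.mulSingle_eq_of_ne hi]⟩
  have hinj : Function.Injective fun o : Option (Fin k) => o.elim 1 el := by
    have hne : ∀ j, el j ≠ 1 := fun j e => hq1 j (by
      have := congrFun (f.injective (show f (Pi.mulSingle j (q j)) = f 1 by
        rw [map_one]; exact congrArg (fun c => ((c : ↥(P : Subgroup N)) : N)) (congrArg Subtype.val e))) j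
      simpa using this)
    rintro (_ | a) (_ | b) hab
    · rfl
    · exact absurd hab.symm (hne b)
    · exact absurd hab (hne a)
    · by_contra hne'
      have hab' : a ≠ b := fun e => hne' (congrArg some e)
      have := congrFun (f.injective (show f (Pi.mulSingle a (q a)) = f (Pi.mulSingle b (q b)) from
        congrArg (fun c => ((c : ↥(P : Subgroup N)) : N)) (congrArg Subtype.val hab))) a
      simp [Pi.mulSingle_eq_of_ne hab'] at this
      exact hq1 a this
  have := Nat.card_le_card_of_injective _ hinj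
  simp at this
  omega

end Cfsg.Agent.Transfer.SubThree
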