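import Cfsg.Agent.Lib.Transfer.SubThree.Model
import Cfsg.Agent.Lib.Transfer.SubThree.Shape

/-!
# A maximal four-group normaliser in `PSL₂(q)` forces `q` to be a prime

The normaliser of a four-group preserves the quaternion form over every subfield spanned by lifts of its
involutions; its stabiliser is proper and larger.
-/

set_option autoImplicit false
set_option linter.unusedSectionVars false
set_option linter.style.haveILetI false

namespace Cfsg.Agent.Transfer.SubThree.QF

open Subgroup Matrix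

variable {F : Type} [Field F] [Fintype F]

local notation "M₂" => Matrix (Fin 2) (Fin 2) F
local notation "SL₂" => Matrix.SpecialLinearGroup (Fin 2) F
local notation "PSL₂" => Matrix.ProjectiveSpecialLinearGroup (Fin 2) F

/-- A quaternion pair. -/
structure Pair (P₀ Q₀ : Matrix (Fin 2) (Fin 2) F) : Prop where
  i2 : P₀ * P₀ = -1
  j2 : Q₀ * Q₀ = -1
  ji : Q₀ * P₀ = -(P₀ * Q₀)

/-- The combination with given coordinates. -/
def comb (P₀ Q₀ : Matrix (Fin 2) (Fin 2) F) (a b c : F) : M₂ := a • P₀ + b • Q₀ + c • (P₀ * Q₀)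

variable {P₀ Q₀ : Matrix (Fin 2) (Fin 2) F}

theorem Pair.mul_comb (h : Pair P₀ Q₀) (a b c a' b' c' : F) :
    comb P₀ Q₀ a b c * comb P₀ Q₀ a' b' c' = (-(a * a' + b * b' + c * c')) • (1 : M₂) +
      comb P₀ Q₀ (b * c' - c * b') (c * a' - a * c') (a * b' - b * a') := by
  have h1 : P₀ * (P₀ * Q₀) = -Q₀ := by rw [← mul_assoc, h.i2, neg_one_mul]
  have h2 : Q₀ * (P₀ * Q₀) = P₀ := by
    rw [← mul_assoc, h.ji, neg_mul, mul_assoc, h.j2, mul_neg, mul_one, neg_neg]
  have h3 : P₀ * Q₀ * P₀ = Q₀ := by rw [mul_assoc, h.ji, mul_neg, h1, neg_neg]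
  have h4 : P₀ * Q₀ * Q₀ = -P₀ := by rw [mul_assoc, h.j2, mul_neg, mul_one]
  have h5 : P₀ * Q₀ * (P₀ * Q₀) = -1 := by rw [← mul_assoc, h3, h.j2]
  simp only [comb, add_mul, mul_add, smul_mul_assoc, mul_smul_comm, smul_smul, h.i2, h.j2, h.ji, h1, h2,
    h3, h4, h5, smul_neg]
  module

theorem Pair.add_anti (h : Pair P₀ Q₀) (a b c a' b' c' : F) :
    comb P₀ Q₀ a b c * comb P₀ Q₀ a' b' c' + comb P₀ Q₀ a' b' c' * comb P₀ Q₀ a b c =
      (-2 * (a * a' + b * b' + c * c')) • (1 : M₂) := by
  rw [h.mul_comb, h.mul_comb]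
  simp only [comb]
  module

theorem Pair.bracket (h : Pair P₀ Q₀) (a b c a' b' c' : F) :
    comb P₀ Q₀ a b c * comb P₀ Q₀ a' b' c' - comb P₀ Q₀ a' b' c' * comb P₀ Q₀ a b c =
      comb P₀ Q₀ (2 * (b * c' - c * b')) (2 * (c * a' - a * c')) (2 * (a * b' - b * a')) := by
  rw [h.mul_comb, h.mul_comb]
  simp only [comb]
  module

theorem comb_add (a b c a' b' c' : F) :
    comb P₀ Q₀ a b c + comb P₀ Q₀ a' b' c' = comb P₀ Q₀ (a + a') (b + b') (c + c') := by
  simp only [comb]; module

theorem comb_smul (s a b c : F) : s • comb P₀ Q₀ a b c = comb P₀ Q₀ (s * a) (s * b) (s * c) := by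
  simp only [comb]; module

/-- The forms over a subfield. -/
def Lat {k : Type} [Field k] (ι : k →+* F) (P₀ Q₀ : Matrix (Fin 2) (Fin 2) F) : Set M₂ :=
  Set.range fun p : k × k × k => comb P₀ Q₀ (ι p.1) (ι p.2.1) (ι p.2.2)

/-- The stabiliser of a lattice. -/
noncomputable def stab (L : Set M₂) : Subgroup SL₂ where
  carrier := {g | (fun y : M₂ => (g : M₂) * y * ((g⁻¹ : SL₂) : M₂)) '' L = L}
  one_mem' := by simp
  mul_mem' := by
    intro a b ha hb
    simp only [Set.mem_setOf_eq] at ha hb ⊢
    conv_rhs => rw [← ha, ← hb, Set.image_image]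
    refine congrArg (fun f => f '' L) (funext fun y => ?_)
    rw [_root_.mul_inv_rev]
    simp only [Matrix.SpecialLinearGroup.coe_mul, mul_assoc]
  inv_mem' := by
    intro a ha
    simp only [Set.mem_setOf_eq] at ha ⊢
    conv_lhs => rw [← ha, Set.image_image]
    have hl : ((a⁻¹ : SL₂) : M₂) * (a : M₂) = 1 := by
      rw [← Matrix.SpecialLinearGroup.coe_mul, inv_mul_cancel]; rfl
    simp only [← mul_assoc, hl, one_mul, inv_inv]
    simp only [mul_assoc, hl, mul_one]
    exact Set.image_id' L

theorem mem_stab {L : Set M₂} {g : SL₂}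
    (h : ∀ y ∈ L, (g : M₂) * y * ((g⁻¹ : SL₂) : M₂) ∈ L) : g ∈ stab L := by
  have hl : ((g⁻¹ : SL₂) : M₂) * (g : M₂) = 1 := by
    rw [← Matrix.SpecialLinearGroup.coe_mul, inv_mul_cancel]; rfl
  have hinj : Function.Injective fun y : M₂ => (g : M₂) * y * ((g⁻¹ : SL₂) : M₂) := by
    intro x y e
    have := congrArg (fun m : M₂ => ((g⁻¹ : SL₂) : M₂) * m * (g : M₂)) e
    simp only [← mul_assoc, hl, one_mul] at this
    simp only [mul_assoc, hl, mul_one] at this
    exact this
  exact Set.eq_of_subset_of_ncard_le (Set.image_subset_iff.2 h)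
    (le_of_eq (Set.ncard_image_of_injective L hinj).symm)

theorem sl_invol (hodd : Odd (Fintype.card F)) {x : SL₂}
    (hx : orderOf (QuotientGroup.mk' (center SL₂) x) = 2) :
    (x : M₂) * (x : M₂) = -1 ∧ (x : M₂).trace = 0 := by
  have h2 : (2 : F) ≠ 0 := Fus.PSLTwo.two_ne_zero_of_odd (Nat.odd_iff.1 hodd)
  have hxx : x * x ∈ center SL₂ := by
    rw [← QuotientGroup.eq_one_iff]
    show QuotientGroup.mk' (center SL₂) (x * x) = 1
    rw [map_mul]
    have := pow_orderOf_eq_one (QuotientGroup.mk' (center SL₂) x)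
    rwa [hx, pow_two] at this
  have hnc : x ∉ center SL₂ := fun h => by
    rw [show QuotientGroup.mk' (center SL₂) x = 1 from (QuotientGroup.eq_one_iff x).2 h, orderOf_one] at hx
    omega
  have hch : (x : M₂) * (x : M₂) = (x : M₂).trace • (x : M₂) - (1 : M₂) := by
    have hd := x.2
    rw [Matrix.det_fin_two] at hd
    ext i j
    fin_cases i <;> fin_cases j <;> simp [Matrix.mul_apply, Matrix.trace_fin_two, Fin.sum_univ_two] <;>
      first | linear_combination hd | linear_combination -hd | ring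
  obtain ⟨r, hr, hrx⟩ := Matrix.SpecialLinearGroup.mem_center_iff.1 hxx
  have htr : (x : M₂).trace = 0 := by
    by_contra ht
    refine hnc (Matrix.SpecialLinearGroup.mem_center_iff.2 ⟨((r + 1) / (x : M₂).trace), ?_, ?_⟩)
    swap
    · have e : (x : M₂).trace • (x : M₂) = Matrix.scalar (Fin 2) (r + 1) := by
        rw [map_add, map_one, hrx, Matrix.SpecialLinearGroup.coe_mul, hch]
        abel
      have e2 := congrArg (fun m : M₂ => (x : M₂).trace⁻¹ • m) e
      simp only [smul_smul, inv_mul_cancel₀ ht, one_smul] at e2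
      refine Eq.trans ?_ e2.symm
      rw [Matrix.scalar_apply, Matrix.scalar_apply]
      ext i j
      by_cases hij : i = j <;> simp [hij, div_eq_inv_mul]
    · have e : (x : M₂).trace • (x : M₂) = Matrix.scalar (Fin 2) (r + 1) := by
        rw [map_add, map_one, hrx, Matrix.SpecialLinearGroup.coe_mul, hch]
        abel
      have hd := congrArg Matrix.det e
      rw [Matrix.det_smul, x.2, Matrix.scalar_apply, Matrix.det_diagonal, Fin.prod_univ_two,
        Fintype.card_fin, mul_one] at hd
      simp only [Fintype.card_fin]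
      field_simp
      linear_combination -hd
  refine ⟨?_, htr⟩
  rw [hch, htr, zero_smul, zero_sub]

set_option maxHeartbeats 3200000 in
/-- A maximal four-group normaliser leaves no room for a subfield of order above three. -/
theorem no_subfield (hodd : Odd (Fintype.card F)) {A : Subgroup PSL₂} (hA : IsCoatom A) (hA24 : Nat.card A = 24)
    {V : Subgroup PSL₂} (hVA : V ≤ A) (hV : Nat.card V = 4) (hV2 : ∀ v ∈ V, v * v = 1)
    (hAV : ∀ a ∈ A, ∀ v ∈ V, a * v * a⁻¹ ∈ V)
    (hCV : ∀ g : PSL₂, (∀ v ∈ V, g * v = v * g) → g ∈ V)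
    {k : Type} [Field k] [Fintype k] (ι : k →+* F) (hk : 3 < Fintype.card k)
    (hq : Fintype.card k * Fintype.card k ≤ Fintype.card F) : False := by
  classical
  have h2 : (2 : F) ≠ 0 := Fus.PSLTwo.two_ne_zero_of_odd (Nat.odd_iff.1 hodd)
  have h2k : (2 : k) ≠ 0 := fun h => h2 (by rw [← map_ofNat ι 2, h, map_zero])
  have hkodd : Fintype.card k % 2 = 1 := by
    obtain ⟨p, hp⟩ := CharP.exists k
    obtain ⟨n, hpr, hn⟩ := FiniteField.card k p
    rw [← Nat.odd_iff, hn]
    refine Odd.pow (hpr.odd_of_ne_two fun e => h2k ?_)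
    subst e
    exact_mod_cast CharP.cast_eq_zero k 2
  set π := QuotientGroup.mk' (center SL₂) with hπ
  have hπs : Function.Surjective π := QuotientGroup.mk'_surjective _
  haveI := Fintype.ofFinite V
  obtain ⟨⟨a, haV⟩, ha1⟩ : ∃ a : V, a ≠ 1 := by
    haveI : Nontrivial V := Finite.one_lt_card_iff_nontrivial.1 (by rw [hV]; norm_num)
    exact exists_ne 1
  obtain ⟨⟨b, hbV⟩, hb⟩ : ∃ b : V, b ∉ ({1, ⟨a, haV⟩} : Finset V) := by
    by_contra hno
    push Not at hno
    have := Finset.card_le_card (fun x (_ : x ∈ (Finset.univ : Finset V)) => hno x)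
    rw [Finset.card_univ, ← Nat.card_eq_fintype_card, hV] at this
    exact absurd (this.trans Finset.card_le_two) (by norm_num)
  simp only [Finset.mem_insert, Finset.mem_singleton, not_or] at hb
  have ha1' : a ≠ 1 := fun e => ha1 (Subtype.ext e)
  have hb1 : b ≠ 1 := fun e => hb.1 (Subtype.ext e)
  have hab : a ≠ b := fun e => hb.2 (Subtype.ext e.symm)
  have hgen := four_gen hV haV hbV ha1' hb1 hab
  obtain ⟨i, hi⟩ := hπs a
  obtain ⟨j, hj⟩ := hπs b
  have hordv : ∀ v ∈ V, v ≠ 1 → orderOf v = 2 := fun v hv h1 => orderOf_eq_prime (by rw [pow_two, hV2 v hv]) h1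
  obtain ⟨hi2, hitr⟩ := sl_invol hodd (x := i) (by rw [← hπ, hi]; exact hordv a haV ha1')
  obtain ⟨hj2, hjtr⟩ := sl_invol hodd (x := j) (by rw [← hπ, hj]; exact hordv b hbV hb1)
  have hij1 : π (i * j) ≠ 1 := by
    rw [map_mul, hi, hj]
    intro e
    exact hab ((eq_inv_of_mul_eq_one_left e).trans (inv_eq_of_mul_eq_one_right (hV2 b hbV)))
  obtain ⟨hij2, -⟩ := sl_invol hodd (x := i * j)
    (hordv _ (by rw [map_mul, hi, hj]; exact mul_mem haV hbV) hij1)
  rw [Matrix.SpecialLinearGroup.coe_mul] at hij2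
  have hP : Pair (i : M₂) (j : M₂) := by
    refine ⟨hi2, hj2, ?_⟩
    calc (j : M₂) * i = -((i : M₂) * i) * (j * i) * -((j : M₂) * j) := by rw [hi2, hj2]; simp
      _ = (i : M₂) * ((i : M₂) * j * (i * j)) * j := by simp only [neg_mul, mul_neg, neg_neg, mul_assoc]
      _ = -((i : M₂) * j) := by rw [hij2]; simp
  set L := Lat ι (i : M₂) (j : M₂) with hL
  set H := stab L with hH
  have hz : ∀ c : SL₂, c ∈ center SL₂ → c ∈ H := fun c hc => mem_stab fun y hy => by
    obtain ⟨r, -, hr⟩ := Matrix.SpecialLinearGroup.mem_center_iff.1 hc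
    rwa [← hr, Matrix.scalar_commute r (fun s => Commute.all r s) y |>.eq, hr, mul_assoc,
      ← Matrix.SpecialLinearGroup.coe_mul, mul_inv_cancel, Matrix.SpecialLinearGroup.coe_one, mul_one]
  -- the normaliser lies in the stabiliser
  have hAH : A ≤ H.map π := by
    intro g hg
    obtain ⟨x, rfl⟩ := hπs g
    refine ⟨x, mem_stab fun y hy => ?_, rfl⟩
    obtain ⟨⟨u, v, w⟩, rfl⟩ := hy
    have hgenL : ∀ e : SL₂, π e ∈ V → π e ≠ 1 → (e : M₂) ∈ L := by
      intro e he he1
      have hcl : π e = a ∨ π e = b ∨ π e = a * b := by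
        have hsub : ({1, ⟨a, haV⟩, ⟨b, hbV⟩, ⟨a * b, mul_mem haV hbV⟩} : Finset V) = Finset.univ := by
          refine Finset.eq_univ_of_card _ ?_
          rw [← Nat.card_eq_fintype_card, hV, Finset.card_insert_of_notMem, Finset.card_insert_of_notMem,
            Finset.card_insert_of_notMem, Finset.card_singleton] <;>
            simp [Subtype.ext_iff, ha1'.symm, hb1.symm, hab, ha1', hb1]
          intro e'
          exact hab ((eq_inv_of_mul_eq_one_left e'.symm).trans (inv_eq_of_mul_eq_one_right (hV2 b hbV)))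
        have := hsub ▸ Finset.mem_univ (⟨π e, he⟩ : V)
        simp only [Finset.mem_insert, Finset.mem_singleton, Subtype.ext_iff] at this
        rcases this with h | h
        · exact absurd h he1
        · exact h
      have hsign : ∀ e₀ : SL₂, π e = π e₀ → (e : M₂) = e₀ ∨ (e : M₂) = -(e₀ : M₂) := by
        intro e₀ h
        obtain ⟨r, hr, hre⟩ := Matrix.SpecialLinearGroup.mem_center_iff.1 (QuotientGroup.eq.1 h)
        have he' : (e₀ : M₂) = (e : M₂) * Matrix.scalar (Fin 2) r := by
          rw [hre, ← Matrix.SpecialLinearGroup.coe_mul, mul_inv_cancel_left]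
        rw [Fintype.card_fin, sq_eq_one_iff] at hr
        rcases hr with rfl | rfl
        · left; rw [he']; simp
        · right; rw [he', map_neg, map_one, mul_neg, mul_one, neg_neg]
      rw [← hi, ← hj, ← map_mul] at hcl
      rcases hcl with h | h | h <;> rcases hsign _ h with h' | h'
      · exact ⟨(1, 0, 0), by rw [h']; simp [comb]⟩
      · exact ⟨(-1, 0, 0), by rw [h']; simp [comb]⟩
      · exact ⟨(0, 1, 0), by rw [h']; simp [comb]⟩
      · exact ⟨(0, -1, 0), by rw [h']; simp [comb]⟩
      · exact ⟨(0, 0, 1), by rw [h']; simp [comb]⟩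
      · exact ⟨(0, 0, -1), by rw [h']; simp [comb]⟩
    have key : ∀ e : SL₂, π e ∈ V → π e ≠ 1 → (x : M₂) * e * ((x⁻¹ : SL₂) : M₂) ∈ L := by
      intro e he he1
      rw [← Matrix.SpecialLinearGroup.coe_mul, ← Matrix.SpecialLinearGroup.coe_mul]
      refine hgenL _ ?_ ?_
      · rw [map_mul, map_mul, map_inv]; exact hAV _ hg _ he
      · rw [map_mul, map_mul, map_inv]
        exact fun h => he1 (conj_eq_one_iff.1 h)
    obtain ⟨p₁, hp₁⟩ := key i (hi ▸ haV) (hi ▸ ha1')
    obtain ⟨p₂, hp₂⟩ := key j (hj ▸ hbV) (hj ▸ hb1)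
    obtain ⟨p₃, hp₃⟩ := key (i * j) (by rw [map_mul, hi, hj]; exact mul_mem haV hbV) hij1
    refine ⟨(u * p₁.1 + v * p₂.1 + w * p₃.1, u * p₁.2.1 + v * p₂.2.1 + w * p₃.2.1,
      u * p₁.2.2 + v * p₂.2.2 + w * p₃.2.2), ?_⟩
    simp only at hp₁ hp₂ hp₃
    rw [Matrix.SpecialLinearGroup.coe_mul] at hp₃
    simp only [map_add, map_mul]
    rw [← comb_add, ← comb_add, ← comb_smul, ← comb_smul, ← comb_smul, hp₁, hp₂, hp₃]
    simp only [comb, mul_add, add_mul, mul_smul_comm, smul_mul_assoc]
  -- isotropic vectors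
  obtain ⟨α, γ, hαγ⟩ := Fus.PSLTwo.exists_sq_add_sq (F := k) hkodd (-1)
  have hdot : ι α * ι α + 1 * 1 + ι γ * ι γ = 0 := by
    have := congrArg ι hαγ
    simp only [map_add, map_pow, map_neg, map_one, map_mul] at this
    linear_combination this
  let n : M₂ := comb (i : M₂) (j : M₂) (ι α) 1 (ι γ)
  have hn2 : n * n = 0 := by
    show comb _ _ _ _ _ * comb _ _ _ _ _ = 0
    rw [hP.mul_comb, hdot]
    simp [comb, mul_comm]
  have hn0 : n ≠ 0 := by
    intro h0
    have h := hP.add_anti (ι α) 1 (ι γ) 0 1 0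
    rw [show comb (i : M₂) (j : M₂) (ι α) 1 (ι γ) = 0 from h0, zero_mul, mul_zero, add_zero] at h
    have h' := congrFun (congrFun h 0) 0
    simp at h'
    exact h2 h'
  have hdet : ∀ t : F, Matrix.det (1 + t • n) = 1 := by
    intro t
    have htr : n.trace = 0 := by
      have hij : ((i : M₂) * j).trace = 0 := by
        have := Matrix.trace_mul_comm (i : M₂) (j : M₂)
        rw [hP.ji, Matrix.trace_neg] at this
        have h' : (2 : F) * ((i : M₂) * j).trace = 0 := by linear_combination this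
        exact (mul_eq_zero.1 h').resolve_left h2
      simp [n, comb, Matrix.trace_add, Matrix.trace_smul, hitr, hjtr, hij]
    have hdn : n.det = 0 := by
      have := congrArg Matrix.det hn2
      rwa [Matrix.det_mul, Matrix.det_zero, mul_self_eq_zero] at this
    rw [Matrix.trace_fin_two] at htr
    rw [Matrix.det_fin_two] at hdn ⊢
    simp [Matrix.add_apply, Matrix.smul_apply]
    linear_combination t * htr + t * t * hdn
  let u : Multiplicative k →* SL₂ :=
    { toFun := fun t => ⟨1 + ι t.toAdd • n, hdet _⟩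
      map_one' := Subtype.ext (by simp)
      map_mul' := fun s t => Subtype.ext (by
        show 1 + ι (s * t).toAdd • n = (1 + ι s.toAdd • n) * (1 + ι t.toAdd • n)
        rw [toAdd_mul, map_add, mul_add, add_mul, add_mul, one_mul, one_mul, mul_one, smul_mul_smul_comm, hn2,
          smul_zero, add_smul]
        abel) }
  have huH : ∀ t, u t ∈ H := by
    intro t
    refine mem_stab fun y hy => ?_
    obtain ⟨⟨a', b', c'⟩, rfl⟩ := hy
    rw [← map_inv]
    show (1 + ι t.toAdd • n) * comb _ _ (ι a') (ι b') (ι c') * (1 + ι (t⁻¹).toAdd • n) ∈ L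
    rw [toAdd_inv, map_neg]
    set s := t.toAdd
    set y := comb (i : M₂) (j : M₂) (ι a') (ι b') (ι c') with hy
    set d : F := ι α * ι a' + 1 * ι b' + ι γ * ι c'
    have hnyn : n * y * n = (-2 * d) • n := by
      have h := hP.add_anti (ι α) 1 (ι γ) (ι a') (ι b') (ι c')
      rw [← hy] at h
      change n * y + y * n = _ at h
      rw [eq_sub_of_add_eq h, sub_mul, mul_assoc, hn2, mul_zero, sub_zero]
      simp only [d, one_mul, smul_mul_assoc]
    have hexp : (1 + ι s • n) * y * (1 + -ι s • n) =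
        y + ι s • (n * y - y * n) + (2 * d * ι s * ι s) • n := by
      simp only [add_mul, mul_add, one_mul, mul_one, smul_mul_assoc, mul_smul_comm, smul_smul, hnyn]
      module
    rw [hexp, hy, hP.bracket, comb_smul]
    refine ⟨(a' + s * (2 * (1 * c' - γ * b')) + 2 * (α * a' + 1 * b' + γ * c') * s * s * α,
      b' + s * (2 * (γ * a' - α * c')) + 2 * (α * a' + 1 * b' + γ * c') * s * s * 1,
      c' + s * (2 * (α * b' - 1 * a')) + 2 * (α * a' + 1 * b' + γ * c') * s * s * γ), ?_⟩
    simp only [n, d, comb_smul, comb_add, map_add, map_sub, map_mul, map_one, map_ofNat]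
  rcases hA.le_iff.1 hAH with htop | heq
  · -- the stabiliser is not everything
    have hHtop : ∀ g : SL₂, g ∈ H := by
      intro g
      obtain ⟨h, hh, he⟩ := (htop.symm ▸ mem_top (π g) : π g ∈ H.map π)
      have := mul_mem hh (hz _ (QuotientGroup.eq.1 he))
      rwa [mul_inv_cancel_left] at this
    have himg : ∀ (g : SL₂) (y : M₂), y ∈ L → (g : M₂) * y * ((g⁻¹ : SL₂) : M₂) ∈ L := fun g y hy =>
      (hHtop g : g ∈ stab L).le ⟨y, hy, rfl⟩
    choose f hf using fun g : SL₂ => himg g _ (⟨(1, 0, 0), by simp [comb]⟩ : (i : M₂) ∈ L)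
    choose f' hf' using fun g : SL₂ => himg g _ (⟨(0, 1, 0), by simp [comb]⟩ : (j : M₂) ∈ L)
    choose s hs using hπs
    have hcen : ∀ x y : SL₂, (x : M₂) * i * ((x⁻¹ : SL₂) : M₂) = (y : M₂) * i * ((y⁻¹ : SL₂) : M₂) →
        (x : M₂) * j * ((x⁻¹ : SL₂) : M₂) = (y : M₂) * j * ((y⁻¹ : SL₂) : M₂) → π x = π y := by
      intro x y h1 h2'
      have hc : ∀ e : SL₂, (x : M₂) * e * ((x⁻¹ : SL₂) : M₂) = (y : M₂) * e * ((y⁻¹ : SL₂) : M₂) →
          (y⁻¹ * x) * e = e * (y⁻¹ * x) := by
        intro e h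
        have h' : x * e * x⁻¹ = y * e * y⁻¹ := Subtype.ext (by
          simpa only [Matrix.SpecialLinearGroup.coe_mul] using h)
        calc y⁻¹ * x * e = y⁻¹ * (x * e * x⁻¹) * x := by group
          _ = _ := by rw [h']; group
      have hci := hc i h1
      have hcj := hc j h2'
      have hV' : π (y⁻¹ * x) ∈ V := hCV _ fun v hv => by
        rw [← hgen] at hv
        have : v ∈ centralizer ({π (y⁻¹ * x)} : Set PSL₂) := by
          refine (closure_le _).2 ?_ hv
          rintro w (rfl | rfl)
          · exact cent_iff.2 (by rw [← hi, ← map_mul, ← map_mul π (y⁻¹ * x), hci])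
          · exact cent_iff.2 (by rw [← hj, ← map_mul, ← map_mul π (y⁻¹ * x), hcj])
        exact (cent_iff.1 this).symm
      by_contra hne
      have hne' : π (y⁻¹ * x) ≠ 1 := fun e => hne (by
        rw [map_mul, map_inv, inv_mul_eq_one] at e; exact e.symm)
      -- a lift of an element of `V` commuting with both lifts
      have hkey : ∀ e₀ : SL₂, π (y⁻¹ * x) = π e₀ → e₀ * i = i * e₀ ∧ e₀ * j = j * e₀ := by
        intro e₀ h
        have hc0 : (y⁻¹ * x)⁻¹ * e₀ ∈ center SL₂ := QuotientGroup.eq.1 h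
        obtain ⟨c, hc, rfl⟩ : ∃ c ∈ center SL₂, e₀ = y⁻¹ * x * c := ⟨_, hc0, (mul_inv_cancel_left _ _).symm⟩
        rw [mem_center_iff] at hc
        constructor
        · rw [mul_assoc, ← hc i, ← mul_assoc, hci, mul_assoc]
        · rw [mul_assoc, ← hc j, ← mul_assoc, hcj, mul_assoc]
      have hanti : ((i * j : SL₂) : M₂) ≠ ((j * i : SL₂) : M₂) := by
        rw [Matrix.SpecialLinearGroup.coe_mul, Matrix.SpecialLinearGroup.coe_mul, hP.ji]
        intro e
        have h0 : (2 : F) • ((i : M₂) * j) = 0 := by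
          rw [two_smul]; exact (eq_neg_iff_add_eq_zero.1 e)
        have h1 := (smul_eq_zero.1 h0).resolve_left h2
        rw [h1, mul_zero] at hij2
        have := congrFun (congrFun hij2 0) 0
        simp at this
      have hsub : π (y⁻¹ * x) = a ∨ π (y⁻¹ * x) = b ∨ π (y⁻¹ * x) = a * b := by
        have hsub : ({1, ⟨a, haV⟩, ⟨b, hbV⟩, ⟨a * b, mul_mem haV hbV⟩} : Finset V) = Finset.univ := by
          refine Finset.eq_univ_of_card _ ?_
          rw [← Nat.card_eq_fintype_card, hV, Finset.card_insert_of_notMem, Finset.card_insert_of_notMem,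
            Finset.card_insert_of_notMem, Finset.card_singleton] <;>
            simp [Subtype.ext_iff, ha1'.symm, hb1.symm, hab, ha1', hb1]
          intro e'
          exact hab ((eq_inv_of_mul_eq_one_left e'.symm).trans (inv_eq_of_mul_eq_one_right (hV2 b hbV)))
        have := hsub ▸ Finset.mem_univ (⟨_, hV'⟩ : V)
        simp only [Finset.mem_insert, Finset.mem_singleton, Subtype.ext_iff] at this
        exact this.resolve_left hne'
      rw [← hi, ← hj, ← map_mul π i j] at hsub
      rcases hsub with h | h | h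
      · exact hanti (congrArg Subtype.val (hkey _ h).2)
      · exact hanti (congrArg Subtype.val (hkey _ h).1).symm
      · have := (hkey _ h).1
        rw [mul_assoc] at this
        exact hanti (congrArg Subtype.val (mul_left_cancel this : j * i = i * j).symm)
    -- the pairs
    let drop : k × k × k → k × k × k → k × k := fun x y =>
      if x.1 ≠ 0 then (y.2.1, y.2.2) else if x.2.1 ≠ 0 then (y.1, y.2.2) else (y.1, y.2.1)
    let Φ : PSL₂ → (k × k × k) × (k × k) := fun g => (f (s g), drop (f (s g)) (f' (s g)))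
    have horth : ∀ g : SL₂, (f g).1 * (f' g).1 + (f g).2.1 * (f' g).2.1 + (f g).2.2 * (f' g).2.2 = 0 := by
      intro g
      have h := hP.add_anti (ι (f g).1) (ι (f g).2.1) (ι (f g).2.2) (ι (f' g).1) (ι (f' g).2.1) (ι (f' g).2.2)
      have e1 := hf g
      have e2 := hf' g
      simp only at e1 e2
      rw [e1, e2] at h
      have hl : ((g⁻¹ : SL₂) : M₂) * (g : M₂) = 1 := by
        rw [← Matrix.SpecialLinearGroup.coe_mul, inv_mul_cancel]; rfl
      have hz0 : (g : M₂) * i * ((g⁻¹ : SL₂) : M₂) * ((g : M₂) * j * ((g⁻¹ : SL₂) : M₂)) +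
          (g : M₂) * j * ((g⁻¹ : SL₂) : M₂) * ((g : M₂) * i * ((g⁻¹ : SL₂) : M₂)) = 0 := by
        simp only [mul_assoc]
        simp only [← mul_assoc ((g⁻¹ : SL₂) : M₂) (g : M₂), hl, one_mul]
        rw [← mul_assoc (j : M₂) (i : M₂), hP.ji, neg_mul, mul_assoc, mul_neg, add_neg_cancel]
      rw [hz0] at h
      have h' := congrFun (congrFun h 0) 0
      simp at h'
      refine ι.injective ?_
      rw [map_zero, map_add, map_add, map_mul, map_mul, map_mul]
      rcases h' with h' | h'
      · exact absurd h' h2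
      · exact h'
    have hx0 : ∀ g : SL₂, (f g).1 ≠ 0 ∨ (f g).2.1 ≠ 0 ∨ (f g).2.2 ≠ 0 := by
      intro g
      by_contra hno
      push Not at hno
      have e1 := hf g
      simp only [hno.1, hno.2.1, hno.2.2, map_zero, comb, zero_smul, add_zero] at e1
      have hl : ((g⁻¹ : SL₂) : M₂) * (g : M₂) = 1 := by
        rw [← Matrix.SpecialLinearGroup.coe_mul, inv_mul_cancel]; rfl
      have h0 := congrArg (fun m : M₂ => ((g⁻¹ : SL₂) : M₂) * m * (g : M₂)) e1.symm
      simp only [mul_zero, zero_mul, ← mul_assoc, hl, one_mul] at h0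
      simp only [mul_assoc, hl, mul_one] at h0
      rw [h0, mul_zero] at hi2
      have := congrFun (congrFun hi2 0) 0
      simp at this
    have hΦ : Function.Injective Φ := by
      intro g g' h
      simp only [Φ, Prod.mk.injEq] at h
      obtain ⟨h1, h2'⟩ := h
      rw [← h1] at h2'
      have o1 := horth (s g)
      have o2 := horth (s g')
      rw [← h1] at o2
      have hff : f' (s g) = f' (s g') := by
        rcases hfs : f (s g) with ⟨x0, x1, x2⟩
        rw [hfs] at o1 o2 h2'
        rcases hy : f' (s g) with ⟨y0, y1, y2⟩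
        rcases hy' : f' (s g') with ⟨z0, z1, z2⟩
        rw [hy] at o1 h2'
        rw [hy'] at o2 h2'
        simp only [drop] at h2' o1 o2
        simp only [Prod.mk.injEq]
        by_cases c0 : x0 = 0
        · simp only [if_neg (not_not.2 c0)] at h2'
          by_cases c1 : x1 = 0
          · simp only [if_neg (not_not.2 c1), Prod.mk.injEq] at h2'
            obtain ⟨rfl, rfl⟩ := h2'
            refine ⟨rfl, rfl, mul_left_cancel₀ (a := x2) ?_ (by linear_combination o1 - o2)⟩
            rcases hx0 (s g) with h | h | h <;> rw [hfs] at h <;> simp_all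
          · simp only [if_pos c1, Prod.mk.injEq] at h2'
            obtain ⟨rfl, rfl⟩ := h2'
            exact ⟨rfl, mul_left_cancel₀ c1 (by linear_combination o1 - o2), rfl⟩
        · simp only [if_pos c0, Prod.mk.injEq] at h2'
          obtain ⟨rfl, rfl⟩ := h2'
          exact ⟨mul_left_cancel₀ c0 (by linear_combination o1 - o2), rfl, rfl⟩
      rw [← hs g, ← hs g']
      refine hcen _ _ ?_ ?_
      · rw [← hf (s g), ← hf (s g'), h1]
      · rw [← hf' (s g), ← hf' (s g'), hff]
    have hle := Nat.card_le_card_of_injective Φ hΦ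
    rw [Nat.card_eq_fintype_card (α := (k × k × k) × (k × k))] at hle
    simp only [Fintype.card_prod] at hle
    have hcard := Invol.GW.card_PSLTwo hodd
    generalize Nat.card PSL₂ = N at hle hcard
    generalize Fintype.card F = q at hcard hq
    generalize Fintype.card k = r at hle hq hk
    obtain ⟨q', rfl⟩ : ∃ q', q = q' + 1 :=
      ⟨q - 1, by have : 9 ≤ q := le_trans (Nat.mul_le_mul hk.le hk.le) hq; omega⟩
    simp only [Nat.add_sub_cancel] at hcard
    have hsq : r * r * (r * r) ≤ q' * (q' + 1 + 1) + 1 :=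
      le_trans (Nat.mul_le_mul hq hq) (le_of_eq (by ring))
    have h1 : r * r * (q' * (q' + 1 + 1)) ≤ 2 * N :=
      le_trans (Nat.mul_le_mul_right _ hq) (le_of_eq hcard.symm)
    have h2' : r * r * (r * r * (r * r)) ≤ r * r * (q' * (q' + 1 + 1)) + r * r :=
      le_trans (Nat.mul_le_mul_left _ hsq) (le_of_eq (by ring))
    have hpos : 0 < r * r * r * r * r := by positivity
    have hr4 : 4 * (r * r * r * r * r) ≤ r * r * (r * r * (r * r)) :=
      le_trans (Nat.mul_le_mul_right _ (show 4 ≤ r by omega)) (le_of_eq (by ring))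
    have hrr : r * r ≤ r * r * r * r * r :=
      le_trans (le_of_eq (mul_one _).symm)
        (le_trans (Nat.mul_le_mul_left (r * r) (show 1 ≤ r * r * r from Nat.one_le_iff_ne_zero.2 (by positivity)))
          (le_of_eq (by ring)))
    have hN : N ≤ r * r * r * r * r := le_trans hle (le_of_eq (by ring))
    linarith
  · -- the stabiliser is bigger
    have hinj : Function.Injective (π.comp u) := by
      rw [injective_iff_map_eq_one]
      intro t ht
      obtain ⟨r, -, hre⟩ := Matrix.SpecialLinearGroup.mem_center_iff.1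
        ((QuotientGroup.eq_one_iff (u t)).1 ht)
      change Matrix.scalar (Fin 2) r = 1 + ι t.toAdd • n at hre
      have h1 := congrArg (fun m : M₂ => m * n) hre
      simp only [add_mul, one_mul, smul_mul_assoc, hn2, smul_zero, add_zero] at h1
      rw [show Matrix.scalar (Fin 2) r = r • (1 : M₂) by rw [Matrix.scalar_apply, Matrix.smul_one_eq_diagonal]] at hre h1
      rw [smul_mul_assoc, one_mul] at h1
      have hr1 : r = 1 := by
        by_contra hne
        refine hn0 ((smul_eq_zero.1 (show (r - 1) • n = 0 by rw [sub_smul, one_smul, h1, sub_self])).resolve_left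
          (sub_ne_zero.2 hne))
      rw [hr1, one_smul, eq_comm, add_eq_left, smul_eq_zero] at hre
      rcases hre with h | h
      · exact Multiplicative.toAdd.injective ((map_eq_zero ι).1 h)
      · exact absurd h hn0
    have hle : (π.comp u).range ≤ A := by
      rintro _ ⟨t, rfl⟩
      rw [← heq]
      exact ⟨u t, huH t, rfl⟩
    have hdvd := card_dvd_of_le hle
    rw [Nat.card_congr (MonoidHom.ofInjective hinj).toEquiv.symm, hA24, Nat.card_eq_fintype_card,
      Fintype.card_multiplicative] at hdvd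
    have h24 := Nat.le_of_dvd (by norm_num) hdvd
    generalize Fintype.card k = r at hdvd hk hkodd h24
    interval_cases r <;> simp_all

end Cfsg.Agent.Transfer.SubThree.QF
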