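import Cfsg.Agent.Lib.Transfer.SubThree.SDTools
import Cfsg.Agent.Lib.Invol.Order5616Cent
import Cfsg.Agent.Lib.Invol.GW.Consumers.Basic
import Cfsg.Agent.Lib.Classical.SLTwoSylow
import Cfsg.Agent.Lib.Block.SharplySolvable
import Cfsg.Agent.Lib.Grp.Cores
import Cfsg.Agent.Lib.Grp.TwoSymFour.Known
import Cfsg.Agent.S3277
import Cfsg.Agent.S3742

/-!
# The core-free involution centraliser with semidihedral Sylow subgroups and a small four-group centraliser
-/

set_option autoImplicit false
set_option linter.unusedSectionVars false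
set_option linter.style.haveILetI false

namespace Cfsg.Agent.Transfer.SubThree

open Subgroup

universe u

variable {H : Type u} [Group H] [Finite H] {S : Sylow 2 H} {z v y : H}

/-- The standing hypotheses. -/
structure SDH (S : Sylow 2 H) (z v y : H) : Prop where
  hO : Cfsg.oddCore H = ⊥
  hS : Cfsg.IsQuasiDihedral (S : Subgroup H)
  h16 : 16 ≤ Nat.card (S : Subgroup H)
  hz : orderOf z = 2
  hzc : ∀ h : H, h * z = z * h
  hv : orderOf v = 2
  hC4 : Nat.card ↥(centralizer ({v} : Set H)) = 4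
  hCe : ∀ c ∈ centralizer ({v} : Set H), c * c = 1
  hy : y * v * y⁻¹ = v * z

namespace SDH

theorem normal_le (_h : SDH S z v y) {R : Subgroup H} (hR : R.Normal) (hR2 : IsPGroup 2 R) :
    R ≤ (S : Subgroup H) := by
  haveI := hR
  haveI : Fact (Nat.Prime 2) := ⟨Nat.prime_two⟩
  exact le_sup_right.trans (S.3 (S.2.to_sup_of_normal_right hR2) le_sup_left).le

theorem zpowers_normal {w : H} (hw : ∀ g : H, g * w = w * g) : (zpowers w).Normal := ⟨fun a ha g => by
  obtain ⟨i, rfl⟩ := mem_zpowers_iff.1 ha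
  rw [((show Commute g w from hw g).zpow_right i).eq, mul_inv_cancel_right]
  exact zpow_mem (mem_zpowers w) i⟩

theorem invol_mem (h : SDH S z v y) {w : H} (hw : orderOf w = 2) (hwc : ∀ g : H, g * w = w * g) :
    w ∈ (S : Subgroup H) :=
  h.normal_le (zpowers_normal hwc) (IsPGroup.of_card (n := 1) (by rw [Nat.card_zpowers, hw, pow_one]))
    (mem_zpowers w)

theorem pair (h : SDH S z v y) {a b c : H} (ha : a ∈ (S : Subgroup H)) (hb : b ∈ (S : Subgroup H))
    (hc : c ∈ (S : Subgroup H)) (hab : a * b = b * a) (hac : a * c = c * a) (hbc : b * c ≠ c * b) :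
    a = 1 ∨ a = z := by
  rcases qd_pair h.hS (z := (⟨z, h.invol_mem h.hz h.hzc⟩ : (S : Subgroup H)))
    (fun e => by have e' : z = 1 := congrArg Subtype.val e; have := h.hz; rw [e', orderOf_one] at this; omega)
    (fun s => Subtype.ext (h.hzc s)) (a := ⟨a, ha⟩) (b := ⟨b, hb⟩) (c := ⟨c, hc⟩) (Subtype.ext hab)
    (Subtype.ext hac) (fun e => hbc (congrArg Subtype.val e)) with e | e
  · exact Or.inl (congrArg Subtype.val e)
  · exact Or.inr (congrArg Subtype.val e)

theorem z_ne (h : SDH S z v y) : z ≠ 1 := fun e => by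
  have := h.hz; rw [e, orderOf_one] at this; omega

theorem z_sq (h : SDH S z v y) : z * z = 1 := by rw [← pow_two, ← h.hz, pow_orderOf_eq_one]

theorem v_ne (h : SDH S z v y) : v ≠ 1 := fun e => by
  have := h.hv; rw [e, orderOf_one] at this; omega

theorem v_sq (h : SDH S z v y) : v * v = 1 := by rw [← pow_two, ← h.hv, pow_orderOf_eq_one]

theorem v_ne_z (h : SDH S z v y) : v ≠ z := fun e => by
  have hy := h.hy
  rw [e, h.hzc y, mul_inv_cancel_right, h.z_sq] at hy
  exact h.z_ne hy

theorem y_ncomm (h : SDH S z v y) : y * v ≠ v * y := fun e => by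
  have hy := h.hy
  rw [e, mul_inv_cancel_right] at hy
  exact h.z_ne (left_eq_mul.1 hy)

theorem cent_v (h : SDH S z v y) {w : H} (hw : w ∈ centralizer ({v} : Set H)) :
    w = 1 ∨ w = z ∨ w = v ∨ w = v * z := by
  classical
  set Cv := centralizer ({v} : Set H)
  letI := Fintype.ofFinite Cv
  have hvzne : v * z ≠ 1 := fun e => h.v_ne_z (by
    rw [mul_eq_one_iff_eq_inv, inv_eq_of_mul_eq_one_right h.z_sq] at e; exact e)
  have hne : ({1, z, v, v * z} : Finset H).card = 4 := by
    rw [Finset.card_insert_of_notMem, Finset.card_insert_of_notMem, Finset.card_insert_of_notMem,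
      Finset.card_singleton] <;>
      simp [h.z_ne, h.z_ne.symm, h.v_ne, h.v_ne.symm, h.v_ne_z, h.v_ne_z.symm, hvzne.symm]
  have hzC : z ∈ Cv := cent_iff.2 (h.hzc v).symm
  have hsub : ({1, z, v, v * z} : Finset H) ⊆ (Cv : Set H).toFinset := by
    intro a ha
    simp only [Finset.mem_insert, Finset.mem_singleton] at ha
    rw [Set.mem_toFinset]
    rcases ha with rfl | rfl | rfl | rfl
    exacts [one_mem _, hzC, cent_iff.2 rfl, mul_mem (cent_iff.2 rfl) hzC]
  have := Finset.eq_of_subset_of_card_le hsub (by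
    rw [hne, Set.toFinset_card, ← Nat.card_eq_fintype_card]; exact h.hC4.le)
  have hc' : w ∈ (Cv : Set H).toFinset := Set.mem_toFinset.2 hw
  rw [← this] at hc'
  simpa using hc'

theorem sq_stab (h : SDH S z v y) {w : H} (hw : w ∈ centralizer ({v} : Set H) ∨
    y⁻¹ * w ∈ centralizer ({v} : Set H)) : w * w = 1 ∨ w * w = z := by
  rcases hw with hw | hw
  · exact Or.inl (h.hCe w hw)
  obtain ⟨a, ha, rfl⟩ : ∃ a ∈ centralizer ({v} : Set H), w = y * a :=
    ⟨_, hw, (mul_inv_cancel_left y w).symm⟩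
  have hyyC : y * y ∈ centralizer ({v} : Set H) := cent_iff.2 <| mul_inv_eq_iff_eq_mul.1 <| by
    calc y * y * v * (y * y)⁻¹ = y * (y * v * y⁻¹) * y⁻¹ := by group
      _ = y * v * (z * y⁻¹) := by rw [h.hy]; group
      _ = v := by rw [← h.hzc y⁻¹, ← mul_assoc, h.hy, mul_assoc, h.z_sq, mul_one]
  have hy2 : y * y = 1 ∨ y * y = z := by
    have hcy : y * (y * y) = y * y * y := (mul_assoc _ _ _).symm
    rcases h.cent_v hyyC with e | e | e | e
    · exact Or.inl e
    · exact Or.inr e
    · rw [e] at hcy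
      exact absurd hcy h.y_ncomm
    · rw [e, ← mul_assoc, mul_assoc v z y, ← h.hzc y, ← mul_assoc] at hcy
      exact absurd (mul_right_cancel hcy) h.y_ncomm
  have hzz : ∀ g : H, g * z * (g * z) = g * g := fun g => by
    rw [mul_assoc g z, ← mul_assoc z g z, ← h.hzc g, mul_assoc g z z, h.z_sq, mul_one]
  have hyvv : y * v * (y * v) = 1 ∨ y * v * (y * v) = z := by
    rw [show y * v * (y * v) = v * z * (y * y) * v by rw [← h.hy]; group]
    rcases hy2 with e | e <;> rw [e]
    · exact Or.inr (by rw [mul_one, mul_assoc, ← h.hzc v, ← mul_assoc, h.v_sq, one_mul])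
    · exact Or.inl (by rw [mul_assoc v z z, h.z_sq, mul_one, h.v_sq])
  rcases h.cent_v ha with rfl | rfl | rfl | rfl
  · rwa [mul_one]
  · rwa [hzz]
  · exact hyvv
  · rwa [← mul_assoc y v z, hzz]

section Derived

variable {F : Type} [Field F] [Fintype F]

theorem derived_facts (h : SDH S z v y) (hodd : Odd (Fintype.card F))
    (eL : commutator H ≃* Matrix.SpecialLinearGroup (Fin 2) F) :
    z ∈ commutator H ∧ v ∉ commutator H ∧ ∃ b c : H, b ∈ (S : Subgroup H) ∧ c ∈ (S : Subgroup H) ∧
      b ∈ commutator H ∧ c ∈ commutator H ∧ b * c ≠ c * b := by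
  classical
  haveI : Fact (Nat.Prime 2) := ⟨Nat.prime_two⟩
  set L := commutator H with hL
  obtain ⟨P, hP⟩ := exists_sylow_inf S (inferInstance : L.Normal)
  obtain ⟨⟨k, hk1, ⟨eP⟩⟩, -⟩ := Classical.SLTwoSylow.two_sylow_SL hodd
    (P.mapSurjective (f := eL.toMonoidHom) eL.surjective)
  haveI : NeZero (2 ^ k) := ⟨by positivity⟩
  let eP' : (P : Subgroup L) ≃* QuaternionGroup (2 ^ k) :=
    (((P : Subgroup L).equivMapOfInjective eL.toMonoidHom eL.injective).trans
      (MulEquiv.subgroupCongr (Sylow.coe_mapSurjective eL.surjective P).symm)).trans eP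
  obtain ⟨b, c, hb, hc, hbL, hcL, hbc⟩ : ∃ b c : H, b ∈ (S : Subgroup H) ∧ c ∈ (S : Subgroup H) ∧
      b ∈ L ∧ c ∈ L ∧ b * c ≠ c * b := by
    set b' := eP'.symm (QuaternionGroup.a 1)
    set c' := eP'.symm (QuaternionGroup.xa 0)
    refine ⟨_, _, mem_subgroupOf.1 (hP ▸ b'.2), mem_subgroupOf.1 (hP ▸ c'.2), (b' : L).2, (c' : L).2,
      fun e => ?_⟩
    have e' : b' * c' = c' * b' := Subtype.ext (Subtype.ext e)
    have := congrArg eP' e'
    simp only [b', c', map_mul, MulEquiv.apply_symm_apply, QuaternionGroup.a_mul_xa, QuaternionGroup.xa_mul_a,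
      QuaternionGroup.xa.injEq] at this
    have h2 : ((2 : ℕ) : ZMod (2 * 2 ^ k)) = 0 := by push_cast; linear_combination -this
    rw [ZMod.natCast_eq_zero_iff] at h2
    have := Nat.le_of_dvd two_pos h2
    have : 2 ≤ 2 ^ k := Nat.le_self_pow (by omega) 2
    omega
  have hLu : ∀ a ∈ L, a * a = 1 → a ≠ 1 → a = z := by
    intro a haL ha2 ha1
    have hto : ∀ a' (h' : a' ∈ L), a' * a' = 1 → a' ≠ 1 → eL ⟨a', h'⟩ * eL ⟨a', h'⟩ = 1 ∧ eL ⟨a', h'⟩ ≠ 1 := by
      intro a' h' h2' h1'
      refine ⟨?_, fun e => h1' (congrArg Subtype.val ((map_eq_one_iff eL eL.injective).1 e))⟩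
      rw [← map_mul, show (⟨a', h'⟩ : L) * ⟨a', h'⟩ = 1 from Subtype.ext h2', map_one]
    have huniq : ∀ a' ∈ L, a' * a' = 1 → a' ≠ 1 → a' = a := fun a' h' h2' h1' =>
      congrArg Subtype.val (eL.injective (sl_unique_invol hodd (hto a' h' h2' h1').1 (hto a' h' h2' h1').2
        (hto a haL ha2 ha1).1 (hto a haL ha2 ha1).2))
    have hac : ∀ g : H, g * a = a * g := fun g => mul_inv_eq_iff_eq_mul.1 <|
      huniq (g * a * g⁻¹) ((inferInstance : L.Normal).conj_mem a haL g)
        (by rw [show g * a * g⁻¹ * (g * a * g⁻¹) = g * (a * a) * g⁻¹ by group, ha2, mul_one, mul_inv_cancel])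
        (fun e => ha1 (conj_eq_one_iff.1 e))
    exact (h.pair (h.invol_mem (orderOf_eq_prime (by rw [pow_two, ha2]) ha1) hac) hb hc
      (hac b).symm (hac c).symm hbc).resolve_left ha1
  refine ⟨?_, fun hv => h.v_ne_z (hLu v hv h.v_sq h.v_ne), b, c, hb, hc, hbL, hcL, hbc⟩
  obtain ⟨w, hw⟩ := exists_prime_orderOf_dvd_card' (G := L) 2 (by
    rw [Nat.card_congr eL.toEquiv, Fus.PSLTwo.natCard_SL_two]
    obtain ⟨m, hm⟩ := hodd
    exact Dvd.dvd.mul_left (Dvd.dvd.mul_left ⟨m + 1, by omega⟩ _) _)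
  have e := hLu w w.2 (by rw [← pow_two, ← hw, ← SubmonoidClass.coe_pow, pow_orderOf_eq_one]; rfl)
    (fun e => by rw [show w = 1 from Subtype.ext e, orderOf_one] at hw; omega)
  exact e ▸ w.2

theorem large_field (h : SDH S z v y) (hodd : Odd (Fintype.card F)) (h3 : 3 < Fintype.card F)
    (eL : commutator H ≃* Matrix.SpecialLinearGroup (Fin 2) F) : False := by
  classical
  haveI : Fact (Nat.Prime 2) := ⟨Nat.prime_two⟩
  obtain ⟨hzL, -, b, c, hb, hc, hbL, hcL, hbc⟩ := h.derived_facts hodd eL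
  set L := commutator H with hL
  haveI : Group.IsPerfect L := ⟨by
    refine Subgroup.map_injective (f := eL.toMonoidHom) eL.injective ?_
    rw [_root_.commutator_def, Subgroup.map_commutator, Subgroup.map_top_of_surjective _ eL.surjective,
      ← _root_.commutator_def, Invol.GW.SLTwo_perfect h3]⟩
  haveI hZn : (zpowers z).Normal := zpowers_normal h.hzc
  have hzp : ∀ w : H, w ∈ zpowers z ↔ w = 1 ∨ w = z := by
    intro w
    refine ⟨fun hw => ?_, fun hw => ?_⟩
    · obtain ⟨i, rfl⟩ := mem_zpowers_iff.1 hw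
      rw [← zpow_mod_orderOf, h.hz]
      rcases Int.emod_two_eq_zero_or_one i with e | e <;> rw [show ((2 : ℕ) : ℤ) = 2 from rfl, e]
      · exact Or.inl (zpow_zero z)
      · exact Or.inr (zpow_one z)
    · rcases hw with rfl | rfl
      exacts [one_mem _, mem_zpowers _]
  set π := QuotientGroup.mk' (zpowers z) with hπ
  have hπs : Function.Surjective π := QuotientGroup.mk'_surjective _
  have hπk : ∀ a b : H, π a = π b ↔ b = a ∨ b = a * z := fun a b => by
    show (QuotientGroup.mk a : H ⧸ zpowers z) = QuotientGroup.mk b ↔ _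
    rw [QuotientGroup.eq, hzp, inv_mul_eq_one, inv_mul_eq_iff_eq_mul, eq_comm]
  have hcardR : ∀ R : Subgroup (H ⧸ zpowers z), Nat.card ↥(R.comap π) = 2 * Nat.card R := fun R => by
    have h1 := (R.comap π).card_mul_index
    rw [R.index_comap_of_surjective hπs] at h1
    have h2 := R.card_mul_index
    have h3' := (zpowers z).card_mul_index
    rw [Nat.card_zpowers, h.hz, index_eq_card] at h3'
    rw [← h2, ← mul_assoc] at h3'
    exact (Nat.eq_of_mul_eq_mul_right (Nat.pos_of_ne_zero R.index_ne_zero_of_finite) (h3'.trans h1.symm)).symm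
  set Cv := centralizer ({v} : Set H) with hCv
  set T := (centralizer ({π v} : Set (H ⧸ zpowers z))).comap π with hT
  have hmemT : ∀ w : H, w ∈ T ↔ w * v * w⁻¹ = v ∨ w * v * w⁻¹ = v * z := by
    intro w
    rw [hT, mem_comap, cent_iff, ← map_mul, ← map_mul, hπk, mul_inv_eq_iff_eq_mul, mul_inv_eq_iff_eq_mul]
    constructor
    · rintro (e | e)
      · exact Or.inl e.symm
      · refine Or.inr ?_
        rw [mul_assoc v z w, ← h.hzc w, ← mul_assoc, e, mul_assoc, mul_assoc, h.z_sq, mul_one]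
    · rintro (e | e)
      · exact Or.inl e.symm
      · refine Or.inr ?_
        rw [e, mul_assoc v z w, ← h.hzc w, mul_assoc, mul_assoc, h.z_sq, mul_one]
  have hyT : y ∈ T := (hmemT y).2 (Or.inr h.hy)
  have hTsplit : ∀ w ∈ T, w ∈ Cv ∨ y⁻¹ * w ∈ Cv := by
    intro w hw
    rcases (hmemT w).1 hw with e | e
    · exact Or.inl (cent_iff.2 (mul_inv_eq_iff_eq_mul.1 e))
    · refine Or.inr (cent_iff.2 ?_)
      have e' : w * v * w⁻¹ = y * v * y⁻¹ := e.trans h.hy.symm
      calc y⁻¹ * w * v = y⁻¹ * (w * v * w⁻¹) * w := by group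
        _ = v * (y⁻¹ * w) := by rw [e']; group
  have hCvT : ∀ w ∈ Cv, w ∈ T := fun w hw =>
    (hmemT w).2 (Or.inl (by rw [cent_iff.1 hw, mul_inv_cancel_right]))
  have hyC : y ∉ Cv := fun hh => h.y_ncomm (cent_iff.1 hh)
  have hTle : Nat.card T = 8 := by
    let f : Bool × Cv → T := fun p => ⟨if p.1 then y * p.2 else p.2, by
      split_ifs
      · exact mul_mem hyT (hCvT _ p.2.2)
      · exact hCvT _ p.2.2⟩
    have hf : Function.Bijective f := by
      constructor
      · rintro ⟨a1, a2⟩ ⟨b1, b2⟩ e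
        have e' := congrArg Subtype.val e
        simp only [f] at e'
        cases a1 <;> cases b1 <;> simp only [Bool.false_eq_true, if_true, if_false] at e'
        · exact Prod.ext rfl (Subtype.ext e')
        · refine absurd ?_ hyC
          rw [show y = (a2 : H) * (b2 : H)⁻¹ by rw [e', mul_inv_cancel_right]]
          exact mul_mem a2.2 (inv_mem b2.2)
        · refine absurd ?_ hyC
          rw [show y = (b2 : H) * (a2 : H)⁻¹ by rw [← e', mul_inv_cancel_right]]
          exact mul_mem b2.2 (inv_mem a2.2)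
        · exact Prod.ext rfl (Subtype.ext (mul_left_cancel e'))
      · rintro ⟨w, hw⟩
        rcases hTsplit w hw with hh | hh
        · exact ⟨(false, ⟨w, hh⟩), rfl⟩
        · exact ⟨(true, ⟨_, hh⟩), Subtype.ext (by simp [f])⟩
    rw [← Nat.card_congr (Equiv.ofBijective f hf), Nat.card_prod, Nat.card_eq_fintype_card (α := Bool),
      Fintype.card_bool, h.hC4]
  have hx : orderOf (π v) = 2 := orderOf_eq_prime (by rw [← map_pow, pow_two, h.v_sq, map_one]) (fun e => by
    rw [← map_one π, hπk] at e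
    rcases e with e | e
    · exact h.v_ne e.symm
    · exact h.v_ne_z (mul_right_cancel (b := z) (e.symm.trans h.z_sq.symm)))
  have hX4 : Nat.card ↥(centralizer ({π v} : Set (H ⧸ zpowers z))) = 4 := by
    have := hcardR (centralizer ({π v} : Set (H ⧸ zpowers z)))
    rw [← hT, hTle] at this
    omega
  have hXe : ∀ w ∈ centralizer ({π v} : Set (H ⧸ zpowers z)), w ^ 2 = 1 := by
    intro w hw
    obtain ⟨w, rfl⟩ := hπs w
    rw [← map_pow, ← map_one π, hπk, pow_two]
    rcases h.sq_stab (hTsplit w hw) with e | e <;> rw [e]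
    · exact Or.inl rfl
    · exact Or.inr h.z_sq.symm
  set Lb := L.map π with hLb
  haveI : Group.IsPerfect Lb := Group.IsPerfect.map π
  have hnc : ¬ Cfsg.HasNormalPComplement 2 (H ⧸ zpowers z) := by
    rintro ⟨P', N, hN, hc'⟩
    haveI := hN
    have hNodd : Odd (Nat.card N) := by
      rw [Nat.odd_iff, ← Nat.two_dvd_ne_zero, ← hc'.index_eq_card]
      exact P'.not_dvd_index
    have hq : IsPGroup 2 ((H ⧸ zpowers z) ⧸ N) := by
      obtain ⟨m, hm⟩ := IsPGroup.iff_card.1 P'.2
      exact IsPGroup.of_card (n := m) (by rw [← index_eq_card, hc'.symm.index_eq_card, hm])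
    have hLN : Lb ≤ N := by
      haveI : Group.IsNilpotent ((H ⧸ zpowers z) ⧸ N) := hq.isNilpotent
      intro l hl
      rw [← QuotientGroup.eq_one_iff]
      exact perfect_to_solvable inferInstance ((QuotientGroup.mk' N).comp Lb.subtype) ⟨l, hl⟩
    haveI := Cfsg.Agent.S0205.result (Odd.of_dvd_nat hNodd (card_dvd_of_le hLN))
    have h1 : π b = 1 :=
      congrArg Subtype.val (perfect_to_solvable inferInstance (MonoidHom.id Lb) ⟨π b, mem_map_of_mem π hbL⟩)
    rw [← map_one π, hπk] at h1
    refine hbc ?_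
    rcases h1 with e | e
    · rw [← e]; simp
    · rw [eq_comm, mul_eq_one_iff_eq_inv, inv_eq_of_mul_eq_one_right h.z_sq] at e
      rw [e]; exact (h.hzc c).symm
  have hne : ∀ E : Subgroup (H ⧸ zpowers z), E.Normal → Cfsg.IsElementaryAbelian 2 E →
      Nat.card ↥E ≠ 2 ∧ Nat.card ↥E ≠ 4 := by
    intro E hE hEe
    by_contra hcon
    have hE24 : Nat.card E = 2 ∨ Nat.card E = 4 := by tauto
    haveI := hE
    set R := E.comap π with hR
    have hR2 : IsPGroup 2 R := by
      rcases hE24 with e | e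
      · exact IsPGroup.of_card (n := 2) (by rw [hR, hcardR, e]; norm_num)
      · exact IsPGroup.of_card (n := 3) (by rw [hR, hcardR, e]; norm_num)
    haveI : R.Normal := inferInstance
    have hRS := h.normal_le (R := R) inferInstance hR2
    have hsolv : Group.IsSolvable (MulAut E) := by
      letI := Fintype.ofFinite E
      haveI := Grp.TwoSymFour.isSolvable_perm_four
      have hc4 : Fintype.card E ≤ 4 := by rw [← Nat.card_eq_fintype_card]; omega
      let ι : E ↪ Fin 4 := (Fintype.equivFin E).toEmbedding.trans (Fin.castLEEmb hc4)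
      let g : MulAut E →* Equiv.Perm (Fin 4) :=
        (Equiv.Perm.viaEmbeddingHom ι).comp
          { toFun := fun a => a.toEquiv, map_one' := rfl, map_mul' := fun _ _ => rfl }
      refine Group.isSolvable_of_isSolvable_injective (f := g) fun a b e => ?_
      exact MulEquiv.ext fun x => Equiv.ext_iff.1 (Equiv.Perm.viaEmbeddingHom_injective ι e) x
    let φ : L →* MulAut E := (MulAut.conjNormal.comp π).comp L.subtype
    have hφ : ∀ l : L, φ l = 1 := fun l => perfect_to_solvable hsolv φ l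
    have hcent : ∀ l : L, ∀ r ∈ R, (l : H) * r = r * l := by
      intro l r hr
      have hmove : ∀ l : L, (l : H) * r * (l : H)⁻¹ = r ∨ (l : H) * r * (l : H)⁻¹ = r * z := fun l => by
        have := congrArg Subtype.val (DFunLike.congr_fun (hφ l) ⟨π r, hr⟩)
        simp only [φ, MonoidHom.comp_apply, MulAut.conjNormal_apply, MulAut.one_apply, Subgroup.coe_subtype] at this
        rw [← map_inv, ← map_mul, ← map_mul, eq_comm, hπk] at this
        exact this
      let ψ : L →* zpowers z :=
        { toFun := fun l => ⟨r⁻¹ * ((l : H) * r * (l : H)⁻¹), by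
            rw [hzp]
            rcases hmove l with e | e <;> rw [e] <;> simp⟩
          map_one' := Subtype.ext (by simp)
          map_mul' := fun l l' => Subtype.ext (by
            show r⁻¹ * (((l * l' : L) : H) * r * ((l * l' : L) : H)⁻¹) =
              r⁻¹ * ((l : H) * r * (l : H)⁻¹) * (r⁻¹ * ((l' : H) * r * (l' : H)⁻¹))
            have e1 : ((l * l' : L) : H) * r * ((l * l' : L) : H)⁻¹ =
                (l : H) * ((l' : H) * r * (l' : H)⁻¹) * (l : H)⁻¹ := by
              rw [Subgroup.coe_mul]; group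
            rw [e1]
            rcases hmove l' with e | e <;> rw [e]
            · group
            · rw [← mul_assoc (l : H) r z, mul_assoc ((l : H) * r) z, ← h.hzc (l : H)⁻¹, ← mul_assoc,
                inv_mul_cancel_left]
              group) }
      have := congrArg Subtype.val (perfect_to_solvable
        (Group.isSolvable_of_comm fun a b => IsCyclic.commGroup.mul_comm a b) ψ l)
      change r⁻¹ * ((l : H) * r * (l : H)⁻¹) = 1 at this
      rw [inv_mul_eq_one, eq_mul_inv_iff_mul_eq] at this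
      exact this.symm
    have hR1 : ∀ r ∈ R, r = 1 ∨ r = z := fun r hr =>
      h.pair (hRS hr) hb hc (hcent ⟨b, hbL⟩ r hr).symm (hcent ⟨c, hcL⟩ r hr).symm hbc
    have := card_le_of_le (show R ≤ zpowers z from fun r hr => (hzp r).2 (hR1 r hr))
    rw [Nat.card_zpowers, h.hz, hR, hcardR] at this
    omega
  obtain ⟨e5⟩ := Cfsg.Agent.S3277.result (π v) hx hX4 hXe hnc hne
  have h60 := Nat.card_congr e5.toEquiv
  rw [nat_card_alternatingGroup, Nat.card_fin] at h60
  have h120 : Nat.card H = 120 := by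
    rw [← (zpowers z).card_mul_index, Nat.card_zpowers, h.hz, index_eq_card, h60]; rfl
  have h2 := (S : Subgroup H).card_subgroup_dvd_card
  obtain ⟨m, hm⟩ := IsPGroup.iff_card.1 S.2
  rw [hm, h120] at h2
  have h16 := h.h16
  rw [hm] at h16
  exact absurd ((pow_dvd_pow 2 ((Nat.pow_le_pow_iff_right (le_refl 2)).1 h16 : 4 ≤ m)).trans h2) (by norm_num)

theorem three_field (h : SDH S z v y) (hodd : Odd (Fintype.card F)) (h3 : Fintype.card F = 3)
    (eL : commutator H ≃* Matrix.SpecialLinearGroup (Fin 2) F) : Nonempty (H ≃* Invol.GL23.Q) := by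
  classical
  haveI : Fact (Nat.Prime 2) := ⟨Nat.prime_two⟩
  obtain ⟨hzL, hvL, -⟩ := h.derived_facts hodd eL
  set L := commutator H with hL
  obtain ⟨P, hP⟩ := exists_sylow_inf S (inferInstance : L.Normal)
  obtain ⟨⟨k, hk1, ⟨eP⟩⟩, -⟩ := Classical.SLTwoSylow.two_sylow_SL hodd
    (P.mapSurjective (f := eL.toMonoidHom) eL.surjective)
  haveI : NeZero (2 ^ k) := ⟨by positivity⟩
  have hL24 : Nat.card L = 24 := by
    rw [Nat.card_congr eL.toEquiv, Fus.PSLTwo.natCard_SL_two, h3]
  have hP8 : Nat.card (P : Subgroup L) = 8 := by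
    rw [P.card_eq_multiplicity, hL24, show (24 : ℕ) = 2 ^ 3 * 3 by norm_num,
      Nat.factorization_mul (by norm_num) (by norm_num), Finsupp.add_apply,
      Nat.prime_two.factorization_pow, Finsupp.single_eq_same,
      Nat.factorization_eq_zero_of_not_dvd (by norm_num : ¬ 2 ∣ 3)]
    norm_num
  let eP' : (P : Subgroup L) ≃* QuaternionGroup (2 ^ k) :=
    (((P : Subgroup L).equivMapOfInjective eL.toMonoidHom eL.injective).trans
      (MulEquiv.subgroupCongr (Sylow.coe_mapSurjective eL.surjective P).symm)).trans eP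
  obtain rfl : k = 1 := by
    have h8 := Nat.card_congr eP'.toEquiv
    rw [hP8, Nat.card_eq_fintype_card, QuaternionGroup.card] at h8
    have : 2 ^ k = 2 ^ 1 := by omega
    exact Nat.pow_right_injective (le_refl 2) this
  have hP4 : ∀ g : L, g ∈ (P : Subgroup L) ↔ g ^ 4 = 1 := by
    have hfour : ∀ g ∈ (P : Subgroup L), g ^ 4 = 1 := fun g hg => by
      have := quat_eight_facts (eP' ⟨g, hg⟩)
      rw [← map_pow, MulEquiv.map_eq_one_iff] at this
      exact congrArg Subtype.val this
    have hset : ((P : Subgroup L) : Set L) = {g | g ^ 4 = 1} := by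
      refine Set.eq_of_subset_of_ncard_le hfour (le_of_eq ?_)
      rw [← Nat.card_coe_set_eq, ← Nat.card_coe_set_eq]
      refine Eq.trans ?_ hP8.symm
      rw [← sl_three_fourth h3]
      exact Nat.card_congr (eL.toEquiv.subtypeEquiv fun g => by
        show g ^ 4 = 1 ↔ eL g ^ 4 = 1
        rw [← map_pow, MulEquiv.map_eq_one_iff])
    intro g
    exact Set.ext_iff.1 hset g
  set Q := (P : Subgroup L).map L.subtype with hQ
  haveI hQn : Q.Normal := ⟨fun a ha g => by
    obtain ⟨a, ha, rfl⟩ := ha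
    refine ⟨⟨g * a * g⁻¹, (inferInstance : L.Normal).conj_mem a a.2 g⟩, (hP4 _).2 (Subtype.ext ?_), rfl⟩
    show (g * (a : H) * g⁻¹) ^ 4 = 1
    rw [_root_.conj_pow, ← SubmonoidClass.coe_pow, (hP4 a).1 ha]
    simp⟩
  have hQS : Q ≤ (S : Subgroup H) := h.normal_le hQn (P.2.map _)
  let eQ : Q ≃* QuaternionGroup 2 :=
    ((P : Subgroup L).equivMapOfInjective L.subtype L.subtype_injective).symm.trans eP'
  obtain ⟨b, c, hb, hc, hbQ, hcQ, hbc⟩ : ∃ b c : H, b ∈ (S : Subgroup H) ∧ c ∈ (S : Subgroup H) ∧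
      b ∈ Q ∧ c ∈ Q ∧ b * c ≠ c * b := by
    refine ⟨_, _, hQS (eQ.symm (.a 1)).2, hQS (eQ.symm (.xa 0)).2, (eQ.symm (.a 1)).2,
      (eQ.symm (.xa 0)).2, fun e => ?_⟩
    have e' := congrArg eQ (Subtype.ext e : eQ.symm (.a 1) * eQ.symm (.xa 0) = eQ.symm (.xa 0) * eQ.symm (.a 1))
    simp only [map_mul, MulEquiv.apply_symm_apply] at e'
    revert e'
    decide
  set K := centralizer (Q : Set H) with hK
  haveI hKn : K.Normal := Subgroup.normal_centralizer
  obtain ⟨PK, hPK⟩ := exists_sylow_inf S hKn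
  have hKS : ∀ w : K, w ∈ (PK : Subgroup K) → (w : H) = 1 ∨ (w : H) = z := fun w hw =>
    h.pair (mem_subgroupOf.1 (hPK ▸ hw)) hb hc (mem_centralizer_iff.1 w.2 b hbQ).symm
      (mem_centralizer_iff.1 w.2 c hcQ).symm hbc
  have hKcard : Nat.card K = 2 ∧ ∀ w ∈ K, w = 1 ∨ w = z := by
    have hcen : ∀ (w : K), w ∈ (PK : Subgroup K) → ∀ g : K, g * w = w * g := fun w hw g => Subtype.ext (by
      rcases hKS w hw with e | e
      · show (g : H) * (w : H) = (w : H) * g
        rw [e, one_mul, mul_one]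
      · show (g : H) * (w : H) = (w : H) * g
        rw [e]; exact h.hzc g)
    have hnc' : normalizer ((PK : Subgroup K) : Set K) ≤ centralizer ((PK : Subgroup K) : Set K) :=
      fun g _ => mem_centralizer_iff.2 fun w hw => (hcen w hw g).symm
    have hcomp := MonoidHom.ker_transferSylow_isComplement' PK hnc'
    set N := (MonoidHom.transferSylow PK hnc').ker with hN
    have hNodd : (Nat.card N).Coprime 2 := Nat.coprime_two_right.2 (Nat.odd_iff.2 (Nat.two_dvd_ne_zero.1 (by
      rw [← hcomp.index_eq_card]; exact PK.not_dvd_index)))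
    have hN1 : N = ⊥ := by
      refine eq_bot_iff.2 ((Grp.le_pPrimeCore (inferInstance : N.Normal) hNodd).trans (le_of_eq ?_))
      refine (Subgroup.map_eq_bot_iff_of_injective _ K.subtype_injective).1 (eq_bot_iff.2 ?_)
      rw [Grp.pPrimeCore_map_eq]
      exact inf_le_left.trans h.hO.le
    have hPKtop : (PK : Subgroup K) = ⊤ := by
      have := hcomp.sup_eq_top
      rwa [hN1, bot_sup_eq] at this
    have hall : ∀ w ∈ K, w = 1 ∨ w = z := fun w hw => hKS ⟨w, hw⟩ (hPKtop ▸ mem_top _)
    refine ⟨?_, hall⟩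
    have hzK : z ∈ K := mem_centralizer_iff.2 fun w _ => h.hzc w
    rw [Nat.card_eq_two_iff]
    refine ⟨1, ⟨z, hzK⟩, fun e => h.z_ne (congrArg Subtype.val e).symm, ?_⟩
    ext ⟨w, hw⟩
    simp only [Set.mem_insert_iff, Set.mem_singleton_iff, Subtype.ext_iff, Set.mem_univ, iff_true]
    exact hall w hw
  have h48 : Nat.card H = 48 := by
    let φ : H →* MulAut (QuaternionGroup 2) :=
      { toFun := fun g => (eQ.symm.trans (MulAut.conjNormal g)).trans eQ
        map_one' := MulEquiv.ext fun x => by simp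
        map_mul' := fun g g' => MulEquiv.ext fun x => by simp }
    have hker : φ.ker = K := by
      ext g
      constructor
      · intro hg
        refine mem_centralizer_iff.2 fun w hw => ?_
        have := DFunLike.congr_fun hg (eQ ⟨w, hw⟩)
        simp only [φ, MonoidHom.coe_mk, OneHom.coe_mk, MulEquiv.trans_apply, MulEquiv.symm_apply_apply,
          MulAut.one_apply, EmbeddingLike.apply_eq_iff_eq] at this
        have := congrArg Subtype.val this
        rw [MulAut.conjNormal_apply, mul_inv_eq_iff_eq_mul] at this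
        exact this.symm
      · intro hg
        refine MulEquiv.ext fun x => ?_
        show eQ (MulAut.conjNormal g (eQ.symm x)) = x
        rw [show MulAut.conjNormal g (eQ.symm x) = eQ.symm x from Subtype.ext (by
          rw [MulAut.conjNormal_apply, ← mem_centralizer_iff.1 hg _ (eQ.symm x).2, mul_inv_cancel_right]),
          MulEquiv.apply_symm_apply]
    have h1 := φ.ker.card_mul_index
    rw [index_ker, hker, hKcard.1] at h1
    have h24 : Nat.card φ.range ∣ 24 := (card_subgroup_dvd_card _).trans Block.SharpTwo.q8_aut_card_dvd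
    have h3' : 3 ∣ Nat.card H := by
      refine dvd_trans ?_ L.card_subgroup_dvd_card
      rw [hL24]; norm_num
    obtain ⟨m, hm⟩ := IsPGroup.iff_card.1 S.2
    have hS2 : 16 ∣ Nat.card H := by
      have h16 := h.h16
      rw [hm] at h16
      refine dvd_trans (pow_dvd_pow 2 ((Nat.pow_le_pow_iff_right (le_refl 2)).1 h16 : 4 ≤ m)) ?_
      rw [← hm]; exact (S : Subgroup H).card_subgroup_dvd_card
    rw [← h1] at h3' hS2 ⊢
    have hle := Nat.le_of_dvd (by norm_num) h24
    have h48' : 48 ∣ 2 * Nat.card φ.range :=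
      Nat.Coprime.mul_dvd_of_dvd_of_dvd (show Nat.Coprime 16 3 by norm_num) hS2 h3'
    have := Nat.le_of_dvd (Nat.mul_pos two_pos Nat.card_pos) h48'
    omega
  refine Invol.L33Ord.mulEquiv_gl h48 Q eQ ?_ h.v_sq fun hvQ => hvL (map_subtype_le _ hvQ)
  intro w hw
  rcases hKcard.2 w hw with rfl | rfl
  · exact one_mem _
  · exact ⟨⟨w, hzL⟩, (hP4 _).2 (Subtype.ext (show w ^ 4 = 1 by
      rw [show (4 : ℕ) = 2 * 2 from rfl, pow_mul, pow_two w, h.z_sq, one_pow])), rfl⟩

theorem recognise (h : SDH S z v y) (hodd : Odd (Fintype.card F))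
    (eL : commutator H ≃* Matrix.SpecialLinearGroup (Fin 2) F) : Nonempty (H ≃* Invol.GL23.Q) := by
  rcases (show Fintype.card F = 3 ∨ 3 < Fintype.card F by
      have := Fintype.one_lt_card (α := F); obtain ⟨m, hm⟩ := hodd; omega) with h3 | h3
  · exact h.three_field hodd h3 eL
  · exact (h.large_field hodd h3 eL).elim

end Derived

end SDH

end Cfsg.Agent.Transfer.SubThree
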