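import Cfsg.Agent.Lib.Transfer.SubThree.Shape
import Cfsg.Agent.Lib.Invol.QuasiDihedral
import Cfsg.Agent.Lib.Fus.PSLTwo
import Cfsg.Agent.Lib.Block.Zas.FieldCongr

/-!
# Semidihedral groups, `SL₂(q)` and perfect groups: small tools
-/

set_option autoImplicit false
set_option linter.unusedSectionVars false
set_option linter.style.haveILetI false

namespace Cfsg.Agent.Transfer.SubThree

open Subgroup

/-- In a semidihedral group only the centre commutes with two non-commuting elements. -/
theorem qd_pair {P : Type*} [Group P] (hP : Cfsg.IsQuasiDihedral P) {z : P} (hz : z ≠ 1)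
    (hzc : ∀ s : P, s * z = z * s) {a b c : P} (hab : a * b = b * a) (hac : a * c = c * a)
    (hbc : b * c ≠ c * b) : a = 1 ∨ a = z := by
  obtain ⟨n, x, y, h⟩ := Invol.exists_qd hP
  set Z := x ^ (2 * Invol.qq n) with hZ
  have hZ2 : Z * Z = 1 := by rw [hZ, ← zpow_add, h.zpow_eq_one]; exact ⟨1, by ring⟩
  have hdiv : ∀ j : ℤ, 4 * Invol.qq n ∣ j * (2 * Invol.qq n - 2) → x ^ j = 1 ∨ x ^ j = Z := by
    intro j hj
    obtain ⟨c, hc⟩ := hj
    obtain ⟨e, he⟩ := h.qq_sq
    have hj' : 2 * Invol.qq n ∣ j :=
      ⟨e * j - c * (Invol.qq n + 1), mul_left_cancel₀ (two_ne_zero (α := ℤ))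
        (by linear_combination (-(Invol.qq n + 1)) * hc + 2 * j * he)⟩
    obtain ⟨d, rfl⟩ := hj'
    refine (h.zpow_sq _).1 ?_
    rw [← zpow_add, h.zpow_eq_one]
    exact ⟨d, by ring⟩
  have hy : ∀ i j : ℤ, x ^ i * y * x ^ j = x ^ j * (x ^ i * y) → x ^ j = 1 ∨ x ^ j = Z := by
    intro i j e
    rw [h.mul_y_mul_zpow, ← mul_assoc, ← zpow_add, h.mul_y_eq] at e
    obtain ⟨c, hc⟩ := e
    exact hdiv j ⟨c, by linear_combination hc⟩
  have key : ∀ a b c : P, a * b = b * a → a * c = c * a → b * c ≠ c * b → a = 1 ∨ a = Z := by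
    intro a b c hab hac hbc
    obtain ⟨i, rfl | rfl⟩ := h.cases' a
    · obtain ⟨j, rfl | rfl⟩ := h.cases' b
      · obtain ⟨k, rfl | rfl⟩ := h.cases' c
        · exact absurd (by rw [← zpow_add, ← zpow_add, add_comm]) hbc
        · exact hy k i hac.symm
      · exact hy j i hab.symm
    · exfalso
      have hmem : ∀ s : P, x ^ i * y * s = s * (x ^ i * y) →
          s = 1 ∨ s = Z ∨ s = x ^ i * y ∨ s = Z * (x ^ i * y) := by
        intro s hs
        obtain ⟨j, rfl | rfl⟩ := h.cases' s
        · rcases hy i j hs with e | e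
          · exact Or.inl e
          · exact Or.inr (Or.inl e)
        · have e1 : x ^ j * y = x ^ (j - i) * (x ^ i * y) := by rw [← mul_assoc, ← zpow_add, sub_add_cancel]
          rw [e1, ← mul_assoc] at hs
          rcases hy i (j - i) (mul_right_cancel hs) with e | e <;> rw [e1, e]
          · exact Or.inr (Or.inr (Or.inl (one_mul _)))
          · exact Or.inr (Or.inr (Or.inr rfl))
      have hcomm : Commute (x ^ i * y) Z := h.z_central _
      have hb : Commute Z Z := Commute.refl _
      refine hbc (show Commute b c from ?_)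
      rcases hmem b hab with rfl | rfl | rfl | rfl <;> rcases hmem c hac with rfl | rfl | rfl | rfl
      all_goals first
        | exact Commute.one_left _
        | exact Commute.one_right _
        | exact Commute.refl _
        | exact hcomm
        | exact hcomm.symm
        | exact (hb.mul_right hcomm.symm)
        | exact (hb.mul_right hcomm.symm).symm
        | exact (hcomm.mul_right (Commute.refl _))
        | exact (hcomm.mul_right (Commute.refl _)).symm
  have hxy : x * y ≠ y * x := by
    intro e
    rcases hy 0 1 (by rw [zpow_zero, one_mul, zpow_one]; exact e.symm) with e' | e'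
    · rw [zpow_one] at e'
      have := h.ox
      rw [e', orderOf_one] at this
      exact absurd this.symm (Nat.one_lt_two_pow (by have := h.hn; omega)).ne'
    · have h2 : x ^ (2 : ℤ) = 1 := by rw [zpow_two, ← zpow_one x, e', hZ2]
      rw [h.zpow_eq_one] at h2
      obtain ⟨r, hr⟩ := h.qq_even
      have := Int.le_of_dvd (by norm_num) h2
      have := h.qq_pos
      omega
  have hzZ : z = Z := (key z x y (hzc x).symm (hzc y).symm hxy).resolve_left hz
  rw [hzZ]
  exact key a b c hab hac hbc

section SL

variable {F : Type} [Field F] [Fintype F]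

/-- The involution of `SL₂(q)` is unique. -/
theorem sl_unique_invol (hodd : Odd (Fintype.card F)) {a b : Matrix.SpecialLinearGroup (Fin 2) F}
    (ha : a * a = 1) (ha1 : a ≠ 1) (hb : b * b = 1) (hb1 : b ≠ 1) : a = b := by
  have h2 : (2 : F) ≠ 0 := Fus.PSLTwo.two_ne_zero_of_odd (Nat.odd_iff.1 hodd)
  have key : ∀ x : Matrix.SpecialLinearGroup (Fin 2) F, x * x = 1 → x ≠ 1 →
      (x : Matrix (Fin 2) (Fin 2) F) = -1 := by
    intro x hx hx1
    have hd := x.2
    rw [Matrix.det_fin_two] at hd
    have hM := congrArg (fun m : Matrix.SpecialLinearGroup (Fin 2) F => (m : Matrix (Fin 2) (Fin 2) F)) hx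
    simp only [Matrix.SpecialLinearGroup.coe_mul, Matrix.SpecialLinearGroup.coe_one] at hM
    have e00 := congrFun (congrFun hM 0) 0
    have e01 := congrFun (congrFun hM 0) 1
    have e10 := congrFun (congrFun hM 1) 0
    have e11 := congrFun (congrFun hM 1) 1
    simp [Matrix.mul_apply, Fin.sum_univ_two] at e00 e01 e10 e11
    set p := (x : Matrix (Fin 2) (Fin 2) F) 0 0
    set q := (x : Matrix (Fin 2) (Fin 2) F) 0 1
    set r := (x : Matrix (Fin 2) (Fin 2) F) 1 0
    set s := (x : Matrix (Fin 2) (Fin 2) F) 1 1
    by_cases ht : p + s = 0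
    · exfalso
      have : (2 : F) = 0 := by linear_combination p * ht - e00 - hd
      exact h2 this
    · have hq : q = 0 := (mul_eq_zero.1 (show q * (p + s) = 0 by linear_combination e01)).resolve_right ht
      have hr : r = 0 := (mul_eq_zero.1 (show r * (p + s) = 0 by linear_combination e10)).resolve_right ht
      rw [hq, hr] at e00
      have hp : p * p = 1 := by linear_combination e00
      have hsp : s = p := by rw [hq, hr] at hd; linear_combination p * hd - s * hp
      rcases mul_self_eq_one_iff.1 hp with hp1 | hp1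
      · exfalso
        refine hx1 (Subtype.ext ?_)
        ext i j
        fin_cases i <;> fin_cases j <;> simp
        · exact hp1
        · exact hq
        · exact hr
        · exact hsp.trans hp1
      · ext i j
        fin_cases i <;> fin_cases j <;> simp
        · exact hp1
        · exact hq
        · exact hr
        · exact hsp.trans hp1
  exact Subtype.ext ((key a ha ha1).trans (key b hb hb1).symm)

/-- The elements of exponent four of `SL₂(3)`. -/
theorem sl_three_fourth (h3 : Fintype.card F = 3) :
    Nat.card {g : Matrix.SpecialLinearGroup (Fin 2) F // g ^ 4 = 1} = 8 := by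
  haveI : Fact (Nat.Prime 3) := ⟨Nat.prime_three⟩
  haveI : CharP F 3 := charP_of_card_eq_prime h3
  let f : F ≃+* ZMod 3 := (ZMod.ringEquiv F h3).symm
  let e : Matrix.SpecialLinearGroup (Fin 2) F ≃* Matrix.SpecialLinearGroup (Fin 2) (ZMod 3) :=
    MonoidHom.toMulEquiv (Matrix.SpecialLinearGroup.map (f : F →+* ZMod 3))
      (Matrix.SpecialLinearGroup.map (f.symm : ZMod 3 →+* F))
      (MonoidHom.ext fun g => Subtype.ext (Matrix.ext fun i j => f.symm_apply_apply _))
      (MonoidHom.ext fun g => Subtype.ext (Matrix.ext fun i j => f.apply_symm_apply _))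
  rw [Nat.card_congr (e.toEquiv.subtypeEquiv (q := fun g => g ^ 4 = 1) fun g => by
    rw [MulEquiv.toEquiv_eq_coe, EquivLike.coe_coe, ← map_pow, MulEquiv.map_eq_one_iff]),
    Nat.card_eq_fintype_card]
  decide +kernel

end SL

theorem perfect_to_solvable {X M : Type*} [Group X] [Group M] [Group.IsPerfect X] (hM : Group.IsSolvable M)
    (f : X →* M) (x : X) : f x = 1 := by
  by_contra h
  haveI := hM
  haveI : Group.IsPerfect f.range := Group.IsPerfect.range f
  haveI : Nontrivial f.range := nontrivial_of_ne ⟨f x, x, rfl⟩ 1 fun e => h (congrArg Subtype.val e)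
  exact Group.IsPerfect.not_isSolvable f.range inferInstance

theorem quat_eight_facts : ∀ g : QuaternionGroup 2, g ^ 4 = 1 := by decide +kernel

end Cfsg.Agent.Transfer.SubThree
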