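import Cfsg.Agent.Lib.Transfer.SubThree.Basic
import Cfsg.Agent.Lib.Fus.SelfCentThree.Main
import Cfsg.Agent.S5938
import Cfsg.Agent.S0144
import Cfsg.Agent.Lib.Invol.GW.Consumers.Dihedral

/-!
# Stabilisers of order three and six: the group is the alternating group of degree five
-/

set_option autoImplicit false
set_option linter.unusedSectionVars false
set_option linter.style.haveILetI false

namespace Cfsg.Agent.Transfer.SubThree

open Subgroup

universe u

variable {G : Type u} [Group G] [Finite G] {A : Subgroup G}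

/-- Six elements normalising a subgroup of order three in the symmetric group of degree four. -/
theorem perm_four_six :
    ∃ c : Equiv.Perm (Fin 4), c * c * c = 1 ∧ c ≠ 1 ∧
      6 ≤ (Finset.univ.filter fun σ : Equiv.Perm (Fin 4) => σ * c * σ⁻¹ = c ∨ σ * c * σ⁻¹ = c * c).card := by
  refine ⟨Equiv.swap 0 1 * Equiv.swap 1 2, ?_, ?_, ?_⟩ <;> decide +kernel

theorem card_psl_seven : Nat.card (Matrix.ProjectiveSpecialLinearGroup (Fin 2) (ZMod 7)) = 168 := by
  haveI : Fact (Nat.Prime 7) := ⟨by norm_num⟩
  have h := Invol.GW.card_PSLTwo (F := ZMod 7) (by rw [ZMod.card]; decide)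
  rw [ZMod.card] at h
  omega

/-- A maximal subgroup `A` of order three or six containing its self-centralising subgroup of order three
does not occur in `PSL₂(7)`. -/
theorem Ctx.not_seven (d : Ctx A) {X : Subgroup G} (hX : Nat.card X = 3) (hXA : X ≤ A)
    (hAX : A ≤ normalizer (X : Set G)) (hA : Nat.card A ≤ 6)
    (e : G ≃* Matrix.ProjectiveSpecialLinearGroup (Fin 2) (ZMod 7)) : False := by
  classical
  haveI : Fact (Nat.Prime 7) := ⟨by norm_num⟩
  haveI : Fact (Nat.Prime 3) := ⟨Nat.prime_three⟩
  obtain ⟨H₀, hH₀, ⟨f₀⟩⟩ := Cfsg.Agent.S5938.result (F := ZMod 7) 7 (ZMod.card 7) (Or.inr rfl)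
  have hG : Nat.card G = 168 := by rw [Nat.card_congr e.toEquiv, card_psl_seven]
  let H : Subgroup G := H₀.map e.symm.toMonoidHom
  have f : Equiv.Perm (Fin 4) ≃* H :=
    f₀.symm.trans (H₀.equivMapOfInjective _ e.symm.injective)
  obtain ⟨c, hc3, hc1, hc6⟩ := perm_four_six
  let y : G := (f c : G)
  have hy : orderOf y = 3 := by
    rw [Subgroup.orderOf_coe, MulEquiv.orderOf_eq]
    exact orderOf_eq_prime (by rw [pow_succ, pow_two]; exact hc3) hc1
  have hfac : 3 ^ (Nat.card G).factorization 3 = 3 := by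
    rw [hG]
    have : (168 : ℕ).factorization 3 = 1 := by
      rw [show (168 : ℕ) = 3 ^ 1 * 56 by norm_num, Nat.factorization_mul (by norm_num) (by norm_num),
        Finsupp.add_apply, Nat.Prime.factorization_pow Nat.prime_three,
        Nat.factorization_eq_zero_of_not_dvd (by norm_num : ¬ 3 ∣ 56)]
      simp
    rw [this, pow_one]
  let P : Sylow 3 G := Sylow.ofCard X (by rw [hX, hfac])
  let Q : Sylow 3 G := Sylow.ofCard (zpowers y) (by rw [Nat.card_zpowers, hy, hfac])
  obtain ⟨g, hg⟩ := MulAction.exists_smul_eq G P Q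
  have hgX : X.map (MulAut.conj g).toMonoidHom = zpowers y := congrArg (fun R : Sylow 3 G => (R : Subgroup G)) hg
  have hN : normalizer (X : Set G) = A := d.normalizer_eq hAX hXA fun e => by
    rw [e, card_bot] at hX; omega
  let B : Subgroup G := A.map (MulAut.conj g).toMonoidHom
  let S6 := Finset.univ.filter fun σ : Equiv.Perm (Fin 4) => σ * c * σ⁻¹ = c ∨ σ * c * σ⁻¹ = c * c
  have hmem : ∀ σ ∈ S6, (f σ : G) ∈ B := by
    intro σ hσ
    have h2 : (f σ : G) * y * (f σ : G)⁻¹ ∈ zpowers y := by
      have : (f σ : G) * y * (f σ : G)⁻¹ = ((f (σ * c * σ⁻¹) : H) : G) := by simp [y]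
      rw [this]
      rcases (Finset.mem_filter.1 hσ).2 with e | e <;> rw [e]
      · exact mem_zpowers y
      · rw [map_mul]; exact mul_mem (mem_zpowers y) (mem_zpowers y)
    have h3 : (f σ : G) ∈ normalizer (zpowers y : Set G) := by
      have hz : (zpowers y).map (MulAut.conj (f σ : G)).toMonoidHom = zpowers y := by
        rw [MonoidHom.map_zpowers]
        refine eq_of_le_of_card_ge (zpowers_le.2 h2) ?_
        rw [Nat.card_zpowers, Nat.card_zpowers]
        exact (MulEquiv.orderOf_eq (MulAut.conj (f σ : G)) y).ge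
      exact mem_normalizer_iff_map_conj_eq.2 hz
    rw [← hgX] at h3
    show (f σ : G) ∈ A.map _
    rw [← hN, Subgroup.map_normalizer_eq_of_bijective _ (MulAut.conj g).bijective]
    exact h3
  have hBc : Nat.card B = Nat.card A :=
    (Nat.card_congr (Subgroup.equivMapOfInjective A (MulAut.conj g).toMonoidHom
      (MulAut.conj g).injective).toEquiv).symm
  have h6 : 6 ≤ Nat.card ↥(B ⊓ H) := by
    refine le_trans hc6 ?_
    rw [← Fintype.card_coe, ← Nat.card_eq_fintype_card]
    refine Nat.card_le_card_of_injective (fun σ => ⟨(f σ.1 : G), hmem σ.1 σ.2, (f σ.1).2⟩) ?_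
    intro a b h
    exact Subtype.ext (f.injective (Subtype.ext (congrArg Subtype.val h :)))
  have hBH : B ≤ H := by
    have := eq_of_le_of_card_ge (inf_le_left : B ⊓ H ≤ B) (by omega)
    exact this ▸ inf_le_right
  have hB : IsCoatom B := (OrderIso.isCoatom_iff (MulAut.conj g).mapSubgroup A).2 d.coatom
  have hHc : Nat.card H = 24 := by
    rw [← Nat.card_congr f.toEquiv, Nat.card_perm, Nat.card_fin]; rfl
  rcases hB.le_iff.1 hBH with e1 | e1
  · rw [e1, card_top, hG] at hHc; omega
  · rw [e1, hBc] at hHc; omega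

/-- Stabilisers of order three and six. -/
theorem Ctx.small (d : Ctx A) {X : Subgroup G} (hX : Nat.card X = 3) (hXA : X ≤ A)
    (hAX : A ≤ normalizer (X : Set G)) (hA : Nat.card A ≤ 6)
    (hCA : ∀ a ∈ A, (∀ x ∈ X, a * x = x * a) → a ∈ X) :
    Nonempty (G ≃* alternatingGroup (Fin 5)) := by
  have hC : centralizer (X : Set G) = X := by
    refine le_antisymm (fun a ha => hCA a ?_ fun x hx => (mem_centralizer_iff.1 ha x hx).symm) ?_
    · exact d.centralizer_le hAX hXA (fun e => by rw [e, card_bot] at hX; omega) ha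
    · haveI : IsCyclic X := isCyclic_of_prime_card (p := 3) hX
      intro a ha
      rw [mem_centralizer_iff]
      intro x hx
      exact congrArg Subtype.val ((IsCyclic.commGroup (α := X)).mul_comm ⟨x, hx⟩ ⟨a, ha⟩)
  rcases Fus.SCThree.concl_of_self_centralizing hX hC with ⟨N, hN, hnil, -, hq⟩ | ⟨N, hN, hcomm, -, ⟨e⟩⟩ | ⟨⟨e⟩⟩
  · exfalso
    haveI := hN
    haveI := hnil
    by_cases hN1 : N = ⊥
    · refine d.ns ?_
      have hsol : Group.IsSolvable (G ⧸ N) := by
        rcases hq with h | ⟨⟨e⟩⟩
        · haveI : Fact (Nat.Prime 3) := ⟨Nat.prime_three⟩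
          haveI : IsCyclic (G ⧸ N) := isCyclic_of_prime_card (p := 3) h
          exact Group.isSolvable_of_comm fun a b => (IsCyclic.commGroup (α := G ⧸ N)).mul_comm a b
        · haveI : Group.IsSolvable (Equiv.Perm (Fin 3)) := by
            refine Cfsg.Agent.S0144.result 2 3 1 1 Nat.prime_two Nat.prime_three ?_
            rw [Nat.card_eq_fintype_card, Fintype.card_perm, Fintype.card_fin]
            rfl
          exact Group.isSolvable_of_surjective (f := e.symm.toMonoidHom) e.symm.surjective
      haveI := hsol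
      exact Group.isSolvable_of_ker_le_range N.subtype (QuotientGroup.mk' N) (by simp)
    · exact d.not_solvable hN hN1 inferInstance
  · haveI := hN
    have hN1 : N = ⊥ := by
      by_contra h
      exact d.not_solvable hN h (Group.isSolvable_of_comm fun a b => hcomm.1.1 a b)
    subst hN1
    exact ⟨QuotientGroup.quotientBot.symm.trans e⟩
  · exact (d.not_seven hX hXA hAX hA e).elim

end Cfsg.Agent.Transfer.SubThree
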